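import Mathlib
import Cfsg.Agent.S0205
import Cfsg.Agent.S3371
import Cfsg.Agent.Lib.Grp.Solvable
import Cfsg.Agent.Lib.Grp.FrobeniusTower

/-!
Groups of automorphisms of an elementary abelian 2-group, transitive on the nonidentity elements, in
which every nonidentity element has odd prime order and every stabilizer has exponent `r`.
-/

set_option autoImplicit false
set_option linter.unusedSectionVars false

namespace Cfsg.Agent.Recog.OneComp

open Subgroup

universe u

variable {V : Type u} [CommGroup V] [Finite V]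

/-- A normal `p`-subgroup (`p` odd) of a transitive group is cyclic and acts without fixed points. -/
theorem semiregular_of_normal (hV : ∀ v : V, v * v = 1) (hne : ∃ v : V, v ≠ 1)
    (A : Subgroup (MulAut V)) (htr : ∀ v w : V, v ≠ 1 → w ≠ 1 → ∃ α ∈ A, α v = w)
    {p : ℕ} [hp : Fact p.Prime] (hp2 : p ≠ 2) (C : Subgroup ↥A) [hCn : C.Normal] (hC : IsPGroup p C) :
    IsCyclic C ∧ ∀ c ∈ C, ∀ v : V, v ≠ 1 → (c : MulAut V) v = v → c = 1 := by
  classical
  haveI : Fact (Nat.Prime 2) := ⟨Nat.prime_two⟩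
  letI : Module (ZMod 2) (Additive V) := AddCommGroup.zmodModule (fun x => by
    rw [two_nsmul]; exact hV x)
  haveI : Nontrivial (Additive V) := by
    obtain ⟨v, hv⟩ := hne
    exact ⟨Additive.ofMul v, 0, hv⟩
  let ρ : ↥C →* (Additive V ≃ₗ[ZMod 2] Additive V) :=
    { toFun := fun c =>
        { MulEquiv.toAdditive ((c : ↥A) : MulAut V) with
          map_smul' := fun k x => ZMod.map_smul (MulEquiv.toAdditive ((c : ↥A) : MulAut V)) k x }
      map_one' := by ext x; rfl
      map_mul' := fun a b => by ext x; rfl }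
  have hρ : Function.Injective ρ := by
    intro a b hab
    refine Subtype.ext (Subtype.ext (MulEquiv.ext fun v => ?_))
    exact congrArg Additive.toMul (LinearEquiv.congr_fun hab (Additive.ofMul v))
  have hval : ∀ (c : ↥C) (v : Additive V),
      ρ c v = Additive.ofMul (((c : ↥A) : MulAut V) v.toMul) := fun _ _ => rfl
  have hhalf : ∀ v w : Additive V, v ≠ 0 → w ≠ 0 →
      Nat.card {u : Additive V | ∃ g : ↥C, ρ g v = u} = Nat.card {u : Additive V | ∃ g : ↥C, ρ g w = u} := by
    intro v w hv hw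
    obtain ⟨α, hα, hαv⟩ := htr v.toMul w.toMul hv hw
    refine Nat.card_congr ((MulEquiv.toAdditive α).toEquiv.subtypeEquiv fun u => ?_)
    constructor
    · rintro ⟨g, hg⟩
      refine ⟨⟨⟨α, hα⟩ * g * ⟨α, hα⟩⁻¹, hCn.conj_mem g g.2 _⟩, ?_⟩
      rw [← hg, hval, hval, ← hαv]
      show Additive.ofMul (α (((g : ↥A) : MulAut V) ((α⁻¹ : MulAut V) (α v.toMul)))) = _
      rw [MulAut.inv_apply_self]
      rfl
    · rintro ⟨g, hg⟩
      refine ⟨⟨⟨α, hα⟩⁻¹ * g * ⟨α, hα⟩, by simpa using hCn.conj_mem g g.2 (⟨α, hα⟩⁻¹ : ↥A)⟩, ?_⟩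
      rw [hval] at hg ⊢
      show Additive.ofMul ((α⁻¹ : MulAut V) (((g : ↥A) : MulAut V) (α v.toMul))) = u
      rw [hαv]
      have := congrArg Additive.toMul hg
      simp only [toMul_ofMul] at this
      rw [this]
      exact congrArg Additive.ofMul (MulAut.inv_apply_self _ α u.toMul)
  have hfix : (∀ v : Additive V, v ≠ 0 → ∀ g : ↥C, ρ g v = v → g = 1) →
      ∀ c ∈ C, ∀ v : V, v ≠ 1 → (c : MulAut V) v = v → c = 1 := by
    intro hh c hc v hv hcv
    exact congrArg Subtype.val (hh (Additive.ofMul v) hv ⟨c, hc⟩ (congrArg Additive.ofMul hcv))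
  have hodd : ∀ c : ↥C, c ^ 2 = 1 → c = 1 := by
    intro c hc
    obtain ⟨k, hk⟩ := hC c
    exact orderOf_eq_one_iff.1 (Nat.eq_one_of_dvd_coprimes
      (Nat.Coprime.pow_left k ((Nat.coprime_primes hp.out Nat.prime_two).2 hp2))
      (orderOf_dvd_of_pow_eq_one hk) (orderOf_dvd_of_pow_eq_one hc))
  have heven : ¬ 2 ∣ Nat.card ↥C := fun hd => by
    obtain ⟨c, hc⟩ := exists_prime_orderOf_dvd_card' 2 hd
    have := hodd c (by rw [← hc, pow_orderOf_eq_one])
    rw [this, orderOf_one] at hc
    exact absurd hc (by norm_num)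
  rcases Cfsg.Agent.S3371.result 2 p hC ρ hρ hhalf with
    ⟨hcq, hreg⟩ | ⟨-, m, -, hd | hq⟩ | ⟨h4, ⟨m, hm⟩, e, he⟩ | ⟨-, hq, -⟩
  · refine ⟨?_, hfix hreg⟩
    rcases hcq with hc | ⟨n, ⟨φ⟩⟩
    · exact hc
    · exfalso
      set x : QuaternionGroup n := QuaternionGroup.xa 0
      have h4 : x * x * (x * x) = 1 := by
        have := QuaternionGroup.xa_pow_four (0 : ZMod (2 * n))
        rwa [pow_succ, pow_succ, pow_two, mul_assoc] at this
      have h1 := hodd (φ.symm (x * x)) (by rw [pow_two, ← map_mul, h4, map_one])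
      have h2 := hodd (φ.symm x) (by rw [pow_two, ← map_mul]; exact h1)
      rw [MulEquiv.map_eq_one_iff, QuaternionGroup.one_def] at h2
      exact nomatch (h2 : QuaternionGroup.xa (0 : ZMod (2 * n)) = QuaternionGroup.a 0)
  · refine absurd ?_ heven
    obtain ⟨φ⟩ := hd
    rw [Nat.card_congr φ.toEquiv, DihedralGroup.nat_card]
    exact dvd_mul_right 2 _
  · refine absurd ?_ heven
    rw [hq.2]
    exact dvd_pow_self 2 (by omega)
  · have htriv : ∀ c : ↥C, c = 1 := by
      intro c
      refine hodd c (hρ ?_)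
      obtain ⟨a, s, ha, hs, hmaps⟩ := (he (e.symm.trans ((ρ c).trans e))).1 ⟨c, rfl⟩
      have ha1 : a = 1 := by fin_cases a <;> first | rfl | exact absurd rfl ha
      have hs1 : s = 1 := by rcases hs with rfl | rfl <;> rfl
      have hf : ∀ v, (e.symm.trans ((ρ c).trans e)) ((e.symm.trans ((ρ c).trans e)) v) = v := by
        intro v
        rcases hmaps with hm | hm
        · rw [hm, hm]; subst ha1 hs1; funext i; fin_cases i <;> simp
        · rw [hm, hm]; subst ha1 hs1; funext i; fin_cases i <;> simp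
      rw [map_pow, map_one, pow_two]
      refine LinearEquiv.ext fun v => e.injective ?_
      have := hf (e v)
      simpa using this
    haveI : Subsingleton ↥C := ⟨fun a b => (htriv a).trans (htriv b).symm⟩
    exact ⟨inferInstance, fun c hc v _ _ => congrArg Subtype.val (htriv ⟨c, hc⟩)⟩
  · omega

/-- The structure of the automizer. -/
theorem aut_structure (hV : ∀ v : V, v * v = 1) (hV3 : 3 ≤ Nat.card V) {r : ℕ} (hr : r.Prime)
    (A : Subgroup (MulAut V)) (hA : ∀ α ∈ A, α ≠ 1 → (orderOf α).Prime ∧ orderOf α ≠ 2)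
    (htr : ∀ v w : V, v ≠ 1 → w ≠ 1 → ∃ α ∈ A, α v = w)
    (hst : ∀ α ∈ A, ∀ v : V, v ≠ 1 → α v = v → α ^ r = 1) :
    ∃ p : ℕ, p.Prime ∧ p ≠ 2 ∧ Nat.card V = p + 1 ∧ ∃ X : Subgroup (MulAut V), X ≤ A ∧ Nat.card X = p ∧
      A ≤ normalizer (X : Set (MulAut V)) ∧ (∀ x ∈ X, x ≠ 1 → ∀ v : V, v ≠ 1 → x v ≠ v) ∧
      (∀ α ∈ A, α ^ p = 1 → α ∈ X) ∧ (∀ α ∈ A, ∀ x ∈ X, x ≠ 1 → Commute α x → α ∈ X) ∧
      (Nat.card A = p ∨ (r ≠ p ∧ Nat.card A = p * r)) := by
  classical
  haveI : Finite (MulAut V) :=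
    Finite.of_injective (fun α : MulAut V => (α : V → V)) DFunLike.coe_injective
  haveI := Fintype.ofFinite V
  obtain ⟨v₀, hv₀⟩ : ∃ v : V, v ≠ 1 := by
    haveI : Nontrivial V := Finite.one_lt_card_iff_nontrivial.1 (by omega)
    exact exists_ne 1
  have hord : ∀ α : ↥A, α ≠ 1 → (orderOf α).Prime ∧ orderOf α ≠ 2 := fun α hα => by
    rw [← orderOf_coe]; exact hA α α.2 fun e => hα (Subtype.ext e)
  have hodd : Odd (Nat.card ↥A) := by
    rw [← Nat.not_even_iff_odd, even_iff_two_dvd]
    intro h2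
    haveI := Fact.mk Nat.prime_two
    obtain ⟨α, hα⟩ := exists_prime_orderOf_dvd_card' 2 h2
    exact (hord α (fun e => by rw [e, orderOf_one] at hα; omega)).2 hα
  haveI hsol : Group.IsSolvable ↥A := Cfsg.Agent.S0205.result hodd
  -- `A` is nontrivial
  have htop : (⊤ : Subgroup ↥A) ≠ ⊥ := by
    intro e
    have hall : ∀ w : V, w ≠ 1 → w = v₀ := fun w hw => by
      obtain ⟨α, hα, hαw⟩ := htr v₀ w hv₀ hw
      have : (⟨α, hα⟩ : ↥A) = 1 := mem_bot.1 (e ▸ mem_top _)
      rw [← hαw, show α = 1 from congrArg Subtype.val this]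
      rfl
    have : (Finset.univ : Finset V) ⊆ {1, v₀} := fun w _ => by
      by_cases hw : w = 1
      · simp [hw]
      · simp [hall w hw]
    have := (Finset.card_le_card this).trans Finset.card_le_two
    rw [Finset.card_univ, ← Nat.card_eq_fintype_card] at this
    omega
  obtain ⟨P, hPn, hPne, -, hPmin⟩ := Grp.exists_minimal_normal_le (N := (⊤ : Subgroup ↥A)) htop
  haveI := hPn
  obtain ⟨p, hp, hPp⟩ := Grp.minimal_normal_solvable_isPGroup (inferInstance : Group.IsSolvable P) hPne hPmin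
  haveI := Fact.mk hp
  obtain ⟨z, hz, hz1⟩ := (bot_or_exists_ne_one P).resolve_left hPne
  have hpow : ∀ {l : ℕ} (C : Subgroup ↥A), l.Prime → IsPGroup l C → ∀ c ∈ C, c ≠ 1 → orderOf c = l := by
    intro l C hl hC c hc hc1
    obtain ⟨k, hk⟩ := hC ⟨c, hc⟩
    have hd : orderOf c ∣ l ^ k := orderOf_dvd_of_pow_eq_one (by simpa using congrArg Subtype.val hk)
    exact (Nat.prime_dvd_prime_iff_eq (hord c hc1).1 hl).1 ((hord c hc1).1.dvd_of_dvd_pow hd)
  have hzp := hpow P hp hPp z hz hz1
  have hp2 : p ≠ 2 := hzp ▸ (hord z hz1).2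
  -- cyclic `p`-subgroups have order `p`
  have hcard : ∀ C : Subgroup ↥A, C.Normal → IsPGroup p C → C ≠ ⊥ → Nat.card C = p := by
    intro C hCn hC hCne
    haveI := hCn
    obtain ⟨g, hg⟩ := (semiregular_of_normal hV ⟨v₀, hv₀⟩ A htr hp2 C hC).1.exists_generator
    rw [← Nat.card_congr (Equiv.subtypeUnivEquiv hg), Nat.card_zpowers, ← orderOf_coe]
    refine hpow C hp hC g g.2 fun e => hCne ?_
    rw [eq_bot_iff]
    intro c hc
    obtain ⟨k, hk⟩ := hg ⟨c, hc⟩
    have := congrArg Subtype.val hk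
    simp only [SubgroupClass.coe_zpow, e, one_zpow] at this
    rw [mem_bot]; exact this.symm
  have hPc := hcard P hPn hPp hPne
  have hfpf := (semiregular_of_normal hV ⟨v₀, hv₀⟩ A htr hp2 P hPp).2
  -- the centralizer of `P`
  set C := centralizer (P : Set ↥A) with hC
  haveI hCn : C.Normal := by rw [hC]; infer_instance
  have hCp : IsPGroup p C := by
    intro c
    refine ⟨1, ?_⟩
    rw [pow_one]
    rcases eq_or_ne c 1 with rfl | hc1
    · exact one_pow p
    have hc1' : (c : ↥A) ≠ 1 := fun e => hc1 (Subtype.ext e)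
    by_cases hcp : orderOf (c : ↥A) = p
    · exact Subtype.ext (by rw [SubmonoidClass.coe_pow, ← hcp, pow_orderOf_eq_one]; rfl)
    · exfalso
      have hcz : Commute (c : ↥A) z := (mem_centralizer_iff.1 c.2 z hz).symm
      have hmul := hcz.orderOf_mul_eq_mul_orderOf_of_coprime
        (by rw [hzp]; exact (Nat.coprime_primes (hord _ hc1').1 hp).2 hcp)
      have hne : (c : ↥A) * z ≠ 1 := fun e => by
        rw [e, orderOf_one, hzp] at hmul
        exact hp.one_lt.ne' (Nat.eq_one_of_mul_eq_one_left hmul.symm)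
      have := (hord _ hne).1
      rw [hmul, hzp] at this
      exact Nat.not_prime_mul (hord _ hc1').1.ne_one hp.ne_one this
  haveI hPc' : IsCyclic P := isCyclic_of_prime_card hPc
  have hPC : P ≤ C := fun x hx => mem_centralizer_iff.2 fun y hy => by
    letI := hPc'.commGroup
    exact congrArg Subtype.val (mul_comm (⟨y, hy⟩ : ↥P) ⟨x, hx⟩)
  have hCP : C = P := (eq_of_le_of_card_ge hPC
    (le_of_eq ((hcard C hCn hCp fun e => hPne (le_bot_iff.1 (e ▸ hPC))).trans hPc.symm))).symm
  set ψ : ↥A →* MulAut P := MulAut.conjNormal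
  have hker : ∀ α, ψ α = 1 ↔ α ∈ P := by
    intro α
    constructor
    · intro e
      rw [← hCP, hC, mem_centralizer_iff]
      intro y hy
      have h1 := congrArg Subtype.val (DFunLike.congr_fun e (⟨y, hy⟩ : ↥P))
      rw [MulAut.conjNormal_apply, MulAut.one_apply] at h1
      exact (mul_inv_eq_iff_eq_mul.1 h1).symm
    · intro hα
      refine MulEquiv.ext fun y => Subtype.ext ?_
      rw [MulAut.conjNormal_apply, MulAut.one_apply]
      exact mul_inv_eq_iff_eq_mul.2 (mem_centralizer_iff.1 (hPC hα) y y.2).symm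
  haveI : IsCyclic (ZMod (Nat.card P))ˣ := hPc ▸ ZMod.isCyclic_units_prime hp
  haveI : IsCyclic (MulAut P) :=
    isCyclic_of_injective (hPc'.mulAutMulEquiv P).toMonoidHom (hPc'.mulAutMulEquiv P).injective
  obtain ⟨g, hg⟩ := (inferInstance : IsCyclic ψ.range).exists_generator
  have hrange : Nat.card ψ.range = orderOf (g : MulAut P) := by
    rw [orderOf_coe, ← Nat.card_zpowers, Nat.card_congr (Equiv.subtypeUnivEquiv hg)]
  have hl1 : Nat.card ψ.range ∣ p - 1 := by
    have := card_subgroup_dvd_card ψ.range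
    rwa [hPc'.card_mulAut P, hPc, Nat.totient_prime hp] at this
  have hkerP : ψ.ker = P := by ext α; rw [MonoidHom.mem_ker]; exact hker α
  have hAcard : Nat.card ↥A = p * Nat.card ψ.range := by
    have := Subgroup.card_mul_index ψ.ker
    rw [Subgroup.index_ker, hkerP, hPc] at this
    exact this.symm
  -- the subgroup of `MulAut V`
  set X := P.map A.subtype with hX
  have hXc : Nat.card X = p := by rw [hX, card_map_of_injective A.subtype_injective, hPc]
  have hXA : X ≤ A := map_subtype_le _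
  have hXn : A ≤ normalizer (X : Set (MulAut V)) := by
    intro α hα
    refine mem_normalizer_iff.2 fun x => ⟨?_, ?_⟩
    · rintro ⟨y, hy, rfl⟩
      exact ⟨⟨α, hα⟩ * y * ⟨α, hα⟩⁻¹, hPn.conj_mem y hy _, rfl⟩
    · rintro ⟨y, hy, hye⟩
      refine ⟨⟨α, hα⟩⁻¹ * y * ⟨α, hα⟩, by simpa using hPn.conj_mem y hy (⟨α, hα⟩⁻¹ : ↥A), ?_⟩
      simp only [coe_subtype] at hye ⊢
      simp [hye, mul_assoc]
  have hXfix : ∀ x ∈ X, x ≠ 1 → ∀ v : V, v ≠ 1 → x v ≠ v := by
    rintro _ ⟨y, hy, rfl⟩ hy1 v hv hyv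
    exact hy1 (by rw [hfpf y hy v hv hyv, map_one])
  have hself : ∀ α ∈ A, ∀ x ∈ X, x ≠ 1 → Commute α x → α ∈ X := by
    rintro α hα _ ⟨y, hy, rfl⟩ hy1 hc
    refine ⟨⟨α, hα⟩, ?_, rfl⟩
    show _ ∈ P
    rw [← hCP, hC, mem_centralizer_iff]
    intro w hw
    have hzy : zpowers y = P := eq_of_le_of_card_ge (zpowers_le.2 hy) (by
      rw [Nat.card_zpowers, hpow P hp hPp y hy fun e => hy1 (by rw [e, map_one]), hPc])
    rw [SetLike.mem_coe, ← hzy] at hw
    obtain ⟨k, rfl⟩ := hw
    have h1 : Commute y (⟨α, hα⟩ : ↥A) := Subtype.ext hc.symm.eq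
    exact (h1.zpow_left k).eq
  have hXp : ∀ α ∈ A, α ^ p = 1 → α ∈ X := by
    intro α hα hαp
    refine ⟨⟨α, hα⟩, (hker _).1 (orderOf_eq_one_iff.1 ?_), rfl⟩
    set a : ↥A := ⟨α, hα⟩
    have h1 : orderOf (ψ a) ∣ p :=
      orderOf_dvd_of_pow_eq_one (by rw [← map_pow, show a ^ p = 1 from Subtype.ext hαp, map_one])
    have h2 : orderOf (ψ a) ∣ p - 1 := by
      refine dvd_trans ?_ hl1
      have := orderOf_dvd_natCard (⟨ψ a, ⟨a, rfl⟩⟩ : ψ.range)
      rwa [← orderOf_coe] at this
    exact Nat.eq_one_of_dvd_coprimes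
      ((hp.coprime_iff_not_dvd).2 fun h => by have := hp.two_le; have := Nat.le_of_dvd (by omega) h; omega) h1 h2
  suffices hfin : Nat.card V = p + 1 ∧ (Nat.card A = p ∨ (r ≠ p ∧ Nat.card A = p * r)) from
    ⟨p, hp, hp2, hfin.1, X, hXA, hXc, hXn, hXfix, hXp, hself, hfin.2⟩
  obtain ⟨α₀, hα₀⟩ := (g : ψ.range).2
  by_cases hg1 : (g : MulAut P) = 1
  · rw [hrange, hg1, orderOf_one, mul_one] at hAcard
    refine ⟨?_, Or.inl hAcard⟩
    have hAX : ∀ α ∈ A, α ∈ X := fun α hα =>
      (eq_of_le_of_card_ge hXA (hAcard.trans hXc.symm).le) ▸ hα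
    let f : X → {w : V // w ≠ 1} := fun x => ⟨(x : MulAut V) v₀, fun e => hv₀ ((x : MulAut V).map_eq_one_iff.1 e)⟩
    have hf : Function.Bijective f := by
      refine ⟨fun a b hab => ?_, fun w => ?_⟩
      · by_contra hne
        have h1 : ((a : MulAut V) : MulAut V) v₀ = (b : MulAut V) v₀ := congrArg Subtype.val hab
        refine hXfix ((b : MulAut V)⁻¹ * a) (mul_mem (inv_mem b.2) a.2)
          (fun e => hne (Subtype.ext (inv_mul_eq_one.1 e).symm)) v₀ hv₀ ?_
        rw [MulAut.mul_apply, h1, MulAut.inv_apply_self]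
      · obtain ⟨α, hα, hαw⟩ := htr v₀ w hv₀ w.2
        exact ⟨⟨α, hAX α hα⟩, Subtype.ext hαw⟩
    have := Nat.card_eq_of_bijective f hf
    rw [hXc, Nat.card_eq_fintype_card, Fintype.card_subtype_compl, Fintype.card_subtype_eq,
      ← Nat.card_eq_fintype_card] at this
    omega
  · -- a prime index
    have hα1 : α₀ ≠ 1 := fun e => hg1 (by rw [← hα₀, e, map_one])
    set l := orderOf (g : MulAut P) with hl
    have hlα : l = orderOf α₀ := by
      rw [hl]
      refine ((hord α₀ hα1).1.eq_one_or_self_of_dvd _ ?_).resolve_left fun e => hg1 (orderOf_eq_one_iff.1 e)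
      rw [← hα₀]
      exact orderOf_map_dvd ψ α₀
    have hlp : l ≠ p := fun e => by
      rw [hrange, e] at hl1
      have := hp.two_le
      have := Nat.le_of_dvd (by omega) hl1
      omega
    have hlprime : l.Prime := hlα ▸ (hord α₀ hα1).1
    have hquot : ∀ α : ↥A, α ∉ P → orderOf α = l := by
      intro α hα
      have hα1' : α ≠ 1 := fun e => hα (e ▸ one_mem P)
      have h1 : orderOf (ψ α) ∣ l := by
        rw [← hrange]
        have := orderOf_dvd_natCard (⟨ψ α, ⟨α, rfl⟩⟩ : ψ.range)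
        rwa [← orderOf_coe] at this
      have h2 := (hlprime.eq_one_or_self_of_dvd _ h1).resolve_left fun e => hα ((hker α).1 (orderOf_eq_one_iff.1 e))
      exact ((hord α hα1').1.eq_one_or_self_of_dvd _ (h2 ▸ orderOf_map_dvd ψ α)).resolve_left
        hlprime.ne_one |>.symm
    by_cases hfree : ∀ α : ↥A, ∀ v : V, v ≠ 1 → (α : MulAut V) v = v → α = 1
    · -- a regular Frobenius group: impossible
      exfalso
      let K := SemidirectProduct V ↥A A.subtype
      haveI : Finite K := Finite.of_equiv _ SemidirectProduct.equivProd.symm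
      set V' : Subgroup K := (SemidirectProduct.inl : V →* K).range
      set Z' : Subgroup K := P.map (SemidirectProduct.inr : ↥A →* K)
      have hV'ne : V' ≠ ⊥ := fun e => by
        have hm : (SemidirectProduct.inl v₀ : K) ∈ (⊥ : Subgroup K) := e ▸ ⟨v₀, rfl⟩
        exact hv₀ (SemidirectProduct.inl_injective ((mem_bot.1 hm).trans (map_one _).symm))
      obtain ⟨w, hw, hw1, hwc⟩ := Grp.Tower.exists_fixed (G := K) (V := V') (Z := Z')
        (y := SemidirectProduct.inr α₀) (q := l) hlprime.pos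
        ⟨⟨by rintro ⟨_, a, rfl⟩ ⟨_, b, rfl⟩; exact Subtype.ext (by simp [← map_mul, mul_comm])⟩⟩
        hV'ne
        (by
          letI := hPc'.commGroup
          exact ⟨⟨by
            rintro ⟨_, a, ha, rfl⟩ ⟨_, b, hb, rfl⟩
            refine Subtype.ext ?_
            show SemidirectProduct.inr a * SemidirectProduct.inr b = SemidirectProduct.inr b * SemidirectProduct.inr a
            rw [← map_mul, ← map_mul, show a * b = b * a from congrArg Subtype.val (mul_comm (⟨a, ha⟩ : ↥P) ⟨b, hb⟩)]⟩⟩)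
        (by rintro _ ⟨a, -, rfl⟩ _ ⟨v, rfl⟩; exact ⟨(a : MulAut V) v, by rw [← map_inv]; exact SemidirectProduct.inl_aut (φ := A.subtype) a v⟩)
        (by rintro _ ⟨v, rfl⟩; exact ⟨(α₀ : MulAut V) v, by rw [← map_inv]; exact SemidirectProduct.inl_aut (φ := A.subtype) α₀ v⟩)
        (by rintro _ ⟨a, ha, rfl⟩; exact ⟨_, hPn.conj_mem a ha α₀, by simp⟩)
        (by rw [hlα, ← map_pow, pow_orderOf_eq_one, map_one])
        (by
          rw [show Nat.card Z' = p by rw [card_map_of_injective SemidirectProduct.inr_injective, hPc],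
            ← Nat.card_congr (MonoidHom.ofInjective (f := (SemidirectProduct.inl : V →* K))
              SemidirectProduct.inl_injective).toEquiv]
          refine hp.coprime_iff_not_dvd.2 fun hd => ?_
          obtain ⟨v, hv⟩ := exists_prime_orderOf_dvd_card' p hd
          have : p ∣ 2 := hv ▸ orderOf_dvd_of_pow_eq_one (by rw [pow_two, hV])
          exact hp2 ((Nat.prime_dvd_prime_iff_eq hp Nat.prime_two).1 this))
        (by
          rintro _ ⟨v, rfl⟩ hfix
          by_contra hv1
          refine hz1 (hfree z v (fun e => hv1 (by rw [e, map_one])) (SemidirectProduct.inl_injective (φ := A.subtype) ?_))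
          have := hfix _ ⟨z, hz, rfl⟩
          show SemidirectProduct.inl (A.subtype z v) = _
          rw [SemidirectProduct.inl_aut, this, mul_assoc, ← map_mul SemidirectProduct.inr,
            mul_inv_cancel, map_one, mul_one])
        (by
          rintro j hj hjl _ ⟨a, ha, rfl⟩ hc
          rw [← map_pow, ← map_mul, ← map_mul] at hc
          have hc' := SemidirectProduct.inr_injective hc
          by_contra hne
          have haX : A.subtype a ∈ X := ⟨a, ha, rfl⟩
          have ha1 : A.subtype a ≠ 1 := fun e => hne (by rw [show a = 1 from Subtype.ext e, map_one])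
          obtain ⟨b, hb, hbe⟩ := hself _ (A.subtype (α₀ ^ j) |> fun _ => (α₀ ^ j).2) _ haX ha1 (congrArg Subtype.val hc')
          have hbP : α₀ ^ j ∈ P := by rw [← Subtype.ext hbe]; exact hb
          have : orderOf (g : MulAut P) ∣ j := orderOf_dvd_of_pow_eq_one (by
            rw [← hα₀, ← map_pow]; exact (hker _).2 hbP)
          exact absurd (Nat.le_of_dvd hj this) (by omega))
      obtain ⟨v, rfl⟩ := hw
      refine hα1 (hfree α₀ v (fun e => hw1 (by rw [e, map_one])) (SemidirectProduct.inl_injective (φ := A.subtype) ?_))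
      show SemidirectProduct.inl (A.subtype α₀ v) = _
      rw [SemidirectProduct.inl_aut, hwc, mul_assoc, ← map_mul SemidirectProduct.inr, mul_inv_cancel,
        map_one, mul_one]
    · push Not at hfree
      obtain ⟨α, v, hv, hαv, hα⟩ := hfree
      have hαP : α ∉ P := fun h => hα (hfpf α h v hv hαv)
      have hαr : orderOf α ∣ r :=
        orderOf_dvd_of_pow_eq_one (Subtype.ext (by simpa using hst α α.2 v hv hαv))
      rw [hquot α hαP] at hαr
      have hlr : l = r := (Nat.prime_dvd_prime_iff_eq hlprime hr).1 hαr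
      rw [hrange] at hAcard
      refine ⟨?_, Or.inr ⟨hlr ▸ hlp, hlr ▸ hAcard⟩⟩
      let act : MulAction ↥A V := MulAction.compHom V A.subtype
      have hsmul : ∀ (a : ↥A) (x : V), a • x = (a : MulAut V) x := fun _ _ => rfl
      have hcardeq := MulAction.card_orbit_mul_card_stabilizer_eq_card_group ↥A v
      have horb : MulAction.orbit ↥A v = {w : V | w ≠ 1} := by
        ext w
        constructor
        · rintro ⟨a, rfl⟩ e
          exact hv ((a : MulAut V).map_eq_one_iff.1 e)
        · intro hw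
          obtain ⟨β, hβ, hβw⟩ := htr v w hv hw
          exact ⟨⟨β, hβ⟩, hβw⟩
      have hstab : Nat.card (MulAction.stabilizer ↥A v) = l := by
        obtain ⟨e, he', he, hel, hee⟩ := (Nat.dvd_mul).1 (hAcard ▸ card_subgroup_dvd_card (MulAction.stabilizer ↥A v))
        rcases hp.eq_one_or_self_of_dvd e he with rfl | rfl
        · rcases hlprime.eq_one_or_self_of_dvd he' hel with rfl | rfl
          · exfalso
            rw [one_mul] at hee
            exact hα (mem_bot.1 ((card_eq_one.1 hee.symm) ▸ (MulAction.mem_stabilizer_iff.2 hαv : α ∈ MulAction.stabilizer ↥A v)))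
          · rw [← hee, one_mul]
        · exfalso
          obtain ⟨b, hb⟩ := exists_prime_orderOf_dvd_card' e (hee ▸ dvd_mul_right e he' : e ∣ Nat.card (MulAction.stabilizer ↥A v))
          rw [← orderOf_coe] at hb
          have hb1 : (b : ↥A) ≠ 1 := fun h => by rw [h, orderOf_one] at hb; exact hp.one_lt.ne hb
          have hbP : (b : ↥A) ∈ P := by
            by_contra hbP
            exact hlp ((hquot _ hbP).symm.trans hb)
          exact hb1 (hfpf _ hbP v hv b.2)
      simp only [← Nat.card_eq_fintype_card] at hcardeq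
      rw [hstab, hAcard, Nat.card_congr (Equiv.setCongr horb)] at hcardeq
      have h1 := Nat.eq_of_mul_eq_mul_right hlprime.pos hcardeq
      rw [Set.coe_setOf, Nat.card_eq_fintype_card, Fintype.card_subtype_compl, Fintype.card_subtype_eq,
        ← Nat.card_eq_fintype_card] at h1
      omega

end Cfsg.Agent.Recog.OneComp
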