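import Mathlib
import Cfsg.Prelude.Def_Solvable
import Cfsg.Agent.Lib.Grp.Cores
import Cfsg.Agent.Lib.Grp.Solvable
import Cfsg.Agent.S0144

/-!
Finite groups whose only composite element order is `2 r` for an odd prime `r`: elementary facts.
-/

set_option autoImplicit false

namespace Cfsg.Agent.Recog.OneComp

open Subgroup

/-- Every element order is one, a prime, or `2 * r`. -/
structure OC (G : Type*) [Group G] (r : ℕ) : Prop where
  hr : r.Prime
  r2 : r ≠ 2
  ord : ∀ g : G, g ≠ 1 → (orderOf g).Prime ∨ orderOf g = 2 * r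

variable {G : Type*} [Group G] [Finite G] {r : ℕ}

theorem OC.r3 (h : OC G r) : 3 ≤ r := by
  have := h.hr.two_le
  have := h.r2
  omega

theorem OC.r_odd (h : OC G r) : Odd r := h.hr.odd_of_ne_two h.r2

theorem OC.not_prime_pow_two_mul (h : OC G r) {l k : ℕ} (hl : l.Prime) : l ^ k ≠ 2 * r := by
  intro e
  have h2 : 2 ∣ l ^ k := e ▸ dvd_mul_right 2 r
  have hr : r ∣ l ^ k := e ▸ dvd_mul_left r 2
  have e2 := (Nat.prime_dvd_prime_iff_eq Nat.prime_two hl).1 (Nat.prime_two.dvd_of_dvd_pow h2)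
  have er := (Nat.prime_dvd_prime_iff_eq h.hr hl).1 (h.hr.dvd_of_dvd_pow hr)
  exact h.r2 (er.trans e2.symm)

theorem OC.pow_eq_one (h : OC G r) {g : G} {l k : ℕ} (hl : l.Prime) (hg : orderOf g ∣ l ^ k) :
    g ^ l = 1 := by
  rcases eq_or_ne g 1 with rfl | hg1
  · exact one_pow l
  obtain ⟨j, -, hj⟩ := (Nat.dvd_prime_pow hl).1 hg
  rcases h.ord g hg1 with hp | he
  · rw [hj] at hp
    have : j = 1 := by
      rcases j with _ | _ | j
      · exact absurd hp (by simp [Nat.not_prime_one])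
      · rfl
      · exact absurd hp (Nat.Prime.not_prime_pow (by omega))
    rw [← pow_one l, ← this, ← hj, pow_orderOf_eq_one]
  · exact absurd (hj.symm.trans he) (h.not_prime_pow_two_mul hl)

theorem OC.exponent (h : OC G r) {l : ℕ} [hl : Fact l.Prime] {H : Subgroup G} (hH : IsPGroup l H)
    {x : G} (hx : x ∈ H) : x ^ l = 1 := by
  obtain ⟨k, hk⟩ := hH ⟨x, hx⟩
  refine h.pow_eq_one (k := k) hl.out (orderOf_dvd_of_pow_eq_one ?_)
  simpa using congrArg Subtype.val hk

theorem OC.sq (h : OC G r) {H : Subgroup G} (hH : IsPGroup 2 H) {x : G} (hx : x ∈ H) :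
    x * x = 1 := by
  haveI := Fact.mk Nat.prime_two
  rw [← pow_two]
  exact h.exponent hH hx

theorem OC.two_comm (h : OC G r) {H : Subgroup G} (hH : IsPGroup 2 H) : IsMulCommutative H := by
  refine ⟨⟨fun a b => Subtype.ext ?_⟩⟩
  have ha := inv_eq_of_mul_eq_one_right (h.sq hH a.2)
  have hb := inv_eq_of_mul_eq_one_right (h.sq hH b.2)
  have hab := inv_eq_of_mul_eq_one_right (h.sq hH (H.mul_mem a.2 b.2))
  rw [mul_inv_rev, ha, hb] at hab
  exact hab.symm

theorem OC.prime_of_odd (h : OC G r) {g : G} (hg : g ≠ 1) (ho : Odd (orderOf g)) :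
    (orderOf g).Prime := by
  rcases h.ord g hg with hp | he
  · exact hp
  · rw [he] at ho
    exact absurd ho (Nat.not_odd_iff_even.2 (even_two_mul r))

theorem OC.comm_orders (h : OC G r) {x y : G} {p q : ℕ} (hxy : Commute x y) (hx : orderOf x = p)
    (hy : orderOf y = q) (hp : p.Prime) (hq : q.Prime) (hne : p ≠ q) : p * q = 2 * r := by
  have ho : orderOf (x * y) = p * q := by
    rw [hxy.orderOf_mul_eq_mul_orderOf_of_coprime (by rw [hx, hy]; exact (Nat.coprime_primes hp hq).2 hne),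
      hx, hy]
  rcases h.ord (x * y) (fun e => by
    rw [e, orderOf_one] at ho
    have := hp.two_le; have := hq.two_le; nlinarith) with hP | he
  · rw [ho] at hP
    exact absurd hP (Nat.not_prime_mul hp.ne_one hq.ne_one)
  · exact ho ▸ he

/-- Only `2` and `r` occur among the orders commuting with an involution or an element of order `r`. -/
theorem OC.primes_centralizer (h : OC G r) {x : G} (hx : orderOf x = 2 ∨ orderOf x = r)
    {X : Subgroup G} (hX : X ≤ centralizer ({x} : Set G)) {q : ℕ} (hq : q.Prime)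
    (hd : q ∣ Nat.card X) : q = 2 ∨ q = r := by
  haveI := Fact.mk hq
  obtain ⟨y, hy⟩ := exists_prime_orderOf_dvd_card' q hd
  have hc : Commute x (y : G) := (mem_centralizer_singleton_iff.1 (hX y.2)).symm
  rw [← orderOf_coe] at hy
  by_contra hno
  push Not at hno
  rcases hx with hx | hx
  · have := h.comm_orders hc hx hy Nat.prime_two hq (Ne.symm hno.1)
    omega
  · have := h.comm_orders hc hx hy h.hr hq (Ne.symm hno.2)
    rw [mul_comm 2 r] at this
    exact hno.1 (Nat.eq_of_mul_eq_mul_left h.hr.pos this)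

section TwoPrimes

variable {X : Type*} [Group X] [Finite X]

theorem card_eq_two_pow_mul (r : ℕ) (hr : r.Prime)
    (hX : ∀ p : ℕ, p.Prime → p ∣ Nat.card X → p = 2 ∨ p = r) :
    ∃ a b : ℕ, Nat.card X = 2 ^ a * r ^ b := by
  obtain ⟨a, m, hm, hc⟩ := Nat.exists_eq_pow_mul_and_not_dvd (Nat.card_pos (α := X)).ne' 2 (by norm_num)
  refine ⟨a, m.primeFactorsList.length, ?_⟩
  rw [hc]
  congr 1
  refine Nat.eq_prime_pow_of_unique_prime_dvd ?_ fun {d} hd hdm => ?_
  · rintro rfl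
    exact hm (dvd_zero 2)
  · rcases hX d hd (hc ▸ hdm.mul_left _) with rfl | rfl
    · exact absurd hdm hm
    · rfl

theorem isSolvable_two_primes (r : ℕ) (hr : r.Prime)
    (hX : ∀ p : ℕ, p.Prime → p ∣ Nat.card X → p = 2 ∨ p = r) : Group.IsSolvable X := by
  obtain ⟨a, b, hab⟩ := card_eq_two_pow_mul r hr hX
  exact Cfsg.Agent.S0144.result 2 r a b Nat.prime_two hr hab

theorem pCore_quotient_bot (r : ℕ) [(Cfsg.pCore r X).Normal] :
    Cfsg.pCore r (X ⧸ Cfsg.pCore r X) = ⊥ := by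
  refine sSup_eq_bot.mpr fun K ⟨hKn, hKp⟩ => ?_
  have hker : IsPGroup r (QuotientGroup.mk' (Cfsg.pCore r X)).ker := by
    rw [QuotientGroup.ker_mk']; exact Grp.pCore_isPGroup
  have hle : K.comap (QuotientGroup.mk' (Cfsg.pCore r X)) ≤ Cfsg.pCore r X :=
    Grp.le_pCore inferInstance (hKp.comap_of_ker_isPGroup _ hker)
  rw [eq_bot_iff]
  intro q hq
  obtain ⟨g, rfl⟩ := QuotientGroup.mk'_surjective (Cfsg.pCore r X) q
  exact (QuotientGroup.eq_one_iff g).mpr (hle hq)

/-- With only the primes `2` and `r` and an abelian Sylow 2-subgroup `T`: `T O_r` is normal and every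
`T`-invariant `r`-subgroup lies in `O_r`. -/
theorem core_facts (r : ℕ) [hr : Fact r.Prime] (hr2 : r ≠ 2)
    (hX : ∀ p : ℕ, p.Prime → p ∣ Nat.card X → p = 2 ∨ p = r) (T : Sylow 2 X)
    (hT : IsMulCommutative (T : Subgroup X)) :
    ((T : Subgroup X) ⊔ Cfsg.pCore r X).Normal ∧ ∀ Y : Subgroup X, IsPGroup r Y →
      (T : Subgroup X) ≤ normalizer (Y : Set X) → Y ≤ Cfsg.pCore r X := by
  classical
  haveI : Fact (Nat.Prime 2) := ⟨Nat.prime_two⟩
  haveI := isSolvable_two_primes r hr.out hX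
  haveI hOn : (Cfsg.pCore r X).Normal := Grp.pCore_isNormal
  set O := Cfsg.pCore r X with hO
  set π := QuotientGroup.mk' O
  have hsurj : Function.Surjective π := QuotientGroup.mk'_surjective O
  set T' : Sylow 2 (X ⧸ O) := T.mapSurjective hsurj
  have hT'c : (T' : Subgroup (X ⧸ O)) = (T : Subgroup X).map π := Sylow.coe_mapSurjective hsurj T
  have hT'ab : ∀ a ∈ (T' : Subgroup (X ⧸ O)), ∀ b ∈ (T' : Subgroup (X ⧸ O)), a * b = b * a := by
    rw [hT'c]
    rintro _ ⟨a, ha, rfl⟩ _ ⟨b, hb, rfl⟩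
    rw [← map_mul, ← map_mul]
    exact congrArg π (congrArg Subtype.val (hT.is_comm.comm ⟨a, ha⟩ ⟨b, hb⟩))
  have hprimes : ∀ p : ℕ, p.Prime → p ∣ Nat.card (X ⧸ O) → p = 2 ∨ p = r := fun p hp hd =>
    hX p hp (hd.trans (O.card_quotient_dvd_card))
  have hF : Cfsg.fittingSubgroup (X ⧸ O) ≤ Cfsg.pCore 2 (X ⧸ O) := by
    rw [Grp.fittingSubgroup_eq_iSup_pCore]
    refine iSup_le fun p => ?_
    haveI := Fact.mk p.2
    by_cases hd : (p : ℕ) ∣ Nat.card (X ⧸ O)
    · rcases hprimes p p.2 hd with e | e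
      · rw [e]
      · rw [e, pCore_quotient_bot]; exact bot_le
    · obtain ⟨n, hn⟩ := IsPGroup.iff_card.1 (Grp.pCore_isPGroup (p := (p : ℕ)) (G := X ⧸ O))
      rcases n with _ | n
      · rw [card_eq_one.1 (hn.trans (pow_zero _))]; exact bot_le
      · exact absurd ((hn ▸ dvd_pow_self (p : ℕ) n.succ_ne_zero).trans (card_subgroup_dvd_card _)) hd
  have hE : (T' : Subgroup (X ⧸ O)) = Cfsg.pCore 2 (X ⧸ O) := by
    refine le_antisymm ?_ (Grp.pCore_le_sylow T')
    intro a ha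
    have hc : a ∈ centralizer (Cfsg.fittingSubgroup (X ⧸ O) : Set (X ⧸ O)) := by
      rw [mem_centralizer_iff]
      intro f hf
      exact hT'ab f (Grp.pCore_le_sylow T' (hF hf)) a ha
    exact hF (Grp.centralizer_fittingSubgroup_le hc)
  haveI hT'n : (T' : Subgroup (X ⧸ O)).Normal := by rw [hE]; exact Grp.pCore_isNormal
  refine ⟨?_, fun Y hY hn => ?_⟩
  · have e : (T : Subgroup X) ⊔ O = (T' : Subgroup (X ⧸ O)).comap π := by
      rw [hT'c, comap_map_eq, QuotientGroup.ker_mk']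
    rw [e]
    exact hT'n.comap π
  · intro y hy
    have hYr : IsPGroup r (Y.map π) := hY.map π
    have hcent : π y ∈ centralizer ((T' : Subgroup (X ⧸ O)) : Set (X ⧸ O)) := by
      rw [mem_centralizer_iff]
      intro a ha
      have ha' := ha
      rw [SetLike.mem_coe, hT'c] at ha'
      obtain ⟨s, hs, rfl⟩ := ha'
      have h1 : π s * π y * (π s)⁻¹ * (π y)⁻¹ ∈ Y.map π :=
        mul_mem ⟨s * y * s⁻¹, (mem_normalizer_iff.1 (hn hs) y).1 hy, by simp⟩ (inv_mem ⟨y, hy, rfl⟩)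
      have h2 : π s * π y * (π s)⁻¹ * (π y)⁻¹ ∈ (T' : Subgroup (X ⧸ O)) := by
        rw [mul_assoc, mul_assoc]
        refine mul_mem ha ?_
        rw [← mul_assoc]
        exact hT'n.conj_mem _ (inv_mem ha) (π y)
      have h3 := (IsPGroup.disjoint_of_ne r 2 hr2 _ _ hYr T'.isPGroup').le_bot ⟨h1, h2⟩
      rw [mem_bot, mul_inv_eq_one, mul_inv_eq_iff_eq_mul] at h3
      exact h3
    have hy2 : π y ∈ (T' : Subgroup (X ⧸ O)) := by
      rw [hE]
      exact hF (Grp.centralizer_fittingSubgroup_le (centralizer_le (hF.trans hE.ge) hcent))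
    have h1 := (IsPGroup.disjoint_of_ne r 2 hr2 _ _ hYr T'.isPGroup').le_bot ⟨⟨y, hy, rfl⟩, hy2⟩
    exact (QuotientGroup.eq_one_iff y).1 (mem_bot.1 h1)

end TwoPrimes

end Cfsg.Agent.Recog.OneComp
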