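import Cfsg.Agent.Lib.Recog.OneComp.Invariant
import Cfsg.Agent.S0508

/-!
Sylow 2-subgroups of order four: either every invariant `r`-subgroup is centralized by the Sylow
2-subgroup, or the Brauer–Suzuki–Wall configuration holds.
-/

set_option autoImplicit false
set_option linter.unusedSectionVars false

namespace Cfsg.Agent.Recog.OneComp

open Subgroup
open scoped Pointwise

variable {G : Type*} [Group G] [Finite G] {r : ℕ} (S : Sylow 2 G)

theorem Four.cases {A : Subgroup G} (h4 : Nat.card A = 4) {a b : G} (ha : a ∈ A) (hb : b ∈ A)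
    (ha1 : a ≠ 1) (hb1 : b ≠ 1) (hab : a ≠ b) (hab1 : a * b ≠ 1) {x : G} (hx : x ∈ A) :
    x = 1 ∨ x = a ∨ x = b ∨ x = a * b := by
  classical
  haveI := Fintype.ofFinite A
  rw [Nat.card_eq_fintype_card] at h4
  set T : Finset A := {1, ⟨a, ha⟩, ⟨b, hb⟩, ⟨a * b, mul_mem ha hb⟩}
  have hT : T.card = 4 := by
    refine Finset.card_eq_four.2 ⟨1, ⟨a, ha⟩, ⟨b, hb⟩, ⟨a * b, mul_mem ha hb⟩, ?_⟩
    simp only [ne_eq, Subtype.ext_iff, OneMemClass.coe_one]
    exact ⟨Ne.symm ha1, Ne.symm hb1, Ne.symm hab1, hab, fun e => hb1 (by simpa using e.symm),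
      fun e => ha1 (by simpa using e.symm), rfl⟩
  have := Finset.eq_univ_of_card T (hT.trans h4.symm)
  have hm : (⟨x, hx⟩ : A) ∈ T := by rw [this]; exact Finset.mem_univ _
  simpa [T, Subtype.ext_iff] using hm

theorem OC.four_cases (h : OC G r) (h4 : Nat.card (S : Subgroup G) = 4) {a b x : G}
    (ha : a ∈ (S : Subgroup G)) (hb : b ∈ (S : Subgroup G)) (ha1 : a ≠ 1) (hb1 : b ≠ 1) (hab : a ≠ b)
    (hx : x ∈ (S : Subgroup G)) : x = 1 ∨ x = a ∨ x = b ∨ x = a * b := by
  refine Four.cases h4 ha hb ha1 hb1 hab ?_ hx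
  intro e
  exact hab ((eq_inv_of_mul_eq_one_left e).trans (inv_eq_of_mul_eq_one_right (h.sq S.isPGroup' hb)))

theorem OC.exists_other (h4 : Nat.card (S : Subgroup G) = 4) (a : G) :
    ∃ b ∈ (S : Subgroup G), b ≠ 1 ∧ b ≠ a := by
  classical
  haveI := Fintype.ofFinite (S : Subgroup G)
  by_contra hno
  push Not at hno
  have h1 : ((Finset.univ : Finset (S : Subgroup G)).image Subtype.val).card ≤ ({1, a} : Finset G).card := by
    refine Finset.card_le_card fun x hx => ?_
    obtain ⟨y, -, rfl⟩ := Finset.mem_image.1 hx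
    by_cases hy : (y : G) = 1
    · simp [hy]
    · simp [hno y y.2 hy]
  rw [Finset.card_image_of_injective _ Subtype.val_injective, Finset.card_univ,
    ← Nat.card_eq_fintype_card, h4] at h1
  have := h1.trans Finset.card_le_two
  omega

/-- An element of `N(S)` fixing a nonidentity element centralizes `S`. -/
theorem OC.stab (h : OC G r) (h4 : Nat.card (S : Subgroup G) = 4) {n a : G}
    (hn : n ∈ normalizer ((S : Subgroup G) : Set G)) (ha : a ∈ (S : Subgroup G)) (ha1 : a ≠ 1)
    (hna : n * a * n⁻¹ = a) : n ∈ centralizer ((S : Subgroup G) : Set G) := by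
  by_contra hc
  refine (h.sq_moving S hn hc).1 ?_
  obtain ⟨b, hb, hb1, hba⟩ := OC.exists_other S h4 a
  have hnb := (mem_normalizer_iff.1 hn b).1 hb
  have h2b : n ^ 2 * b * (n ^ 2)⁻¹ = b := by
    have e : n ^ 2 * b * (n ^ 2)⁻¹ = n * (n * b * n⁻¹) * n⁻¹ := by rw [pow_two]; group
    rcases h.four_cases S h4 ha hb ha1 hb1 (Ne.symm hba) hnb with h1 | h1 | h1 | h1
    · exact absurd (conj_eq_one_iff.1 h1) hb1
    · exact absurd (mul_left_cancel (mul_right_cancel (h1.trans hna.symm))) hba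
    · rw [e, h1, h1]
    · rw [e, h1, show n * (a * b) * n⁻¹ = (n * a * n⁻¹) * (n * b * n⁻¹) by group, hna, h1, ← mul_assoc,
        h.sq S.isPGroup' ha, one_mul]
  have h2a : n ^ 2 * a * (n ^ 2)⁻¹ = a := by
    rw [show n ^ 2 * a * (n ^ 2)⁻¹ = n * (n * a * n⁻¹) * n⁻¹ by rw [pow_two]; group, hna, hna]
  rw [mem_centralizer_iff]
  intro s hs
  have hh : n ^ 2 * s * (n ^ 2)⁻¹ = s := by
    rcases h.four_cases S h4 ha hb ha1 hb1 (Ne.symm hba) hs with rfl | rfl | rfl | rfl
    · simp
    · exact h2a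
    · exact h2b
    · rw [show n ^ 2 * (a * b) * (n ^ 2)⁻¹ = (n ^ 2 * a * (n ^ 2)⁻¹) * (n ^ 2 * b * (n ^ 2)⁻¹) by group,
        h2a, h2b]
  exact (mul_inv_eq_iff_eq_mul.1 hh).symm

/-- An `r`-subgroup invariant under `S` and an element moving `S` is centralized by `S`. -/
theorem OC.klein_centralize (h : OC G r) (h4 : Nat.card (S : Subgroup G) = 4) {P : Subgroup G}
    (hP : Inv S r P) {w : G} (hw : w ∈ normalizer ((S : Subgroup G) : Set G))
    (hwc : w ∉ centralizer ((S : Subgroup G) : Set G)) (hwP : w ∈ normalizer (P : Set G)) :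
    (S : Subgroup G) ≤ centralizer (P : Set G) := by
  by_contra hne
  obtain ⟨B, hBS, hB, hBw⟩ := h.exists_weight hP.1 S.isPGroup' hP.2 hne
  obtain ⟨hc2, hpr, h2⟩ := h.sq_moving S hw hwc
  have hwB : w ^ 2 ∈ normalizer (B : Set G) := hBw _ (pow_mem hwP 2) (pow_mem hw 2) hpr h2
  obtain ⟨a, ha, ha1, -⟩ := OC.exists_other S h4 1
  obtain ⟨b, hb, hb1, hba⟩ := OC.exists_other S h4 a
  obtain ⟨d, hd, hd1⟩ : ∃ d ∈ B, d ≠ 1 := by
    by_contra hno
    push Not at hno
    have := hno _ (hB a ha (fun hm => ha1 (hno _ hm)) b hb fun hm => hb1 (hno _ hm))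
    exact hba.symm ((eq_inv_of_mul_eq_one_left this).trans
      (inv_eq_of_mul_eq_one_right (h.sq S.isPGroup' hb)))
  refine hc2 (h.stab S h4 (pow_mem hw 2) (hBS.le hd) hd1 ?_)
  have hm := (mem_normalizer_iff.1 hwB d).1 hd
  by_contra hne'
  refine hBS.not_ge fun x hx => ?_
  have hm1 : w ^ 2 * d * (w ^ 2)⁻¹ ≠ 1 := fun e => hd1 (conj_eq_one_iff.1 e)
  rcases h.four_cases S h4 (hBS.le hd) (hBS.le hm) hd1 hm1 (Ne.symm hne') hx with e | e | e | e <;>
    rw [e]
  exacts [one_mem _, hd, hm, mul_mem hd hm]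

/-- With `W = 1` the centralizer of `S` is `S`. -/
theorem OC.centralizer_le_sylow (h : OC G r) (hS1 : (S : Subgroup G) ≠ ⊥) (hW : wSub r S = ⊥) :
    centralizer ((S : Subgroup G) : Set G) ≤ (S : Subgroup G) := by
  intro n hn
  have hN := centralizer_le_normalizer' S hn
  rcases eq_or_ne n 1 with rfl | hn1
  · exact one_mem _
  have key : ∀ m ∈ centralizer ((S : Subgroup G) : Set G), m ^ r = 1 → m = 1 := fun m hm hmr => by
    have : m ∈ wSub r S := (h.mem_wSub_iff S hS1).2 ⟨hm, hmr⟩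
    rwa [hW, mem_bot] at this
  obtain ⟨a, ha, ha1⟩ := (bot_or_exists_ne_one _).resolve_left hS1
  have hao : orderOf a = 2 := orderOf_eq_prime (by rw [pow_two]; exact h.sq S.isPGroup' ha) ha1
  rcases h.ord n hn1 with hp | he
  · by_cases h2 : orderOf n = 2
    · exact h.mem_sylow_of_involution S hN h2
    · have := h.comm_orders (x := a) (y := n) (mem_centralizer_iff.1 hn a ha) hao rfl
        Nat.prime_two hp (Ne.symm h2)
      exact absurd (key n hn (by
        rw [← Nat.eq_of_mul_eq_mul_left (by norm_num) this, pow_orderOf_eq_one])) hn1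
  · refine mem_sylow_of_two_power S (k := 1) hN ?_
    rw [pow_one]
    exact key _ (pow_mem hn 2) (by rw [← pow_mul, ← he, pow_orderOf_eq_one])

variable [IsSimpleGroup G]

/-- `W ≠ 1` and `|S| = 4`. -/
theorem OC.good_of_wSub (h : OC G r) (hna : ∃ x y : G, x * y ≠ y * x)
    (h2 : ∃ g : G, orderOf g = 2 * r) (h4 : Nat.card (S : Subgroup G) = 4) (hW : wSub r S ≠ ⊥) :
    Good S r := by
  haveI := Fact.mk h.hr
  haveI := Fact.mk Nat.prime_two
  have hS1 := h.sylow_ne_bot S h2
  have hnc := h.not_cyclic S hna h2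
  set W := wSub r S with hWdef
  obtain ⟨z, hz, hz1⟩ := (bot_or_exists_ne_one W).resolve_left hW
  have hzo : orderOf z = r := orderOf_eq_prime (h.exponent (core_pGroup _ _) hz) hz1
  obtain ⟨w, hw, hwc⟩ := h.exists_moving S hna h2
  set X := centralizer (W : Set G) with hX
  have hXz : X ≤ centralizer ({z} : Set G) := centralizer_le (Set.singleton_subset_iff.2 hz)
  have hSX : (S : Subgroup G) ≤ X := fun s hs => mem_centralizer_iff.2 fun x hx =>
    (mem_centralizer_iff.1 (core_le _ _ hx) s hs).symm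
  obtain ⟨hlY, hldec⟩ := h.local_core S (Or.inr hzo) hXz hSX
  have hNX : normalizer (W : Set G) ≤ normalizer (X : Set G) := by
    intro n hn
    have key : ∀ n ∈ normalizer (W : Set G), ∀ x ∈ X, n * x * n⁻¹ ∈ X := by
      intro n hn x hx
      rw [hX, mem_centralizer_iff]
      intro v hv
      have hv' : n⁻¹ * v * n ∈ (W : Set G) := by
        have := (mem_normalizer_iff.1 (inv_mem hn) v).1 hv
        rwa [inv_inv] at this
      calc v * (n * x * n⁻¹) = n * ((n⁻¹ * v * n) * x) * n⁻¹ := by group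
        _ = n * (x * (n⁻¹ * v * n)) * n⁻¹ := by rw [mem_centralizer_iff.1 hx _ hv']
        _ = n * x * n⁻¹ * v := by group
    exact mem_normalizer_iff.2 fun x => ⟨key n hn x, fun hx => by
      simpa [mul_assoc] using key n⁻¹ (inv_mem hn) _ hx⟩
  have hwO : w ∈ normalizer ((core r X : Subgroup G) : Set G) :=
    normalizer_le_core r X (hNX (h.normalizer_le_wSub S hw))
  have hOC : (S : Subgroup G) ≤ centralizer ((core r X : Subgroup G) : Set G) :=
    h.klein_centralize S h4 (h.core_inv S (le_trans hSX le_normalizer)) hw hwc hwO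
  have hXN : X ≤ normalizer ((S : Subgroup G) : Set G) := by
    intro x hx
    obtain ⟨o, ho, n, -, hn, rfl⟩ := hldec x hx
    refine mul_mem (centralizer_le_normalizer' S (mem_centralizer_iff.2 fun s hs => ?_)) hn
    exact (mem_centralizer_iff.1 (hOC hs) o ho).symm
  have hNW : normalizer (W : Set G) ≤ normalizer ((S : Subgroup G) : Set G) := by
    intro n hn
    have key : ∀ n ∈ normalizer (W : Set G), ∀ s ∈ (S : Subgroup G), n * s * n⁻¹ ∈ (S : Subgroup G) := by
      intro n hn s hs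
      have h1 : n * s * n⁻¹ ∈ normalizer ((S : Subgroup G) : Set G) :=
        hXN ((mem_normalizer_iff.1 (hNX hn) s).1 (hSX hs))
      exact mem_sylow_of_two_power S (k := 1) h1 (by
        rw [pow_one, conj_pow, pow_two, h.sq S.isPGroup' hs, mul_one, mul_inv_cancel])
    exact mem_normalizer_iff.2 fun x => ⟨key n hn x, fun hx => by
      simpa [mul_assoc] using key n⁻¹ (inv_mem hn) _ hx⟩
  have hR : ∀ a ∈ (S : Subgroup G), a ≠ 1 → core r (centralizer ({a} : Set G)) ≤ W := by
    intro a ha ha1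
    have hao : orderOf a = 2 := orderOf_eq_prime (by rw [pow_two]; exact h.sq S.isPGroup' ha) ha1
    set R := core r (centralizer ({a} : Set G))
    have hWR : W ≤ R := (h.local_core S (Or.inl hao) le_rfl (h.sylow_le_centralizer_singleton S ha)).1 W
      (core_pGroup _ _) (le_trans (core_le _ _) (centralizer_le (Set.singleton_subset_iff.2 ha)))
      (le_trans le_normalizer (h.normalizer_le_wSub S))
    by_contra hne
    obtain ⟨x, hx, hxW⟩ := SetLike.exists_of_lt
      (Grp.lt_inf_normalizer (core_pGroup r _).isNilpotent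
        (lt_of_le_of_ne hWR fun e => hne e.ge))
    refine hxW ((h.mem_wSub_iff S hS1).2 ⟨h.stab S h4 (hNW hx.2) ha ha1 ?_, h.exponent (core_pGroup r _) hx.1⟩)
    rw [mem_centralizer_singleton_iff.1 (core_le r _ hx.1), mul_inv_cancel_right]
  intro Y hY
  have hYW : Y ≤ W := by
    by_contra hno
    obtain ⟨a, ha, ha1, hno'⟩ := h.exists_fix_not_le S le_rfl hnc hY.1 hY.2 hno
    exact hno' ((h.inf_centralizer_le_core S hY ha ha1).trans (hR a ha ha1))
  intro s hs
  rw [mem_centralizer_iff]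
  intro y hy
  exact (mem_centralizer_iff.1 (core_le _ _ (hYW hy)) s hs).symm

theorem exists_complement_aux {H : Type*} [Group H] [Finite H] (r : ℕ) (hr : Odd r) (T : Sylow 2 H)
    (hT : normalizer ((T : Subgroup H) : Set H) ≤ centralizer ((T : Subgroup H) : Set H)) :
    ∃ O : Subgroup H, O.Normal ∧ ¬ 2 ∣ Nat.card O ∧ ∀ x : H, x ^ r = 1 → x ∈ O := by
  haveI := Fact.mk Nat.prime_two
  refine ⟨(MonoidHom.transferSylow T hT).ker, inferInstance,
    MonoidHom.not_dvd_card_ker_transferSylow T hT, fun x hx => ?_⟩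
  rw [MonoidHom.mem_ker]
  obtain ⟨k, hk⟩ := T.isPGroup' (MonoidHom.transferSylow T hT x)
  refine orderOf_eq_one_iff.1 (Nat.eq_one_of_dvd_coprimes (a := 2 ^ k) (b := r)
    (Nat.Coprime.pow_left k hr.coprime_two_left) (orderOf_dvd_of_pow_eq_one hk)
    (orderOf_dvd_of_pow_eq_one ?_))
  rw [← map_pow, hx, map_one]

/-- Over a nontrivial invariant `r`-subgroup the invariant `r`-subgroups of the normalizer are joined. -/
theorem OC.klein_local (h : OC G r) (hS1 : (S : Subgroup G) ≠ ⊥) (h4 : Nat.card (S : Subgroup G) = 4)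
    (hW : wSub r S = ⊥) {D P Q : Subgroup G} (hD : Inv S r D) (hD1 : D ≠ ⊥) (hP : Inv S r P)
    (hQ : Inv S r Q) (hPD : P ≤ normalizer (D : Set G)) (hQD : Q ≤ normalizer (D : Set G))
    (hnP : ¬ P ≤ D) (hnQ : ¬ Q ≤ D) :
    ∃ E, Inv S r E ∧ E ≤ normalizer (D : Set G) ∧ ¬ P ⊓ E ≤ D ∧ ¬ Q ⊓ E ≤ D := by
  classical
  haveI := Fact.mk h.hr
  haveI := Fact.mk Nat.prime_two
  set H := normalizer (D : Set G) with hH
  set T : Sylow 2 ↥H := S.subtype hD.2
  have hTc : (T : Subgroup ↥H) = (S : Subgroup G).subgroupOf H := S.coe_subtype hD.2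
  have hmemT : ∀ x : ↥H, x ∈ (T : Subgroup ↥H) ↔ (x : G) ∈ (S : Subgroup G) := fun x => by
    rw [hTc, mem_subgroupOf]
  have hT : normalizer ((T : Subgroup ↥H) : Set ↥H) ≤ centralizer ((T : Subgroup ↥H) : Set ↥H) := by
    intro n hn
    have hnS : (n : G) ∈ normalizer ((S : Subgroup G) : Set G) := by
      refine mem_normalizer_iff.2 fun x => ⟨fun hx => ?_, fun hx => ?_⟩
      · exact (hmemT _).1 ((mem_normalizer_iff.1 hn ⟨x, hD.2 hx⟩).1 ((hmemT _).2 hx))
      · have hxH : x ∈ H := by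
          have := hD.2 hx
          simpa [mul_assoc] using mul_mem (mul_mem (inv_mem n.2) this) n.2
        exact (hmemT _).1 ((mem_normalizer_iff.1 hn ⟨x, hxH⟩).2 ((hmemT _).2 hx))
    have hnc : (n : G) ∈ centralizer ((S : Subgroup G) : Set G) := by
      by_contra hc
      have hSD := h.klein_centralize S h4 hD hnS hc n.2
      refine hD1 (le_bot_iff.1 fun d hd => ?_)
      have hdW : d ∈ wSub r S := (h.mem_wSub_iff S hS1).2
        ⟨mem_centralizer_iff.2 fun s hs => (mem_centralizer_iff.1 (hSD hs) d hd).symm,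
          h.exponent hD.1 hd⟩
      rwa [hW] at hdW
    rw [mem_centralizer_iff]
    intro m hm
    exact Subtype.ext (mem_centralizer_iff.1 hnc m ((hmemT m).1 hm))
  obtain ⟨O₀, hO₀n, hO₀2, hO₀r⟩ := exists_complement_aux r h.r_odd T hT
  set O := O₀.map H.subtype
  have hOH : O ≤ H := map_subtype_le _
  have hO2 : ¬ 2 ∣ Nat.card O := by
    rw [card_map_of_injective H.subtype_injective]
    exact hO₀2
  have hOodd : ∀ x ∈ O, ∀ s ∈ (S : Subgroup G), x = s → x = 1 := by
    intro x hx s hs e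
    subst e
    by_contra h1
    refine hO2 ?_
    have : orderOf x = 2 := orderOf_eq_prime (by rw [pow_two]; exact h.sq S.isPGroup' hs) h1
    rw [← this, ← orderOf_mk x hx]
    exact orderOf_dvd_natCard _
  have hOS : (S : Subgroup G) ≤ normalizer (O : Set G) := by
    intro s hs
    have : (O₀.map H.subtype) = O := rfl
    refine mem_normalizer_iff.2 fun x => ?_
    constructor
    · rintro ⟨y, hy, rfl⟩
      exact ⟨⟨s, hD.2 hs⟩ * y * ⟨s, hD.2 hs⟩⁻¹, hO₀n.conj_mem y hy _, by simp⟩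
    · rintro ⟨y, hy, hye⟩
      refine ⟨⟨s, hD.2 hs⟩⁻¹ * y * ⟨s, hD.2 hs⟩, ?_, ?_⟩
      · simpa using hO₀n.conj_mem y hy (⟨s, hD.2 hs⟩⁻¹ : ↥H)
      · simp only [coe_subtype] at hye ⊢
        simp [hye, mul_assoc]
  have hcop : (Nat.card (S : Subgroup G)).Coprime (Nat.card O) := by
    rw [h4, show (4 : ℕ) = 2 ^ 2 by rfl]
    exact Nat.Coprime.pow_left 2 ((Nat.Prime.coprime_iff_not_dvd Nat.prime_two).2 hO2)
  have hsol : Group.IsSolvable (S : Subgroup G) ∨ Group.IsSolvable O :=
    Or.inl (by haveI := S.isPGroup'.isNilpotent; infer_instance)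
  have hrO : ∀ Y : Subgroup G, IsPGroup r Y → Y ≤ H → Y ≤ O := by
    intro Y hY hYH y hy
    exact ⟨⟨y, hYH hy⟩, hO₀r _ (Subtype.ext (by simpa using h.exponent hY hy)), rfl⟩
  obtain ⟨X, hX, hXS, hPX⟩ := Grp.exists_invariant_sylow_ge (S : Subgroup G) O hOS hcop hsol
    (hrO P hP.1 hPD) hP.1 hP.2
  obtain ⟨X', hX', hXS', hQX⟩ := Grp.exists_invariant_sylow_ge (S : Subgroup G) O hOS hcop hsol
    (hrO Q hQ.1 hQD) hQ.1 hQ.2
  obtain ⟨c, hc, hcX⟩ := Grp.invariant_sylow_conj (S : Subgroup G) O hOS hcop hsol hX hX' hXS hXS'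
  have hc1 : c = 1 := hOodd c hc.1 c (h.centralizer_le_sylow S hS1 hW hc.2) rfl
  rw [hc1, map_one, one_smul] at hcX
  subst hcX
  exact ⟨X, ⟨hX.2.1, hXS⟩, le_trans hX.1 hOH,
    fun hle => hnP (le_trans (le_inf le_rfl hPX) hle), fun hle => hnQ (le_trans (le_inf le_rfl hQX) hle)⟩

/-- The Brauer–Suzuki–Wall configuration. -/
theorem OC.psl_of_klein (h : OC G r) (hna : ∃ x y : G, x * y ≠ y * x)
    (h2 : ∃ g : G, orderOf g = 2 * r) (h4 : Nat.card (S : Subgroup G) = 4) (hW : wSub r S = ⊥)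
    {a : G} (ha : a ∈ (S : Subgroup G)) (ha1 : a ≠ 1)
    (hR : core r (centralizer ({a} : Set G)) ≠ ⊥) :
    ∃ (F : Type) (_ : Field F) (_ : Fintype F), Odd (Fintype.card F) ∧
      Nonempty (G ≃* Matrix.ProjectiveSpecialLinearGroup (Fin 2) F) := by
  classical
  haveI := Fact.mk h.hr
  haveI := Fact.mk Nat.prime_two
  have hS1 := h.sylow_ne_bot S h2
  have hnc := h.not_cyclic S hna h2
  have hao : orderOf a = 2 := orderOf_eq_prime (by rw [pow_two]; exact h.sq S.isPGroup' ha) ha1
  obtain ⟨hlY, hldec⟩ := h.local_core S (Or.inl hao) le_rfl (h.sylow_le_centralizer_singleton S ha)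
  set R := core r (centralizer ({a} : Set G)) with hRdef
  have hRI : Inv S r R :=
    h.core_inv S (le_trans (h.sylow_le_centralizer_singleton S ha) le_normalizer)
  have hW1 : ∀ x : G, x ∈ centralizer ((S : Subgroup G) : Set G) → x ^ r = 1 → x = 1 := fun x hx hxr => by
    have : x ∈ wSub r S := (h.mem_wSub_iff S hS1).2 ⟨hx, hxr⟩
    rwa [hW, mem_bot] at this
  -- maximal invariant subgroups over `R`
  obtain ⟨w, hw, hwc⟩ := h.exists_moving S hna h2
  have hmax : ∀ P, Maximal (Inv S r) P → R ≤ P → P = R := by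
    intro P hP hRP
    have hb : ∀ b ∈ (S : Subgroup G), b ≠ 1 → b ≠ a → P ⊓ centralizer ({b} : Set G) ≤ R := by
      intro b hb hb1 hba
      intro y hy
      by_contra hyR
      have hy1 : y ≠ 1 := fun e => hyR (e ▸ one_mem _)
      obtain ⟨v, hv, hvc, hvab⟩ : ∃ v ∈ normalizer ((S : Subgroup G) : Set G),
          v ∉ centralizer ((S : Subgroup G) : Set G) ∧ v * a * v⁻¹ = b := by
        by_cases hwab : w * a * w⁻¹ = b
        · exact ⟨w, hw, hwc, hwab⟩
        refine ⟨w ^ 2, pow_mem hw 2, (h.sq_moving S hw hwc).1, ?_⟩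
        have h1 : w * a * w⁻¹ ≠ a := fun e => hwc (h.stab S h4 hw ha ha1 e)
        have h2' : w ^ 2 * a * (w ^ 2)⁻¹ ≠ a := fun e =>
          (h.sq_moving S hw hwc).1 (h.stab S h4 (pow_mem hw 2) ha ha1 e)
        have h3 : w ^ 2 * a * (w ^ 2)⁻¹ ≠ w * a * w⁻¹ := fun e => h1 (by
          calc w * a * w⁻¹ = w⁻¹ * (w ^ 2 * a * (w ^ 2)⁻¹) * w := by group
            _ = w⁻¹ * (w * a * w⁻¹) * w := by rw [e]
            _ = a := by group)
        have hm1 := (mem_normalizer_iff.1 hw a).1 ha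
        have hm2 := (mem_normalizer_iff.1 (pow_mem hw 2) a).1 ha
        have e1 : w * a * w⁻¹ = a * b := by
          rcases h.four_cases S h4 ha hb ha1 hb1 (Ne.symm hba) hm1 with e | e | e | e
          exacts [absurd (conj_eq_one_iff.1 e) ha1, absurd e h1, absurd e hwab, e]
        rcases h.four_cases S h4 ha hb ha1 hb1 (Ne.symm hba) hm2 with e | e | e | e
        exacts [absurd (conj_eq_one_iff.1 e) ha1, absurd e h2', e, absurd (e.trans e1.symm) h3]
      obtain ⟨P₀, hP₀, hP₀m⟩ := exists_max S (hP.1.conj S hv)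
      have hmap : P.map (MulAut.conj v).toMonoidHom = P₀ := by
        refine le_antisymm hP₀ ?_
        have hvi := inv_mem hv
        have h2 : P₀.map (MulAut.conj v⁻¹).toMonoidHom = P := by
          refine (hP.eq_of_le (hP₀m.1.conj S hvi) ?_).symm
          intro x hx
          exact ⟨v * x * v⁻¹, hP₀ ⟨x, hx, rfl⟩, by simp [mul_assoc]⟩
        intro x hx
        refine ⟨v⁻¹ * x * v, h2 ▸ ⟨x, hx, by simp⟩, by simp [mul_assoc]⟩
      have hy0 : y ∈ P₀ := by
        rw [← hmap]
        refine ⟨v⁻¹ * y * v, hRP ?_, by simp [mul_assoc]⟩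
        set Rb := core r (centralizer ({b} : Set G))
        have hyb : y ∈ Rb := h.inf_centralizer_le_core S hP.1 hb hb1 hy
        have hI := (h.core_inv (r := r) S
          (X := centralizer ({b} : Set G)) (le_trans (h.sylow_le_centralizer_singleton S hb) le_normalizer)).conj S (inv_mem hv)
        refine hlY _ hI.1 ?_ hI.2 ⟨y, hyb, by simp⟩
        rintro _ ⟨x, hx, rfl⟩
        have hxb := mem_centralizer_singleton_iff.1 (core_le r _ hx)
        rw [← hvab] at hxb
        rw [mem_centralizer_singleton_iff]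
        simp only [MulEquiv.coe_toMonoidHom, MulAut.conj_apply, inv_inv]
        calc v⁻¹ * x * v * a = v⁻¹ * (x * (v * a * v⁻¹)) * v := by group
          _ = v⁻¹ * ((v * a * v⁻¹) * x) * v := by rw [hxb]
          _ = a * (v⁻¹ * x * v) := by group
      have hPP := max_unique S h.hr (fun D => D ≠ ⊥)
        (fun D D' hD hle e => hD (le_bot_iff.1 (e ▸ hle)))
        (fun D P Q hD hD1 hP hQ => h.klein_local S hS1 h4 hW hD hD1 hP hQ)
        hP hP₀m (fun e => hy1 (mem_bot.1 (e ▸ ⟨hy.1, hy0⟩)))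
      subst hPP
      have hvP : v ∈ normalizer (P : Set G) := by
        rw [Grp.mem_normalizer_iff_smul, ← Grp.map_conj_eq_smul]; exact hmap
      have hSP := h.klein_centralize S h4 hP.1 hv hvc hvP
      exact hy1 (hW1 y (mem_centralizer_iff.2 fun s hs => (mem_centralizer_iff.1 (hSP hs) y hy.1).symm)
        (h.exponent hP.1.1 hy.1))
    refine le_antisymm ?_ hRP
    by_contra hno
    obtain ⟨b, hb', hb1, hno'⟩ := h.exists_fix_not_le S le_rfl hnc hP.1.1 hP.1.2 hno
    by_cases hba : b = a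
    · subst hba
      exact hno' (h.inf_centralizer_le_core S hP.1 ha ha1)
    · exact hno' (hb b hb' hb1 hba)
  -- elements of `S` outside `⟨a⟩` invert `R`
  have hfixb : ∀ b ∈ (S : Subgroup G), b ≠ 1 → b ≠ a → ∀ y ∈ R, b * y = y * b → y = 1 := by
    intro b hb hb1 hba y hy hc
    refine hW1 y (mem_centralizer_iff.2 fun s hs => ?_) (h.exponent hRI.1 hy)
    have hay := (mem_centralizer_singleton_iff.1 (core_le r _ hy)).symm
    rcases h.four_cases S h4 ha hb ha1 hb1 (Ne.symm hba) hs with rfl | rfl | rfl | rfl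
    · simp
    · exact hay
    · exact hc
    · rw [mul_assoc, hc, ← mul_assoc, hay, mul_assoc]
  have hinv : ∀ b ∈ (S : Subgroup G), b ≠ 1 → b ≠ a → ∀ y ∈ R, b * y * b⁻¹ = y⁻¹ := by
    intro b hb hb1 hba y hy
    set φ := R.normalizerMonoidHom ⟨b, hRI.2 hb⟩
    have hφ : MonoidHom.FixedPointFree φ := fun x hx => by
      have hx' : b * (x : G) * b⁻¹ = x := congrArg Subtype.val hx
      exact Subtype.ext (hfixb b hb hb1 hba x x.2 (mul_inv_eq_iff_eq_mul.1 hx'))
    have h2' : Function.Involutive φ := fun x => Subtype.ext (by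
      show b * (b * (x : G) * b⁻¹) * b⁻¹ = x
      rw [show b * (b * (x : G) * b⁻¹) * b⁻¹ = (b * b) * x * (b * b)⁻¹ by group, h.sq S.isPGroup' hb]
      simp)
    exact congrArg Subtype.val (congrFun (hφ.coe_eq_inv_of_involutive h2') ⟨y, hy⟩)
  obtain ⟨b, hb, hb1, hba⟩ := OC.exists_other S h4 a
  have hRab : ∀ x ∈ R, ∀ y ∈ R, x * y = y * x := by
    intro x hx y hy
    have h3 := hinv b hb hb1 hba _ (mul_mem hx hy)
    rw [show b * (x * y) * b⁻¹ = (b * x * b⁻¹) * (b * y * b⁻¹) by group, hinv b hb hb1 hba x hx,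
      hinv b hb hb1 hba y hy, ← mul_inv_rev, inv_inj] at h3
    exact h3.symm
  have hsq : ∀ y ∈ R, y * y = 1 → y = 1 := by
    intro y hy hyy
    refine orderOf_eq_one_iff.1 (Nat.eq_one_of_dvd_coprimes (a := 2) (b := r) ?_
      (orderOf_dvd_of_pow_eq_one (by rw [pow_two, hyy])) (orderOf_dvd_of_pow_eq_one (h.exponent hRI.1 hy)))
    exact (Nat.coprime_primes Nat.prime_two h.hr).2 (Ne.symm h.r2)
  have hbmove : ∀ b ∈ (S : Subgroup G), b ≠ 1 → b ≠ a → ∀ y ∈ R, y ≠ 1 → b * y ≠ y * b :=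
    fun b hb hb1 hba y hy hy1 hc => hy1 (hfixb b hb hb1 hba y hy hc)
  -- centralizers of nonidentity elements of `R`
  have hCz : ∀ z ∈ R, z ≠ 1 → ∀ x ∈ centralizer ({z} : Set G), ∃ o ∈ R, o * 1 = x ∨ o * a = x := by
    intro z hz hz1
    have hzo : orderOf z = r := orderOf_eq_prime (h.exponent hRI.1 hz) hz1
    set X := centralizer ({z} : Set G) with hX
    have hinter : ∀ x ∈ X, x ∈ centralizer ({a} : Set G) → ∃ o ∈ R, o * 1 = x ∨ o * a = x := by
      intro x hxz hxa
      obtain ⟨o, ho, n, hna', hn, rfl⟩ := hldec x hxa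
      have hnS : n ∈ (S : Subgroup G) := h.centralizer_le_sylow S hS1 hW
        (h.stab S h4 hn ha ha1 (by rw [mem_centralizer_singleton_iff.1 hna', mul_inv_cancel_right]))
      refine ⟨o, ho, ?_⟩
      by_contra hno
      have hn1 : n ≠ 1 := fun e => hno (Or.inl (by rw [e]))
      have hna2 : n ≠ a := fun e => hno (Or.inr (by rw [e]))
      refine hbmove n hnS hn1 hna2 z hz hz1 ?_
      have hm := mem_centralizer_singleton_iff.1 hxz
      rw [mul_assoc, ← mul_assoc z o n, hRab z hz o ho, mul_assoc] at hm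
      exact mul_left_cancel hm
    have hRX : R ≤ X := fun x hx => mem_centralizer_singleton_iff.2 (hRab x hx z hz)
    have haX : a ∈ X := mem_centralizer_singleton_iff.2
      (mem_centralizer_singleton_iff.1 (core_le r _ hz)).symm
    have ha2 : IsPGroup 2 ((zpowers a).subgroupOf X) := by
      refine (IsPGroup.of_card (n := 1) ?_).comap_subtype
      rw [Nat.card_zpowers, hao, pow_one]
    obtain ⟨T, hT⟩ := ha2.exists_le_sylow
    have haT : (⟨a, haX⟩ : ↥X) ∈ (T : Subgroup ↥X) := hT (mem_subgroupOf.2 (mem_zpowers a))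
    have hTm : IsPGroup 2 ((T : Subgroup ↥X).map X.subtype) := T.isPGroup'.map _
    have hTa : ∀ t ∈ (T : Subgroup ↥X), (t : G) = 1 ∨ (t : G) = a := by
      intro t ht
      have htG : (t : G) ∈ (T : Subgroup ↥X).map X.subtype := ⟨t, ht, rfl⟩
      have haG : a ∈ (T : Subgroup ↥X).map X.subtype := ⟨_, haT, rfl⟩
      have hcomm : (t : G) * a = a * t :=
        congrArg Subtype.val ((h.two_comm hTm).is_comm.comm ⟨_, htG⟩ ⟨_, haG⟩)
      obtain ⟨o, ho, hoe⟩ := hinter t t.2 (mem_centralizer_singleton_iff.2 hcomm)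
      have ht2 := h.sq hTm htG
      have hoa := mem_centralizer_singleton_iff.1 (core_le r _ ho)
      have : o = 1 := by
        refine hsq o ho ?_
        rcases hoe with e | e <;> rw [← e] at ht2
        · simpa using ht2
        · rw [mul_assoc, ← mul_assoc a o a, ← hoa, mul_assoc, h.sq S.isPGroup' ha, mul_one] at ht2
          exact ht2
      rcases hoe with e | e
      · exact Or.inl (by rw [← e, this, one_mul])
      · exact Or.inr (by rw [← e, this, one_mul])
    have hTab : IsMulCommutative (T : Subgroup ↥X) :=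
      ⟨⟨fun p q => Subtype.ext (Subtype.ext (congrArg Subtype.val
        ((h.two_comm hTm).is_comm.comm ⟨_, p.1, p.2, rfl⟩ ⟨_, q.1, q.2, rfl⟩) :))⟩⟩
    obtain ⟨hNn, hYc⟩ := core_facts (X := ↥X) r h.r2
      (fun p hp hd => h.primes_centralizer (Or.inr hzo) le_rfl hp hd) T hTab
    have hSX : (S : Subgroup G) ≤ normalizer (X : Set G) := by
      intro s hs
      have key : ∀ x ∈ X, s * x * s⁻¹ ∈ X := by
        intro x hx
        have hxz := mem_centralizer_singleton_iff.1 hx
        rw [hX, mem_centralizer_singleton_iff]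
        by_cases hs' : s = 1 ∨ s = a
        · have hsz : s * z = z * s := by
            rcases hs' with rfl | rfl
            · simp
            · exact mem_centralizer_singleton_iff.1 haX
          exact ((Commute.mul_left hsz hxz).mul_left (Commute.inv_left hsz)).eq
        · push Not at hs'
          have hi := hinv s hs hs'.1 hs'.2 z hz
          have hzz : z = s * z⁻¹ * s⁻¹ := by
            calc z = (s * z * s⁻¹)⁻¹ := by rw [hi, inv_inv]
              _ = s * z⁻¹ * s⁻¹ := by group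
          have hxz' : x * z⁻¹ = z⁻¹ * x := Commute.inv_right hxz
          calc s * x * s⁻¹ * z = s * x * s⁻¹ * (s * z⁻¹ * s⁻¹) := by rw [← hzz]
            _ = s * (x * z⁻¹) * s⁻¹ := by group
            _ = s * (z⁻¹ * x) * s⁻¹ := by rw [hxz']
            _ = (s * z⁻¹ * s⁻¹) * (s * x * s⁻¹) := by group
            _ = z * (s * x * s⁻¹) := by rw [← hzz]
      have hsi : s⁻¹ = s := inv_eq_of_mul_eq_one_right (h.sq S.isPGroup' hs)
      refine mem_normalizer_iff.2 fun x => ⟨key x, fun hx => ?_⟩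
      have := key _ hx
      rw [show s * (s * x * s⁻¹) * s⁻¹ = (s * s) * x * (s * s)⁻¹ by group, h.sq S.isPGroup' hs] at this
      simpa using this
    have hRO : R ≤ core r X := by
      intro x hx
      refine ⟨⟨x, hRX hx⟩, hYc _ (hRI.1.comap_subtype) ?_ (mem_subgroupOf.2 hx), rfl⟩
      intro t ht
      have htR : (t : G) ∈ normalizer (R : Set G) := by
        rcases hTa t ht with e | e <;> rw [e]
        exacts [one_mem _, hRI.2 ha]
      refine mem_normalizer_iff.2 fun y => ?_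
      simpa [mem_subgroupOf] using mem_normalizer_iff.1 htR (y : G)
    obtain ⟨Pm, hPm, hPmm⟩ := exists_max S (h.core_inv (r := r) S hSX)
    have hcore : core r X = R := le_antisymm (hPm.trans (hmax Pm hPmm (hRO.trans hPm)).le) hRO
    intro x hx
    haveI := hNn
    haveI : (Cfsg.pCore r ↥X).Normal := Grp.pCore_isNormal
    have htop : normalizer ((T : Subgroup ↥X) : Set ↥X) ⊔ ((T : Subgroup ↥X) ⊔ Cfsg.pCore r ↥X) = ⊤ :=
      Sylow.normalizer_sup_eq_top' T le_sup_left
    rw [← sup_assoc, sup_eq_left.2 (le_normalizer (H := (T : Subgroup ↥X))), sup_comm] at htop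
    obtain ⟨o, ho, n, hn, hon⟩ := mem_sup_of_normal_left.1 (htop.symm ▸ mem_top (⟨x, hx⟩ : ↥X))
    have hoR : (o : G) ∈ R := hcore ▸ ⟨o, ho, rfl⟩
    have hna' : (n : G) ∈ centralizer ({a} : Set G) := by
      rw [mem_centralizer_singleton_iff]
      rcases hTa _ ((mem_normalizer_iff.1 hn _).1 haT) with e | e
      · exact absurd (conj_eq_one_iff.1 e) ha1
      · exact mul_inv_eq_iff_eq_mul.1 e
    obtain ⟨o', ho', hoe⟩ := hinter n n.2 hna'
    refine ⟨o * o', mul_mem hoR ho', ?_⟩
    have hx' : (o : G) * n = x := congrArg Subtype.val hon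
    rcases hoe with e | e
    · exact Or.inl (by rw [← hx', ← e]; group)
    · exact Or.inr (by rw [← hx', ← e]; group)
  haveI hK : IsKleinFour ↥(S : Subgroup G) :=
    { card_four := h4
      exponent_two := by
        refine Nat.dvd_antisymm (Monoid.exponent_dvd_of_forall_pow_eq_one fun x => Subtype.ext ?_) ?_
        · rw [SubmonoidClass.coe_pow, pow_two]; exact h.sq S.isPGroup' x.2
        · refine (dvd_of_eq ?_).trans (Monoid.order_dvd_exponent (⟨a, ha⟩ : ↥(S : Subgroup G)))
          rw [orderOf_mk, hao] }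
  have hSC : (S : Subgroup G) ⊓ centralizer (R : Set G) = zpowers a := by
    obtain ⟨y, hy, hy1⟩ := (bot_or_exists_ne_one R).resolve_left hR
    refine le_antisymm (fun s hs => ?_) (zpowers_le.2 ⟨ha, mem_centralizer_iff.2 fun x hx =>
      mem_centralizer_singleton_iff.1 (core_le r _ hx)⟩)
    by_cases hs1 : s = 1
    · exact hs1 ▸ one_mem _
    by_cases hsa : s = a
    · exact hsa ▸ mem_zpowers a
    · exact absurd (mem_centralizer_iff.1 hs.2 y hy).symm (hbmove s hs.1 hs1 hsa y hy hy1)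
  have hcz : Nat.card (zpowers a) = 2 := by rw [Nat.card_zpowers, hao]
  refine Cfsg.Agent.S0508.result S 2 le_rfl IsKleinFour.nonempty_mulEquiv a hao ha
    (fun s hs => h.sylow_comm S hs ha) R ?_ (fun _ => ⟨?_, ?_⟩) ?_ ?_
  · rw [hRdef, core]
    congr 1
    refine le_antisymm (Grp.le_pPrimeCore Grp.pCore_isNormal ?_) ?_
    · obtain ⟨k, hk⟩ := IsPGroup.iff_card.1 (Grp.pCore_isPGroup (p := r) (G := ↥(centralizer ({a} : Set G))))
      rw [hk]
      exact Nat.Coprime.pow_left k ((Nat.coprime_primes h.hr Nat.prime_two).2 h.r2)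
    · haveI := (Grp.pPrimeCore_isNormal : (Cfsg.pPrimeCore 2 ↥(centralizer ({a} : Set G))).Normal)
      refine Grp.le_pCore inferInstance ?_
      refine fun x => ⟨1, ?_⟩
      rw [pow_one]
      rcases eq_or_ne x 1 with rfl | hx1
      · exact one_pow r
      have hodd : Odd (orderOf x) := (Nat.coprime_two_right.1
        (Grp.pPrimeCore_coprime (p := 2))).of_dvd_nat (orderOf_dvd_natCard x)
      have hx1' : ((x : ↥(centralizer ({a} : Set G))) : G) ≠ 1 := fun e => hx1 (Subtype.ext (Subtype.ext e))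
      have ho : orderOf ((x : ↥(centralizer ({a} : Set G))) : G) = orderOf x := by
        rw [orderOf_coe, orderOf_coe]
      have hp := h.prime_of_odd hx1' (ho.symm ▸ hodd)
      have h2r := h.comm_orders (x := a)
        (mem_centralizer_singleton_iff.1 (x : ↥(centralizer ({a} : Set G))).2).symm hao rfl
        Nat.prime_two hp (fun e => by
          rw [← e] at ho
          rw [← ho] at hodd
          exact absurd hodd (by decide))
      have hox : orderOf x = r := ho ▸ Nat.eq_of_mul_eq_mul_left (by norm_num) h2r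
      rw [← hox, pow_orderOf_eq_one]
  · rw [hSC]; exact isCyclic_of_prime_card hcz
  · rw [hSC]
    have := Grp.card_mul_relIndex (G := G) (H := zpowers a) (K := (S : Subgroup G)) (zpowers_le.2 ha)
    rw [hcz, h4] at this
    omega
  · intro s hs hsc y hy
    have hsa : s ≠ a := fun e => hsc (e ▸ mem_centralizer_iff.2 fun x hx =>
      mem_centralizer_singleton_iff.1 (core_le r _ hx))
    exact hinv s hs (fun e => hsc (e ▸ one_mem _)) hsa y hy
  · intro Y hY hY1 n hn
    obtain ⟨z, hz, hz1⟩ := (bot_or_exists_ne_one Y).resolve_left hY1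
    have hCa : ∀ y ∈ Y, a * y = y * a := fun y hy =>
      (mem_centralizer_singleton_iff.1 (core_le r _ (hY hy))).symm
    set a' := n * a * n⁻¹ with ha'
    have ha'z : a' ∈ centralizer ({z} : Set G) := by
      rw [mem_centralizer_singleton_iff, ha']
      have hz' : n⁻¹ * z * n ∈ Y := by
        have := (mem_normalizer_iff.1 (inv_mem hn) z).1 hz
        rwa [inv_inv] at this
      calc n * a * n⁻¹ * z = n * (a * (n⁻¹ * z * n)) * n⁻¹ := by group
        _ = n * ((n⁻¹ * z * n) * a) * n⁻¹ := by rw [hCa _ hz']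
        _ = z * (n * a * n⁻¹) := by group
    obtain ⟨o, ho, hoe⟩ := hCz z (hY hz) hz1 a' ha'z
    have ha'2 : a' * a' = 1 := by
      rw [ha', show n * a * n⁻¹ * (n * a * n⁻¹) = n * (a * a) * n⁻¹ by group, h.sq S.isPGroup' ha]
      simp
    have hoa := mem_centralizer_singleton_iff.1 (core_le r _ ho)
    have ho1 : o = 1 := by
      refine hsq o ho ?_
      rcases hoe with e | e <;> rw [← e] at ha'2
      · simpa using ha'2
      · rw [mul_assoc, ← mul_assoc a o a, ← hoa, mul_assoc, h.sq S.isPGroup' ha, mul_one] at ha'2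
        exact ha'2
    have ha'1 : a' ≠ 1 := fun e => ha1 (conj_eq_one_iff.1 e)
    rw [mem_centralizer_singleton_iff]
    refine mul_inv_eq_iff_eq_mul.1 ?_
    rcases hoe with e | e
    · exact absurd (by rw [← e, ho1, one_mul]) ha'1
    · rw [← ha', ← e, ho1, one_mul]

/-- If the Sylow 2-subgroup has order four, it centralizes every invariant `r`-subgroup or `G` is
`PSL(2, q)` for odd `q`. -/
theorem OC.good_or_psl_of_four (h : OC G r) (hna : ∃ x y : G, x * y ≠ y * x)
    (h2 : ∃ g : G, orderOf g = 2 * r) (h4 : Nat.card (S : Subgroup G) = 4) :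
    Good S r ∨ ∃ (F : Type) (_ : Field F) (_ : Fintype F), Odd (Fintype.card F) ∧
      Nonempty (G ≃* Matrix.ProjectiveSpecialLinearGroup (Fin 2) F) := by
  by_cases hW : wSub r S = ⊥
  · by_cases hR : ∃ a ∈ (S : Subgroup G), a ≠ 1 ∧ core r (centralizer ({a} : Set G)) ≠ ⊥
    · obtain ⟨a, ha, ha1, hR⟩ := hR
      exact Or.inr (h.psl_of_klein S hna h2 h4 hW ha ha1 hR)
    · push Not at hR
      refine Or.inl fun Y hY => ?_
      have hY1 : Y ≤ ⊥ := by
        by_contra hno
        obtain ⟨a, ha, ha1, hno'⟩ := h.exists_fix_not_le S le_rfl (h.not_cyclic S hna h2) hY.1 hY.2 hno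
        exact hno' ((h.inf_centralizer_le_core S hY ha ha1).trans (hR a ha ha1).le)
      rw [le_bot_iff.1 hY1]
      intro s _
      rw [mem_centralizer_iff]
      intro y hy
      rw [SetLike.mem_coe, mem_bot] at hy
      simp [hy]
  · exact Or.inl (h.good_of_wSub S hna h2 h4 hW)

end Cfsg.Agent.Recog.OneComp
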