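import Cfsg.Agent.Lib.Recog.OneComp.Points
import Cfsg.Agent.Lib.Block.SmallOrd.Middle
import Cfsg.Agent.Lib.Recog.OneComp.Klein

/-!
The case of index `r`: an element of order `r` fixing two points; no strongly embedded configuration exists.
-/

set_option autoImplicit false
set_option linter.unusedSectionVars false

namespace Cfsg.Agent.Recog.OneComp

open Subgroup
open scoped Pointwise commutatorElement

variable {G : Type*} [Group G] [Finite G] [IsSimpleGroup G] {r p : ℕ} {S : Sylow 2 G} {M : Subgroup G}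
  {u x y t : G}

/-- An element of order `r` of the two-point stabiliser outside `M` and the involution it centralizes. -/
structure Idx (S : Sylow 2 G) (r p : ℕ) (M : Subgroup G) (u x y t : G) : Prop where
  two : Two S r p M u x
  hrel : M.relIndex (normalizer ((S : Subgroup G) : Set G)) = r
  hy : y ∈ normalizer ((S : Subgroup G) : Set G)
  hyM : y ∉ M
  hyu : u⁻¹ * y * u ∈ normalizer ((S : Subgroup G) : Set G)
  hyo : orderOf y = r
  ht : t ∈ (S : Subgroup G)
  ht1 : t ≠ 1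
  hyt : y * t = t * y

theorem Two.exists_comm_sylow (h : Two S r p M u x) {n : G}
    (hn : n ∈ normalizer ((S : Subgroup G) : Set G)) (hnr : n ^ r = 1) :
    ∃ s ∈ (S : Subgroup G), s ≠ 1 ∧ n * s = s * n := by
  haveI := Fact.mk h.ctx.oc.hr
  refine exists_comm hn hnr ?_
  rw [h.ctx.hend.card]
  intro he
  have hd := (Nat.modEq_iff_dvd' (by omega)).1 he.symm
  rw [Nat.add_sub_cancel] at hd
  exact h.p_ne_r ((Nat.prime_dvd_prime_iff_eq h.ctx.oc.hr h.ctx.hend.prime).1 hd)

theorem Two.exists_idx (h : Two S r p M u x) : ∃ y t, Idx S r p M u x y t := by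
  have K := h.ctx
  set N := normalizer ((S : Subgroup G) : Set G) with hN
  obtain hall | ⟨-, -, hrel, hpow⟩ := K.hend.cases
  · exact absurd hall h.not_all
  obtain ⟨n, hn, hnM⟩ : ∃ n ∈ N, n ∉ M := by
    by_contra hno
    push Not at hno
    exact h.not_all hno
  have ha : n * x * n⁻¹ ∈ M := (mem_normalizer_iff.1 (K.hend.normal hn) x).1 h.hx
  obtain ⟨m, hm, hmx, hmx'⟩ := h.sylow_conj ha (by rw [Invol.orderOf_conj_eq, h.x_order])
  set y := (m * n)⁻¹ with hy
  have hmn : m * n ∈ N := mul_mem (K.hend.le hm) hn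
  have hyN : y ∈ N := inv_mem hmn
  have hyM : y ∉ M := fun e => hnM (by simpa using mul_mem (inv_mem hm) (inv_mem_iff.1 e))
  have hyu : u⁻¹ * y * u ∈ N := by
    refine h.fix_swap hyN ?_
    rw [show y⁻¹ * x * y = m * (n * x * n⁻¹) * m⁻¹ by rw [hy]; group]
    exact hmx
  have hy1 : y ≠ 1 := fun e => hyM (e ▸ one_mem _)
  have hq := K.oc.prime_of_odd hy1 (K.odd_inter h.huN hyN hyu)
  have hyo : orderOf y = r := by
    by_contra hne
    refine hyM ?_
    obtain ⟨k, hk⟩ := exists_pow_eq_self_of_coprime (x := y) (n := r)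
      ((Nat.coprime_primes K.oc.hr hq).2 (Ne.symm hne))
    rw [← hk]
    exact pow_mem (hpow y hyN) k
  obtain ⟨t, ht, ht1, hyt⟩ := h.exists_comm_sylow hyN (by rw [← hyo, pow_orderOf_eq_one])
  exact ⟨y, t, h, hrel, hyN, hyM, hyu, hyo, ht, ht1, hyt⟩

theorem Idx.to_order (I : Idx S r p M u x y t) : orderOf t = 2 :=
  I.two.ctx.oc.orderOf_sylow S I.ht I.ht1

/-- `y` centralizes a unique involution of `S`. -/
theorem Idx.uniq (I : Idx S r p M u x y t) {s : G} (hs : s ∈ (S : Subgroup G)) (hc : y * s = s * y) :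
    s = 1 ∨ s = t := by
  by_contra hno
  push Not at hno
  have h := I.two
  have K := h.ctx
  obtain ⟨z, hz, hzs⟩ := h.orbit_t I.ht I.ht1 hs hno.1
  obtain ⟨hzM, hzu⟩ := h.zpowers_fix hz
  set z' := y * z * y⁻¹ with hz'
  have hz'M : z' ∈ M := (mem_normalizer_iff.1 (K.hend.normal I.hy) z).1 hzM
  have hz'u : u⁻¹ * z' * u ∈ normalizer ((S : Subgroup G) : Set G) := by
    rw [hz', show u⁻¹ * (y * z * y⁻¹) * u = (u⁻¹ * y * u) * (u⁻¹ * z * u) * (u⁻¹ * y * u)⁻¹ by group]
    exact mul_mem (mul_mem I.hyu hzu) (inv_mem I.hyu)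
  have hz'x := (K.mem_zpowers_of_mem h.hu h.huN h.hx h.hxu h.x_ne hz'M hz'u).2
  have h1 : z' * t * z'⁻¹ = s := by
    have e : y⁻¹ * t * y = t := by rw [mul_assoc, ← I.hyt, inv_mul_cancel_left]
    rw [hz', show y * z * y⁻¹ * t * (y * z * y⁻¹)⁻¹ = y * (z * (y⁻¹ * t * y) * z⁻¹) * y⁻¹ by group, e, hzs,
      hc, mul_inv_cancel_right]
  have h2 : z⁻¹ * z' = 1 := h.orbit_inj I.ht I.ht1 (mul_mem (inv_mem hz) hz'x) (by
    calc z⁻¹ * z' * t = z⁻¹ * (z' * t * z'⁻¹) * z' := by group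
      _ = z⁻¹ * (z * t * z⁻¹) * z' := by rw [h1, hzs]
      _ = _ := by group)
  have h3 : Commute y z := mul_inv_eq_iff_eq_mul.1 (inv_mul_eq_one.1 h2).symm
  have hz1 : z ≠ 1 := fun e => hno.2 (by rw [← hzs, e]; simp)
  have h4 := orderOf_dvd_of_pow_eq_one (K.centralizer_exponent h.hu h.huN hzM hzu hz1 h3)
  rw [I.hyo] at h4
  exact h.p_ne_r ((Nat.prime_dvd_prime_iff_eq K.oc.hr K.hend.prime).1 h4)

theorem Idx.coset (I : Idx S r p M u x y t) {n : G} (hn : n ∈ normalizer ((S : Subgroup G) : Set G)) :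
    ∃ k : ℤ, (y ^ k)⁻¹ * n ∈ M := by
  set N := normalizer ((S : Subgroup G) : Set G) with hN
  haveI : (M.subgroupOf N).Normal := (normal_subgroupOf_iff_le_normalizer I.two.ctx.hend.le).2 I.two.ctx.hend.normal
  haveI := Fact.mk I.two.ctx.oc.hr
  have hcard : Nat.card (↥N ⧸ M.subgroupOf N) = r := by
    rw [← index_eq_card]; exact I.hrel
  have hne : (QuotientGroup.mk (⟨y, I.hy⟩ : ↥N) : ↥N ⧸ M.subgroupOf N) ≠ 1 := fun e =>
    I.hyM (mem_subgroupOf.1 ((QuotientGroup.eq_one_iff _).1 e))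
  obtain ⟨k, hk⟩ := mem_zpowers_iff.1 (show (QuotientGroup.mk (⟨n, hn⟩ : ↥N) : ↥N ⧸ M.subgroupOf N) ∈
      zpowers (QuotientGroup.mk (⟨y, I.hy⟩ : ↥N)) by
    rw [zpowers_eq_top_of_prime_card hcard hne]; exact mem_top _)
  rw [← QuotientGroup.mk_zpow, QuotientGroup.eq, mem_subgroupOf] at hk
  exact ⟨k, by simpa using hk⟩

/-- The centralizer of `y` is not contained in `N`. -/
theorem Idx.exists_out (I : Idx S r p M u x y t) :
    ∃ g ∈ centralizer ({y} : Set G), g ∉ normalizer ((S : Subgroup G) : Set G) := by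
  have h := I.two
  have K := h.ctx
  haveI := Fact.mk K.oc.hr
  set N := normalizer ((S : Subgroup G) : Set G) with hN
  have hu2 : u * u = 1 := by rw [← pow_two, ← h.hu, pow_orderOf_eq_one]
  set y2 := u * y * u⁻¹ with hy2
  have hy2N : y2 ∈ N := by
    have := I.hyu
    rwa [conj_swap_order h.hu, show u * y * u = y2 by rw [hy2, conj_swap_order h.hu]] at this
  have hy2u : u⁻¹ * y2 * u = y := by rw [hy2]; group
  have hy2r : y2 ^ r = 1 := by rw [hy2, conj_pow, ← I.hyo, pow_orderOf_eq_one, mul_one, mul_inv_cancel]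
  obtain ⟨s, hs, hs1, hsc⟩ := h.exists_comm_sylow hy2N hy2r
  obtain ⟨z, hz, hzs⟩ := h.orbit_t hs hs1 I.ht I.ht1
  obtain ⟨hzM, hzu⟩ := h.zpowers_fix hz
  set y3 := z * y2 * z⁻¹ with hy3
  have hy3N : y3 ∈ N := mul_mem (mul_mem (K.hend.le hzM) hy2N) (inv_mem (K.hend.le hzM))
  have hy3u : u⁻¹ * y3 * u ∈ N := by
    rw [hy3, show u⁻¹ * (z * y2 * z⁻¹) * u = (u⁻¹ * z * u) * (u⁻¹ * y2 * u) * (u⁻¹ * z * u)⁻¹ by group, hy2u]
    exact mul_mem (mul_mem hzu I.hy) (inv_mem hzu)
  have hy3t : Commute y3 t := by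
    rw [hy3, ← hzs]
    exact (Commute.conj_iff z).2 hsc
  obtain ⟨k, hk⟩ := I.coset hy3N
  have hmt : Commute ((y ^ k)⁻¹ * y3) t := ((Commute.zpow_left I.hyt k).inv_left).mul_left hy3t
  have hmu : u⁻¹ * ((y ^ k)⁻¹ * y3) * u ∈ N := by
    rw [show u⁻¹ * ((y ^ k)⁻¹ * y3) * u = (u⁻¹ * y ^ k * u)⁻¹ * (u⁻¹ * y3 * u) by group,
      show u⁻¹ * y ^ k * u = (u⁻¹ * y * u) ^ k by
        rw [show u⁻¹ * y * u = u⁻¹ * y * u⁻¹⁻¹ by rw [inv_inv], conj_zpow, inv_inv]]
    exact mul_mem (inv_mem (zpow_mem I.hyu k)) hy3u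
  have hk' : y ^ k = y3 :=
    inv_mul_eq_one.1 (K.core_trivial h.hu h.huN (K.hend.fpf _ hk t I.ht I.ht1 hmt) hmu)
  set v := z * u with hv
  have hvy : v * y * v⁻¹ = y ^ k := by
    rw [hk', hy3, hy2, hv]; group
  have hgen : y ∈ zpowers (y ^ k) := by
    have hle : zpowers (y ^ k) ≤ zpowers y := zpowers_le.2 ⟨k, rfl⟩
    rw [eq_of_le_of_card_ge hle (by rw [Nat.card_zpowers, Nat.card_zpowers, ← hvy, Invol.orderOf_conj_eq])]
    exact mem_zpowers y
  have hvt : Commute (y ^ k) (v * t * v⁻¹) := hvy ▸ (Commute.conj_iff v).2 I.hyt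
  refine ⟨v * t * v⁻¹, ?_, fun hm => ?_⟩
  · obtain ⟨j, hj⟩ := hgen
    rw [mem_centralizer_singleton_iff]
    exact (hj ▸ hvt.zpow_left j : Commute y (v * t * v⁻¹)).symm.eq
  · refine h.huN ?_
    have h2 : v⁻¹ ∈ N := K.mem_of_conj_involution (g := v⁻¹) (le_normalizer I.ht) I.to_order
      (by rwa [inv_inv])
    have := mul_mem (inv_mem (K.hend.le hzM)) (inv_mem_iff.1 h2)
    rwa [hv, inv_mul_cancel_left] at this

/-- A 2-subgroup of `C(y)` containing `t` is `{1, t}`. -/
theorem Idx.two_sub (I : Idx S r p M u x y t) {Q : Subgroup G} (hQ : IsPGroup 2 Q) (htQ : t ∈ Q) {q : G}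
    (hq : q ∈ Q) (hqy : y * q = q * y) : q = 1 ∨ q = t := by
  have K := I.two.ctx
  have hc : q * t = t * q := congrArg Subtype.val ((K.oc.two_comm hQ).is_comm.comm ⟨q, hq⟩ ⟨t, htQ⟩)
  exact I.uniq (mem_sylow_of_two_power S (k := 1)
    (K.oc.centralizer_inv_le S K.good I.ht I.ht1 (mem_centralizer_singleton_iff.2 hc))
    (by rw [pow_one, pow_two, K.oc.sq hQ hq])) hqy

/-- The structure of `C(y)`. -/
theorem Idx.local_y (I : Idx S r p M u x y t) :
    (∀ Y : Subgroup G, IsPGroup r Y → Y ≤ centralizer ({y} : Set G) → t ∈ normalizer (Y : Set G) →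
      Y ≤ core r (centralizer ({y} : Set G))) ∧
    ∀ g ∈ centralizer ({y} : Set G), ∃ o ∈ core r (centralizer ({y} : Set G)),
      ∃ n ∈ centralizer ({y} : Set G), n ∈ normalizer ((S : Subgroup G) : Set G) ∧ o * n = g := by
  classical
  have K := I.two.ctx
  haveI := Fact.mk Nat.prime_two
  haveI := Fact.mk K.oc.hr
  set X := centralizer ({y} : Set G) with hX
  have htX : t ∈ X := mem_centralizer_singleton_iff.2 I.hyt.symm
  have hz2 : IsPGroup 2 (zpowers (⟨t, htX⟩ : ↥X)) := IsPGroup.of_card (n := 1) (by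
    rw [Nat.card_zpowers, orderOf_mk, I.to_order, pow_one])
  obtain ⟨T, hT⟩ := hz2.exists_le_sylow
  have hmem : ∀ a ∈ (T : Subgroup ↥X), (a : G) = 1 ∨ (a : G) = t := fun a ha =>
    I.two_sub (T.isPGroup'.map X.subtype) ⟨_, hT (mem_zpowers _), rfl⟩ ⟨a, ha, rfl⟩
      (mem_centralizer_singleton_iff.1 a.2).symm
  have hTc : IsMulCommutative (T : Subgroup ↥X) := by
    refine ⟨⟨fun a b => Subtype.ext (Subtype.ext ?_)⟩⟩
    simp only [MulMemClass.coe_mul]
    rcases hmem a a.2 with e | e <;> rcases hmem b b.2 with e' | e' <;> simp [e, e']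
  obtain ⟨hN, hY⟩ := core_facts (X := ↥X) r K.oc.r2
    (fun q hq hd => K.oc.primes_centralizer (Or.inr I.hyo) le_rfl hq hd) T hTc
  refine ⟨fun Y hYp hYX htY => ?_, fun g hg => ?_⟩
  · have h1 : Y.subgroupOf X ≤ Cfsg.pCore r ↥X := by
      refine hY _ hYp.comap_subtype fun a ha => ?_
      have hn : (a : G) ∈ normalizer (Y : Set G) := by
        rcases hmem a ha with e | e <;> rw [e]
        exacts [one_mem _, htY]
      rw [mem_normalizer_iff]
      intro b
      simpa [mem_subgroupOf] using mem_normalizer_iff.1 hn (b : G)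
    intro b hb
    exact ⟨⟨b, hYX hb⟩, h1 (mem_subgroupOf.2 hb), rfl⟩
  · haveI := hN
    haveI : (Cfsg.pCore r ↥X).Normal := Grp.pCore_isNormal
    have htop : normalizer ((T : Subgroup ↥X) : Set ↥X) ⊔ ((T : Subgroup ↥X) ⊔ Cfsg.pCore r ↥X) = ⊤ :=
      Sylow.normalizer_sup_eq_top' T le_sup_left
    rw [← sup_assoc, sup_eq_left.2 (le_normalizer (H := (T : Subgroup ↥X))), sup_comm] at htop
    obtain ⟨o, ho, n, hn, hon⟩ := mem_sup_of_normal_left.1 (htop.symm ▸ mem_top (⟨g, hg⟩ : ↥X))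
    refine ⟨o, ⟨o, ho, rfl⟩, n, n.2, K.oc.centralizer_inv_le S K.good I.ht I.ht1
      (mem_centralizer_singleton_iff.2 ?_), congrArg Subtype.val hon⟩
    rcases hmem _ ((mem_normalizer_iff.1 hn ⟨t, htX⟩).1 (hT (mem_zpowers _))) with e | e
    · exact absurd (conj_eq_one_iff.1 e) I.ht1
    · exact mul_inv_eq_iff_eq_mul.1 e

theorem Idx.y_mem_core (I : Idx S r p M u x y t) : y ∈ core r (centralizer ({y} : Set G)) := by
  haveI := Fact.mk I.two.ctx.oc.hr
  refine I.local_y.1 (zpowers y) (IsPGroup.of_card (n := 1) (by rw [Nat.card_zpowers, I.hyo, pow_one]))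
    (zpowers_le.2 (mem_centralizer_singleton_iff.2 rfl)) (centralizer_le_normalizer _ ?_) (mem_zpowers y)
  rw [mem_centralizer_iff]
  rintro _ ⟨k, rfl⟩
  exact (Commute.zpow_left I.hyt k).eq

theorem Idx.exists_core_out (I : Idx S r p M u x y t) :
    ∃ o ∈ core r (centralizer ({y} : Set G)), o ∉ normalizer ((S : Subgroup G) : Set G) := by
  obtain ⟨g, hg, hgN⟩ := I.exists_out
  obtain ⟨o, ho, n, -, hnN, rfl⟩ := I.local_y.2 g hg
  exact ⟨o, ho, fun h => hgN (mul_mem h hnN)⟩

/-- The points fixed by `y`. -/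
theorem Idx.fixed (I : Idx S r p M u x y t) {g : G} (hg : g ∉ normalizer ((S : Subgroup G) : Set G))
    (hfix : g⁻¹ * y * g ∈ normalizer ((S : Subgroup G) : Set G)) :
    ∃ c ∈ centralizer ((S : Subgroup G) : Set G), c * y = y * c ∧
      (c * u)⁻¹ * g ∈ normalizer ((S : Subgroup G) : Set G) := by
  have h := I.two
  obtain ⟨c, hc, hw⟩ := h.exists_cent hg
  refine ⟨c, hc, ?_, hw⟩
  set w := (c * u)⁻¹ * g
  have h1 : u⁻¹ * (c⁻¹ * y * c) * u ∈ normalizer ((S : Subgroup G) : Set G) := by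
    rw [show u⁻¹ * (c⁻¹ * y * c) * u = ((c * u)⁻¹ * g) * (g⁻¹ * y * g) * ((c * u)⁻¹ * g)⁻¹ by group]
    exact mul_mem (mul_mem hw hfix) (inv_mem hw)
  have hm : y⁻¹ * c⁻¹ * y * c ∈ centralizer ((S : Subgroup G) : Set G) := by
    refine mul_mem ?_ hc
    have := centralizer_normal_in_normalizer S (inv_mem I.hy) (inv_mem hc)
    rwa [inv_inv] at this
  have h2 := h.ctx.core_trivial h.hu h.huN hm (by
    rw [show u⁻¹ * (y⁻¹ * c⁻¹ * y * c) * u = (u⁻¹ * y * u)⁻¹ * (u⁻¹ * (c⁻¹ * y * c) * u) by group]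
    exact mul_mem (inv_mem I.hyu) h1)
  calc c * y = c * y * (y⁻¹ * c⁻¹ * y * c) := by rw [h2, mul_one]
    _ = y * c := by group

theorem Idx.wSub_bot (I : Idx S r p M u x y t) : wSub r S = ⊥ := by
  classical
  by_contra hW
  have h := I.two
  have K := h.ctx
  haveI := Fact.mk K.oc.hr
  set N := normalizer ((S : Subgroup G) : Set G) with hN
  set X := centralizer ({y} : Set G) with hX
  set O := core r X with hO
  obtain ⟨z, hz, hz1, hzc⟩ := exists_comm (q := r) (K.oc.normalizer_le_wSub S I.hy)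
    (by rw [← I.hyo, pow_orderOf_eq_one]) (card_not_one_mod (core_pGroup r _) hW)
  obtain ⟨hzC, hzr⟩ := (K.oc.mem_wSub_iff S K.sylow_ne_bot).1 hz
  have hzo : orderOf z = r := orderOf_eq_prime hzr hz1
  have hzO : z ∈ O := I.local_y.1 (zpowers z) (IsPGroup.of_card (n := 1) (by rw [Nat.card_zpowers, hzo, pow_one]))
    (zpowers_le.2 (mem_centralizer_singleton_iff.2 hzc.symm)) (centralizer_le_normalizer _ (by
      rw [mem_centralizer_iff]
      rintro _ ⟨k, rfl⟩
      exact (Commute.zpow_left (mem_centralizer_iff.1 hzC t I.ht).symm k).eq)) (mem_zpowers z)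
  set α : G ⧸ N := QuotientGroup.mk 1 with hα
  obtain ⟨o, ho, hoN⟩ := I.exists_core_out
  set Z := zpowers (⟨z, hzO⟩ : ↥O)
  have hfix : MulAction.fixedPoints ↥Z ↥(MulAction.orbit ↥O α) =
      {⟨α, MulAction.mem_orbit_self α⟩} := by
    refine Set.eq_singleton_iff_unique_mem.2 ⟨fun w => Subtype.ext ?_, fun w hw => Subtype.ext ?_⟩
    · show ((w : ↥O) : G) • α = α
      obtain ⟨k, hk⟩ := mem_zpowers_iff.1 w.2
      rw [← hk, SubgroupClass.coe_zpow, hα, Invol.smul_coset_eq_iff, inv_one, one_mul, mul_one]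
      exact zpow_mem (centralizer_le_normalizer' S hzC) k
    · obtain ⟨a, ha⟩ := w.2
      have h1 : z • ((a : G) • α) = (a : G) • α := by
        have h0 : z • (w : G ⧸ N) = w := congrArg Subtype.val (hw ⟨_, mem_zpowers _⟩)
        rw [← ha] at h0
        exact h0
      rw [hα, MulAction.Quotient.smul_mk, smul_eq_mul, mul_one, Invol.smul_coset_eq_iff] at h1
      by_cases haN : (a : G) ∈ N
      · rw [← ha]
        show (a : G) • α = α
        rw [hα, Invol.smul_coset_eq_iff, inv_one, one_mul, mul_one]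
        exact haN
      · exfalso
        obtain ⟨v, hv, hvN, hva⟩ := K.exists_swap haN
        refine hz1 (K.core_trivial hv hvN hzC ?_)
        rw [show v⁻¹ * z * v = (v⁻¹ * a) * ((a : G)⁻¹ * z * a) * (v⁻¹ * a)⁻¹ by group]
        exact mul_mem (mul_mem hva h1) (inv_mem hva)
  have hmod := ((core_pGroup r X).to_subgroup Z).card_modEq_card_fixedPoints ↥(MulAction.orbit ↥O α)
  obtain ⟨j, hj⟩ := (core_pGroup r X).card_orbit α
  rw [hfix, hj, Nat.card_unique] at hmod
  rcases j with _ | j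
  · rw [pow_zero] at hj
    haveI := (Nat.card_eq_one_iff_unique.1 hj).1
    have he : (⟨o, ho⟩ : ↥O) • α = α := congrArg Subtype.val
      (Subsingleton.elim (⟨_, MulAction.mem_orbit α (⟨o, ho⟩ : ↥O)⟩ : ↥(MulAction.orbit ↥O α))
        ⟨α, MulAction.mem_orbit_self α⟩)
    replace he : o • α = α := he
    rw [hα, Invol.smul_coset_eq_iff, inv_one, one_mul, mul_one] at he
    exact hoN he
  · rw [Nat.ModEq, Nat.mod_eq_zero_of_dvd (dvd_pow_self r j.succ_ne_zero),
      Nat.mod_eq_of_lt K.oc.hr.one_lt] at hmod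
    exact zero_ne_one hmod

theorem Idx.cent_eq (I : Idx S r p M u x y t) {c : G}
    (hc : c ∈ centralizer ((S : Subgroup G) : Set G)) (hcy : c * y = y * c) : c = 1 ∨ c = t :=
  I.uniq (I.two.ctx.oc.centralizer_le_sylow S I.two.ctx.sylow_ne_bot I.wSub_bot hc) hcy.symm

theorem Idx.r_eq (I : Idx S r p M u x y t) : r = 3 := by
  classical
  have K := I.two.ctx
  haveI := Fact.mk K.oc.hr
  set N := normalizer ((S : Subgroup G) : Set G) with hN
  set O := core r (centralizer ({y} : Set G)) with hO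
  set α : G ⧸ N := QuotientGroup.mk 1 with hα
  obtain ⟨o, ho, hoN⟩ := I.exists_core_out
  have hsub : MulAction.orbit ↥O α ⊆ {α, QuotientGroup.mk u, QuotientGroup.mk (t * u)} := by
    rintro _ ⟨a, rfl⟩
    show (a : G) • α ∈ _
    rw [hα, MulAction.Quotient.smul_mk, smul_eq_mul, mul_one]
    by_cases haN : (a : G) ∈ N
    · exact Or.inl (QuotientGroup.eq.2 (by rw [mul_one]; exact inv_mem haN))
    · have hay := mem_centralizer_singleton_iff.1 (core_le _ _ a.2)
      obtain ⟨c, hc, hcy, hca⟩ := I.fixed haN (by rw [mul_assoc, ← hay, inv_mul_cancel_left]; exact I.hy)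
      refine Or.inr ?_
      rcases I.cent_eq hc hcy with rfl | rfl
      · rw [one_mul] at hca
        exact Or.inl (QuotientGroup.eq.2 hca).symm
      · exact Or.inr (QuotientGroup.eq.2 hca).symm
  have hle : (MulAction.orbit ↥O α).ncard ≤ 3 := (Set.ncard_le_ncard hsub
    (Set.toFinite ({α, QuotientGroup.mk u, QuotientGroup.mk (t * u)} : Set (G ⧸ N)))).trans
    ((Set.ncard_insert_le _ _).trans (Nat.succ_le_succ ((Set.ncard_insert_le _ _).trans
      (Nat.succ_le_succ (Set.ncard_singleton _).le))))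
  obtain ⟨j, hj⟩ := (core_pGroup r (centralizer ({y} : Set G)) : IsPGroup r ↥O).card_orbit α
  rw [Nat.card_coe_set_eq] at hj
  rcases j with _ | j
  · obtain ⟨w, hw⟩ := Set.ncard_eq_one.1 (hj.trans (pow_zero r))
    have h1 : (⟨o, ho⟩ : ↥O) • α = w := hw.subset (MulAction.mem_orbit α _)
    have h2 : α = w := hw.subset (MulAction.mem_orbit_self α)
    rw [← h2] at h1
    replace h1 : o • α = α := h1
    rw [hα, Invol.smul_coset_eq_iff, inv_one, one_mul, mul_one] at h1
    exact absurd h1 hoN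
  · have := K.oc.r3
    have h2 : r ≤ r ^ (j + 1) := Nat.le_self_pow j.succ_ne_zero r
    have h3 : (MulAction.orbit ↥O α).ncard = r ^ (j + 1) := hj
    omega

theorem Idx.card_cent (I : Idx S r p M u x y t) :
    Nat.card (centralizer ((S : Subgroup G) : Set G)) = p + 1 := by
  rw [le_antisymm (I.two.ctx.oc.centralizer_le_sylow S I.two.ctx.sylow_ne_bot I.wSub_bot)
    (I.two.ctx.oc.sylow_le_centralizer S)]
  exact I.two.ctx.hend.card

theorem Idx.card_eq (I : Idx S r p M u x y t) : Nat.card G = (p + 2) * ((p + 1) * p * 3) := by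
  have h := I.two
  have h1 := card_mul_index (normalizer ((S : Subgroup G) : Set G))
  rw [index_eq_card, h.card_points, I.card_cent] at h1
  have h2 := card_mul_index (M.subgroupOf (normalizer ((S : Subgroup G) : Set G)))
  rw [Nat.card_congr (subgroupOfEquivOfLe h.ctx.hend.le).toEquiv, h.card_M, I.card_cent] at h2
  rw [← h1, ← h2, show (M.subgroupOf (normalizer ((S : Subgroup G) : Set G))).index = r from I.hrel, I.r_eq]
  ring

/-- Elements of `C(y) ∩ N`. -/
theorem Idx.inter (I : Idx S r p M u x y t) {n : G} (hn : n ∈ normalizer ((S : Subgroup G) : Set G))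
    (hny : y * n = n * y) : ∃ k : ℤ, (y ^ k)⁻¹ * n = 1 ∨ (y ^ k)⁻¹ * n = t := by
  have h := I.two
  have K := h.ctx
  obtain ⟨k, hk⟩ := I.coset hn
  refine ⟨k, ?_⟩
  set m := (y ^ k)⁻¹ * n
  have hym : Commute y m := ((Commute.self_zpow y k).inv_right).mul_right hny
  have hmp : (m ^ p) ^ 2 = 1 := by
    rcases I.cent_eq (K.hend.pow_mem m hk) (hym.pow_right p).symm.eq with e | e <;> rw [e]
    · exact one_pow 2
    · rw [pow_two, K.oc.sq S.isPGroup' I.ht]
  have hm2 : m ^ 2 = 1 := by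
    by_contra hne
    haveI := Fact.mk K.hend.prime
    have ho : orderOf (m ^ 2) = p := orderOf_eq_prime (by rw [← pow_mul, mul_comm, pow_mul, hmp]) hne
    have := K.oc.comm_orders (hym.pow_right 2) I.hyo ho K.oc.hr K.hend.prime h.p_ne_r
    have := K.hend.odd
    rw [mul_comm 2 r] at *
    exact this (Nat.eq_of_mul_eq_mul_left K.oc.hr.pos ‹r * p = r * 2›)
  exact I.uniq (mem_sylow_of_two_power S (k := 1) (K.hend.le hk) (by rw [pow_one]; exact hm2)) hym.eq

theorem Idx.false_of (I : Idx S r p M u x y t) : False := by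
  classical
  have h := I.two
  have K := h.ctx
  have hr3 := I.r_eq
  subst hr3
  haveI h2f := Fact.mk Nat.prime_two
  haveI h3f := Fact.mk Nat.prime_three
  set N := normalizer ((S : Subgroup G) : Set G) with hN
  set X := centralizer ({y} : Set G) with hX
  set O := core 3 X with hO
  obtain ⟨-, -, hrp, -⟩ : True ∧ True ∧ 3 < p ∧ True := by
    rcases K.hend.cases with hall | ⟨-, hlt, -, -⟩
    · exact absurd hall h.not_all
    · exact ⟨trivial, trivial, hlt, trivial⟩
  obtain ⟨m, hm⟩ := IsPGroup.iff_card.1 S.isPGroup'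
  rw [K.hend.card] at hm
  have hmp : m.Prime := by
    have hp : (2 ^ m - 1).Prime := by rw [← hm, Nat.add_sub_cancel]; exact K.hend.prime
    exact (Nat.prime_of_pow_sub_one_prime (by rintro rfl; omega) hp).2
  have hna : ¬ IsMulCommutative G := fun hc => by
    obtain ⟨a, b, hab⟩ := K.hna
    exact hab (hc.is_comm.comm a b)
  have hm3 : m ≠ 3 := fun e => by
    subst e
    exact Block.SmallOrd.ne_1512 hna (by rw [I.card_eq, show p = 7 by omega])
  obtain ⟨q, hq, hq3⟩ : ∃ q, p + 2 = 3 * q ∧ ¬ 3 ∣ q := by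
    have hm6 : m % 6 = 1 ∨ m % 6 = 5 := by
      have h2' : m ≠ 2 := fun e => by subst e; omega
      have h2d : ¬ 2 ∣ m := fun hd => h2' ((Nat.prime_dvd_prime_iff_eq Nat.prime_two hmp).1 hd).symm
      have h3d : ¬ 3 ∣ m := fun hd => hm3 ((Nat.prime_dvd_prime_iff_eq Nat.prime_three hmp).1 hd).symm
      omega
    have h9 : 2 ^ m % 9 = 2 ∨ 2 ^ m % 9 = 5 := by
      rw [← Nat.div_add_mod m 6, pow_add, pow_mul, Nat.mul_mod, Nat.pow_mod]
      rcases hm6 with e | e <;> rw [e] <;> norm_num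
    exact ⟨(p + 2) / 3, by omega, by omega⟩
  have hK : ¬ 3 ∣ q * ((p + 1) * p) := by
    intro hd
    rcases Nat.prime_three.dvd_mul.1 hd with e | e
    · exact hq3 e
    rcases Nat.prime_three.dvd_mul.1 e with e | e
    · rw [hm] at e
      exact absurd (Nat.prime_three.dvd_of_dvd_pow e) (by norm_num)
    · have := (Nat.prime_dvd_prime_iff_eq Nat.prime_three K.hend.prime).1 e
      omega
  have hG : Nat.card G = 9 * (q * ((p + 1) * p)) := by rw [I.card_eq, hq]; ring
  have hfac : (Nat.card G).factorization 3 = 2 := by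
    rw [hG, Nat.factorization_mul (by norm_num) (fun e => hK (by rw [e]; exact dvd_zero 3)), Finsupp.add_apply,
      Nat.factorization_eq_zero_of_not_dvd hK, show (9 : ℕ) = 3 ^ 2 by norm_num,
      Nat.prime_three.factorization_pow, Finsupp.single_eq_same, add_zero]
  obtain ⟨o₀, ho₀, ho₀N⟩ := I.exists_core_out
  have hOcard : Nat.card O = 3 ^ 2 := by
    obtain ⟨j, hj⟩ := IsPGroup.iff_card.1 (core_pGroup 3 X)
    have hle : j ≤ 2 := hfac ▸ (Nat.prime_three.pow_dvd_iff_le_factorization Nat.card_pos.ne').1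
      (hj ▸ card_subgroup_dvd_card O)
    have hlt : 3 < 3 ^ j := by
      have hle' : zpowers y ≤ O := zpowers_le.2 I.y_mem_core
      by_contra hno
      have := eq_of_le_of_card_ge hle' (by rw [Nat.card_zpowers, I.hyo, hj]; omega)
      exact ho₀N (zpowers_le.2 I.hy (this.ge ho₀))
    have h1 : 1 < j := by
      by_contra hno
      have : 3 ^ j ≤ 3 ^ 1 := Nat.pow_le_pow_right (by norm_num) (by omega)
      omega
    rw [hj, show j = 2 by omega]
  have hOab : ∀ a ∈ O, ∀ b ∈ O, a * b = b * a := fun a ha b hb =>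
    congrArg Subtype.val (IsPGroup.commutative_of_card_eq_prime_sq hOcard ⟨a, ha⟩ ⟨b, hb⟩)
  have hO3 : ∀ a ∈ O, a ^ 3 = 1 := fun a ha => K.oc.exponent (core_pGroup 3 X) ha
  have hyO : y ∈ O := I.y_mem_core
  have htX : t ∈ X := mem_centralizer_singleton_iff.2 I.hyt.symm
  have ht2 : t * t = 1 := K.oc.sq S.isPGroup' I.ht
  -- nothing inverts `y`
  have hinv : ∀ g : G, g * y * g⁻¹ ≠ y⁻¹ := by
    intro g hg
    obtain ⟨n, hn, hne⟩ : ∃ n ∈ N, n * y * n⁻¹ = y⁻¹ := by
      by_cases hgN : g ∈ N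
      · exact ⟨g, hgN, hg⟩
      have hgf : g⁻¹ * y * g = y⁻¹ := by
        have := congrArg (·⁻¹) hg
        simp only [mul_inv_rev, inv_inv] at this
        calc g⁻¹ * y * g = g⁻¹ * (g * (y⁻¹ * g⁻¹)) * g := by rw [this]
          _ = y⁻¹ := by group
      obtain ⟨c, hc, hcy, hcg⟩ := I.fixed hgN (hgf ▸ inv_mem I.hy)
      have hoy := mem_centralizer_singleton_iff.1 (core_le _ _ ho₀)
      obtain ⟨c', hc', hcy', hco⟩ := I.fixed ho₀N (by rw [mul_assoc, ← hoy, inv_mul_cancel_left]; exact I.hy)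
      have hey : Commute (c * c'⁻¹ * o₀) y :=
        ((Commute.mul_left hcy (Commute.inv_left hcy')).mul_left hoy)
      refine ⟨(c * c'⁻¹ * o₀)⁻¹ * g, ?_, ?_⟩
      · rw [show (c * c'⁻¹ * o₀)⁻¹ * g = ((c' * u)⁻¹ * o₀)⁻¹ * ((c * u)⁻¹ * g) by group]
        exact mul_mem (inv_mem hco) hcg
      · rw [show (c * c'⁻¹ * o₀)⁻¹ * g * y * ((c * c'⁻¹ * o₀)⁻¹ * g)⁻¹ =
          (c * c'⁻¹ * o₀)⁻¹ * (g * y * g⁻¹) * (c * c'⁻¹ * o₀) by group, hg, mul_assoc,
          ← (hey.inv_right).eq, inv_mul_cancel_left]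
    obtain ⟨k, hk⟩ := I.coset hn
    set m' := (y ^ k)⁻¹ * n with hm'
    have h1 : m' * y * m'⁻¹ * y⁻¹ ∈ M := by
      rw [show m' * y * m'⁻¹ * y⁻¹ = m' * (y * m'⁻¹ * y⁻¹) by group]
      exact mul_mem hk ((mem_normalizer_iff.1 (K.hend.normal I.hy) _).1 (inv_mem hk))
    have h2 : m' * y * m'⁻¹ = y⁻¹ := by
      rw [hm', show (y ^ k)⁻¹ * n * y * ((y ^ k)⁻¹ * n)⁻¹ = (y ^ k)⁻¹ * (n * y * n⁻¹) * y ^ k by group, hne,
        mul_assoc, ← ((Commute.self_zpow y k).inv_left).symm.eq, inv_mul_cancel_left]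
    rw [h2] at h1
    refine I.hyM ?_
    have h3 : y ^ 3 = 1 := hO3 y hyO
    have : y = y⁻¹ * y⁻¹ := by
      rw [← mul_inv_rev, eq_inv_iff_mul_eq_one, ← mul_assoc, ← h3, pow_succ, pow_two]
    rw [this]
    exact h1
  -- the normalizer of `O` centralizes `y`
  set NO := normalizer (O : Set G) with hNO
  have htO : t ∈ NO := mem_core_normalizer 3 htX
  have hXn : ∀ a ∈ X, a ∈ NO := fun a ha => mem_core_normalizer 3 ha
  set Xs := X.subgroupOf NO with hXs
  have hd : Xs.index = 1 := by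
    have hd4 : 2 * Xs.index ≤ 8 := by
      let f : (↥NO ⧸ Xs) → ↥O := Quotient.lift
        (fun n : ↥NO => (⟨(n : G) * y * (n : G)⁻¹, (mem_normalizer_iff.1 n.2 y).1 hyO⟩ : ↥O)) (by
          intro a b hab
          have h1 := mem_centralizer_singleton_iff.1 (mem_subgroupOf.1 (QuotientGroup.leftRel_apply.1 hab))
          simp only [coe_mul, coe_inv] at h1
          refine Subtype.ext ?_
          show (a : G) * y * (a : G)⁻¹ = (b : G) * y * (b : G)⁻¹
          calc (a : G) * y * (a : G)⁻¹ = (a : G) * (y * ((a : G)⁻¹ * b)) * (b : G)⁻¹ := by group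
            _ = (a : G) * (((a : G)⁻¹ * b) * y) * (b : G)⁻¹ := by rw [h1]
            _ = _ := by group)
      have hfinj : Function.Injective f := by
        intro a b
        obtain ⟨a, rfl⟩ := QuotientGroup.mk_surjective a
        obtain ⟨b, rfl⟩ := QuotientGroup.mk_surjective b
        intro hab
        have h1 : (a : G) * y * (a : G)⁻¹ = (b : G) * y * (b : G)⁻¹ := congrArg Subtype.val hab
        refine QuotientGroup.eq.2 (mem_subgroupOf.2 (mem_centralizer_singleton_iff.2 ?_))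
        simp only [coe_mul, coe_inv]
        calc (a : G)⁻¹ * b * y = (a : G)⁻¹ * ((b : G) * y * (b : G)⁻¹) * b := by group
          _ = (a : G)⁻¹ * ((a : G) * y * (a : G)⁻¹) * b := by rw [h1]
          _ = _ := by group
      have hne : ∀ a b, f a ≠ (f b)⁻¹ := by
        intro a b
        obtain ⟨a, rfl⟩ := QuotientGroup.mk_surjective a
        obtain ⟨b, rfl⟩ := QuotientGroup.mk_surjective b
        intro hab
        have h1 : (a : G) * y * (a : G)⁻¹ = ((b : G) * y * (b : G)⁻¹)⁻¹ := congrArg Subtype.val hab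
        refine hinv ((b : G)⁻¹ * a) ?_
        calc (b : G)⁻¹ * a * y * ((b : G)⁻¹ * a)⁻¹ = (b : G)⁻¹ * ((a : G) * y * (a : G)⁻¹) * b := by group
          _ = _ := by rw [h1]; group
      have hne1 : ∀ a, f a ≠ 1 := by
        intro a
        obtain ⟨a, rfl⟩ := QuotientGroup.mk_surjective a
        intro he
        have h1 : (a : G) * y * (a : G)⁻¹ = 1 := congrArg Subtype.val he
        have hy3 := I.hyo
        rw [conj_eq_one_iff.1 h1, orderOf_one] at hy3
        exact absurd hy3 (by norm_num)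
      let F : (↥NO ⧸ Xs) ⊕ (↥NO ⧸ Xs) → {a : ↥O // a ≠ 1} := Sum.elim
        (fun a => ⟨f a, hne1 a⟩) (fun a => ⟨(f a)⁻¹, inv_ne_one.2 (hne1 a)⟩)
      have hF : Function.Injective F := by
        rintro (a | a) (b | b) hab
        · exact congrArg Sum.inl (hfinj (congrArg Subtype.val hab))
        · exact absurd (congrArg Subtype.val hab) (hne a b)
        · exact absurd (congrArg Subtype.val hab).symm (hne b a)
        · exact congrArg Sum.inr (hfinj (inv_inj.1 (congrArg Subtype.val hab)))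
      have h9 := Nat.card_le_card_of_injective F hF
      have h8 : Nat.card {a : ↥O // a ≠ 1} = 8 := by
        haveI := Fintype.ofFinite ↥O
        rw [Nat.card_eq_fintype_card, Fintype.card_subtype_compl, Fintype.card_subtype_eq,
          ← Nat.card_eq_fintype_card, hOcard]
        norm_num
      rw [Nat.card_sum, h8, ← index_eq_card] at h9
      omega
    have hmulX := card_mul_index Xs
    have h3d : ¬ 3 ∣ Xs.index := by
      intro hd'
      have h9X : 3 ^ 2 ∣ Nat.card Xs := by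
        rw [← hOcard, ← Nat.card_congr (subgroupOfEquivOfLe (le_normalizer : O ≤ NO)).toEquiv]
        exact card_dvd_of_le fun a ha => core_le 3 X ha
      have h27 : 3 ^ 3 ∣ Nat.card G := by
        refine dvd_trans ?_ (card_subgroup_dvd_card NO)
        rw [← hmulX, pow_succ]
        exact Nat.mul_dvd_mul h9X hd'
      have := (Nat.prime_three.pow_dvd_iff_le_factorization Nat.card_pos.ne').1 h27
      omega
    have h2d : ¬ 2 ∣ Xs.index := by
      intro hd'
      have hto : orderOf (⟨t, htO⟩ : ↥NO) = 2 := by rw [orderOf_mk]; exact I.to_order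
      have h2X : 2 ∣ Nat.card Xs := by
        have := orderOf_dvd_natCard (⟨⟨t, htO⟩, mem_subgroupOf.2 htX⟩ : ↥Xs)
        rwa [orderOf_mk, hto] at this
      have h4 : 2 ^ 2 ∣ Nat.card ↥NO := by
        rw [← hmulX, pow_two]; exact Nat.mul_dvd_mul h2X hd'
      obtain ⟨Q, hQ⟩ := (IsPGroup.of_card (G := zpowers (⟨t, htO⟩ : ↥NO)) (p := 2) (n := 1)
        (by rw [Nat.card_zpowers, hto, pow_one])).exists_le_sylow
      have hQsub : (Q : Subgroup ↥NO) ≤ zpowers (⟨t, htO⟩ : ↥NO) := by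
        intro a ha
        have hQ' := Q.isPGroup'.map NO.subtype
        have haQ : (a : G) ∈ (Q : Subgroup ↥NO).map NO.subtype := ⟨a, ha, rfl⟩
        have htQ : t ∈ (Q : Subgroup ↥NO).map NO.subtype := ⟨_, hQ (mem_zpowers _), rfl⟩
        have hat : (a : G) * t = t * a :=
          congrArg Subtype.val ((K.oc.two_comm hQ').is_comm.comm ⟨(a : G), haQ⟩ ⟨t, htQ⟩)
        have haN : (a : G) ∈ N :=
          K.oc.centralizer_inv_le S K.good I.ht I.ht1 (mem_centralizer_singleton_iff.2 hat)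
        have haS : (a : G) ∈ (S : Subgroup G) := mem_sylow_of_two_power S (k := 1) haN
          (by rw [pow_one, pow_two, K.oc.sq hQ' haQ])
        have hs : (a : G) * y * (a : G)⁻¹ * y⁻¹ ∈ (S : Subgroup G) := by
          rw [show (a : G) * y * (a : G)⁻¹ * y⁻¹ = (a : G) * (y * (a : G)⁻¹ * y⁻¹) by group]
          exact mul_mem haS (conj_mem_zero S I.hy (inv_mem haS))
        have hs' : (a : G) * y * (a : G)⁻¹ * y⁻¹ ∈ O :=
          mul_mem ((mem_normalizer_iff.1 a.2 y).1 hyO) (inv_mem hyO)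
        have h1 := (IsPGroup.disjoint_of_ne 2 3 (by norm_num) _ _ S.isPGroup' (core_pGroup 3 X)).le_bot
          ⟨hs, hs'⟩
        rw [mem_bot, mul_inv_eq_one, mul_inv_eq_iff_eq_mul] at h1
        rcases I.uniq haS h1.symm with e | e
        · rw [show a = 1 from Subtype.ext e]; exact one_mem _
        · rw [show a = ⟨t, htO⟩ from Subtype.ext e]; exact mem_zpowers _
      have h5 := ((Nat.prime_two.pow_dvd_iff_le_factorization Nat.card_pos.ne').1 h4)
      have h6 : Nat.card Q ≤ 2 := (Nat.le_of_dvd Nat.card_pos (card_dvd_of_le hQsub)).trans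
        (by rw [Nat.card_zpowers, hto])
      rw [Q.card_eq_multiplicity] at h6
      have h7 := Nat.pow_le_pow_right (show 0 < 2 by norm_num) h5
      omega
    have h0 : Xs.index ≠ 0 := index_ne_zero_of_finite
    omega
  have hNX : NO ≤ X := fun a ha => by
    have : (⟨a, ha⟩ : ↥NO) ∈ Xs := index_eq_one.1 hd ▸ mem_top _
    exact mem_subgroupOf.1 this
  -- transfer
  let L : Subgroup G :=
    { carrier := {a | a ∈ O ∧ t * a * t⁻¹ = a⁻¹}
      one_mem' := ⟨one_mem _, by simp⟩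
      mul_mem' := fun {a b} ha hb => ⟨mul_mem ha.1 hb.1, by
        rw [show t * (a * b) * t⁻¹ = (t * a * t⁻¹) * (t * b * t⁻¹) by group, ha.2, hb.2,
          hOab _ (inv_mem ha.1) _ (inv_mem hb.1), ← mul_inv_rev]⟩
      inv_mem' := fun {a} ha => ⟨inv_mem ha.1, by
        rw [show t * a⁻¹ * t⁻¹ = (t * a * t⁻¹)⁻¹ by group, ha.2]⟩ }
  have hcomm : ⁅O, normalizer (O : Set G)⁆ ≤ L := by
    rw [commutator_le]
    intro a ha n hn
    obtain ⟨o, ho, n', hn'X, hn'N, rfl⟩ := I.local_y.2 n (hNX hn)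
    obtain ⟨k, hk⟩ := I.inter hn'N (mem_centralizer_singleton_iff.1 hn'X).symm
    set e := (y ^ k)⁻¹ * n' with he
    have heO : e * a⁻¹ * e⁻¹ ∈ O := by
      rcases hk with e' | e' <;> rw [e']
      · simpa using ha
      · exact (mem_normalizer_iff.1 htO _).1 (inv_mem ha)
    have hb : y ^ k ∈ O := zpow_mem hyO k
    have h1 : ⁅a, o * n'⁆ = a * (e * a⁻¹ * e⁻¹) := by
      have h2 := hOab _ (mul_mem ho hb) _ heO
      calc ⁅a, o * n'⁆ = a * (o * y ^ k * (e * a⁻¹ * e⁻¹) * (o * y ^ k)⁻¹) := by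
            rw [commutatorElement_def, he]; group
        _ = a * (e * a⁻¹ * e⁻¹) := by rw [h2, mul_inv_cancel_right]
    rw [h1]
    rcases hk with e' | e' <;> rw [e']
    · simp
    · refine ⟨mul_mem ha ((mem_normalizer_iff.1 htO _).1 (inv_mem ha)), ?_⟩
      have ht' : t⁻¹ = t := inv_eq_of_mul_eq_one_right ht2
      calc t * (a * (t * a⁻¹ * t⁻¹)) * t⁻¹ = (t * a * t) * a⁻¹ * (t * t)⁻¹ := by group
        _ = (t * a * t⁻¹) * a⁻¹ := by rw [ht2, inv_one, mul_one, ht']
        _ = (a * (t * a⁻¹ * t⁻¹))⁻¹ := by group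
  have hPab : IsMulCommutative ((Sylow.ofCard O (by rw [hfac, hOcard]) : Sylow 3 G) : Subgroup G) := by
    rw [Sylow.coe_ofCard]
    exact ⟨⟨fun a b => Subtype.ext (hOab _ a.2 _ b.2)⟩⟩
  have htr := (Transfer.abelian_sylow_inf_commutator _ hPab).1
  rw [Sylow.coe_ofCard] at htr
  have hc : commutator G = ⊤ := by
    refine ((inferInstance : (commutator G).Normal).eq_bot_or_eq_top).resolve_left fun e => ?_
    exact hna ((commutator_eq_bot_iff G).1 e)
  rw [hc, top_inf_eq] at htr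
  obtain ⟨-, h1⟩ := hcomm (htr hyO)
  rw [← I.hyt, mul_inv_cancel_right] at h1
  exact hinv 1 (by rw [one_mul, inv_one, mul_one]; exact h1)

theorem Ctx.false_of (K : Ctx S r p M) : False := by
  obtain ⟨u, x, h⟩ := K.exists_two
  obtain ⟨y, t, I⟩ := h.exists_idx
  exact I.false_of

/-- A nonabelian simple group whose only composite element order is `2 r`, with an element of that order,
is `PSL(2, q)` with `q` odd. -/
theorem OC.psl_odd (h : OC G r) (hna : ∃ x y : G, x * y ≠ y * x) (h2 : ∃ g : G, orderOf g = 2 * r) :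
    ∃ (F : Type) (_ : Field F) (_ : Fintype F), Odd (Fintype.card F) ∧
      Nonempty (G ≃* Matrix.ProjectiveSpecialLinearGroup (Fin 2) F) := by
  classical
  haveI := Fact.mk Nat.prime_two
  obtain ⟨S⟩ : Nonempty (Sylow 2 G) := inferInstance
  have hno : ¬ Good S r := fun hG => by
    obtain ⟨p, M, hend⟩ := h.exists_end S hna h2 hG
    exact Ctx.false_of (S := S) ⟨h, hna, h2, hG, hend⟩
  by_cases h4 : Nat.card (S : Subgroup G) = 4
  · exact (h.good_or_psl_of_four S hna h2 h4).resolve_left hno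
  · refine absurd (h.good_of_large S hna h2 ?_) hno
    intro a _ b _
    obtain ⟨k, hk⟩ := IsPGroup.iff_card.1 S.isPGroup'
    have h8 : 4 < Nat.card (S : Subgroup G) := by
      rcases k with _ | _ | _ | k
      · exact absurd (card_eq_one.1 hk) (h.sylow_ne_bot S h2)
      · exact absurd (isCyclic_of_prime_card (p := 2) hk) (h.not_cyclic S hna h2)
      · exact absurd hk h4
      · rw [hk]
        calc 4 < 2 ^ 3 := by norm_num
          _ ≤ _ := Nat.pow_le_pow_right (by norm_num) (by omega)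
    by_contra hall
    push Not at hall
    have hsub : ((S : Subgroup G) : Set G) ⊆ {1, a, b, a * b} := by
      intro c hc
      simp only [Set.mem_insert_iff, Set.mem_singleton_iff]
      by_contra hn
      push Not at hn
      exact hn.2.2.2 (hall c hc hn.1 hn.2.1 hn.2.2.1)
    have h9 : Nat.card (S : Subgroup G) ≤ 4 := by
      rw [← SetLike.coe_sort_coe, Nat.card_coe_set_eq]
      exact (Set.ncard_le_ncard hsub (Set.toFinite _)).trans ((Set.ncard_insert_le _ _).trans
        (Nat.succ_le_succ ((Set.ncard_insert_le _ _).trans (Nat.succ_le_succ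
          ((Set.ncard_insert_le _ _).trans (Nat.succ_le_succ (Set.ncard_singleton _).le))))))
    omega

end Cfsg.Agent.Recog.OneComp
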