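import Cfsg.Agent.Lib.Recog.OneComp.Setup

/-!
The subgroup fixing two points of the coset space of the strongly embedded normalizer.
-/

set_option autoImplicit false
set_option linter.unusedSectionVars false

namespace Cfsg.Agent.Recog.OneComp

open Subgroup
open scoped Pointwise commutatorElement

variable {G : Type*} [Group G] [Finite G] [IsSimpleGroup G] {r p : ℕ} (S : Sylow 2 G) {M : Subgroup G}

theorem card_ne_one (K : Subgroup G) : Nat.card {s : K // (s : G) ≠ 1} = Nat.card K - 1 := by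
  classical
  haveI := Fintype.ofFinite K
  rw [Nat.card_eq_fintype_card, Nat.card_eq_fintype_card, ← Fintype.card_subtype_eq (1 : K),
    ← Fintype.card_subtype_compl]
  exact Fintype.card_congr (Equiv.subtypeEquivRight fun s => by simp)

theorem conj_swap_order {u : G} (hu : orderOf u = 2) : u⁻¹ = u :=
  inv_eq_of_mul_eq_one_right (by rw [← pow_two, ← hu, pow_orderOf_eq_one])

/-- The hypotheses of the strongly embedded case. -/
structure Ctx (S : Sylow 2 G) (r p : ℕ) (M : Subgroup G) : Prop where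
  oc : OC G r
  hna : ∃ x y : G, x * y ≠ y * x
  h2 : ∃ g : G, orderOf g = 2 * r
  good : Good S r
  hend : End S r p M

variable {S}

theorem Ctx.se (K : Ctx S r p M) : Cfsg.IsStronglyEmbedded (normalizer ((S : Subgroup G) : Set G)) :=
  K.oc.strongly_embedded S K.hna K.h2 K.good

theorem Ctx.sylow_ne_bot (K : Ctx S r p M) : (S : Subgroup G) ≠ ⊥ := K.oc.sylow_ne_bot S K.h2

theorem Ctx.odd_inter (K : Ctx S r p M) {u d : G} (hu : u ∉ normalizer ((S : Subgroup G) : Set G))
    (hd : d ∈ normalizer ((S : Subgroup G) : Set G))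
    (hdu : u⁻¹ * d * u ∈ normalizer ((S : Subgroup G) : Set G)) : Odd (orderOf d) := by
  have hm : d ∈ normalizer ((S : Subgroup G) : Set G) ⊓
      (normalizer ((S : Subgroup G) : Set G)).map (MulAut.conj u).toMonoidHom :=
    Invol.mem_inf_map_conj.2 ⟨hd, hdu⟩
  rw [← orderOf_mk d hm]
  exact (K.se.2.2 u hu).of_dvd_nat (orderOf_dvd_natCard _)

theorem Ctx.mem_of_conj_involution (K : Ctx S r p M) {g t : G}
    (ht : t ∈ normalizer ((S : Subgroup G) : Set G)) (hto : orderOf t = 2)
    (hg : g⁻¹ * t * g ∈ normalizer ((S : Subgroup G) : Set G)) :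
    g ∈ normalizer ((S : Subgroup G) : Set G) :=
  (Invol.isStronglyEmbedded_iff K.se.1 K.se.2.1).1 K.se t ht hto g hg

theorem Ctx.conj_cent_false (K : Ctx S r p M) {u e : G} (hu : u ∉ normalizer ((S : Subgroup G) : Set G))
    (he : e ∈ centralizer ((S : Subgroup G) : Set G)) (he1 : e ≠ 1) (her : e ^ r = 1)
    (heu : u⁻¹ * e * u ∈ centralizer ((S : Subgroup G) : Set G)) : False := by
  haveI := Fact.mk K.oc.hr
  obtain ⟨t, ht, ht1⟩ := (bot_or_exists_ne_one _).resolve_left K.sylow_ne_bot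
  have hC := K.oc.centralizer_cent_le S K.good he (orderOf_eq_prime her he1)
  have hce : (u * t * u⁻¹) * e = e * (u * t * u⁻¹) := by
    calc (u * t * u⁻¹) * e = u * (t * (u⁻¹ * e * u)) * u⁻¹ := by group
      _ = u * ((u⁻¹ * e * u) * t) * u⁻¹ := by rw [mem_centralizer_iff.1 heu t ht]
      _ = e * (u * t * u⁻¹) := by group
  have hm := hC (mem_centralizer_singleton_iff.2 hce)
  refine hu (inv_mem_iff.1 (K.mem_of_conj_involution (g := u⁻¹) (le_normalizer ht)
    (K.oc.orderOf_sylow S ht ht1) ?_))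
  rwa [inv_inv]

/-- An involution outside `N` has odd-order `D`, which moves every point of `S`. -/
theorem Ctx.exists_moving_M (K : Ctx S r p M) {u : G} (hu : orderOf u = 2)
    (huN : u ∉ normalizer ((S : Subgroup G) : Set G)) :
    ∃ x ∈ M, u⁻¹ * x * u ∈ normalizer ((S : Subgroup G) : Set G) ∧
      x ∉ centralizer ((S : Subgroup G) : Set G) := by
  classical
  set N := normalizer ((S : Subgroup G) : Set G) with hN
  set D := N ⊓ N.map (MulAut.conj u).toMonoidHom with hD
  obtain ⟨t, ht, ht1⟩ := (bot_or_exists_ne_one _).resolve_left K.sylow_ne_bot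
  have hconj : ∀ s ∈ (S : Subgroup G), s ≠ 1 → ∃ d ∈ D, d * t * d⁻¹ = s := fun s hs hs1 =>
    Invol.exists_conj_inf K.se hu huN (K.oc.orderOf_sylow S ht ht1) (le_normalizer ht)
      (K.oc.orderOf_sylow S hs hs1) (le_normalizer hs)
  by_contra hno
  push Not at hno
  have hDM : ∀ x ∈ D, x ∈ M → x ∈ centralizer ((S : Subgroup G) : Set G) :=
    fun x hx hxM => hno x hxM (Invol.mem_inf_map_conj.1 hx).2
  rcases K.hend.cases with hall | ⟨-, hrp, hrel, -⟩
  · obtain ⟨s, hs, hs1, hst⟩ : ∃ s ∈ (S : Subgroup G), s ≠ 1 ∧ s ≠ t := by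
      by_contra hh
      push Not at hh
      have : Nat.card {s : (S : Subgroup G) // (s : G) ≠ 1} ≤ 1 := by
        haveI : Subsingleton {s : (S : Subgroup G) // (s : G) ≠ 1} :=
          ⟨fun a b => Subtype.ext (Subtype.ext ((hh _ a.1.2 a.2).trans (hh _ b.1.2 b.2).symm))⟩
        exact Finite.card_le_one_iff_subsingleton.2 inferInstance
      rw [card_ne_one, K.hend.card] at this
      have := K.hend.prime.two_le
      omega
    obtain ⟨d, hd, hdt⟩ := hconj s hs hs1
    refine hst ?_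
    rw [← hdt, ← mem_centralizer_iff.1 (hDM d hd (hall d hd.1)) t ht, mul_inv_cancel_right]
  · -- the orbit of `t` has at most `r` points
    set K₀ := (M ⊓ D).subgroupOf D
    have h1 : K₀.index ≤ r := by
      have hd : (M ⊓ D).relIndex D ≤ M.relIndex N := by
        rw [inf_relIndex_right]
        refine relIndex_le_of_le_right inf_le_left ?_
        rw [hrel]; exact K.oc.hr.ne_zero
      rw [hrel] at hd
      exact hd
    let f : ↥D ⧸ K₀ → {s : (S : Subgroup G) // (s : G) ≠ 1} :=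
      Quotient.lift (fun d : ↥D => ⟨⟨(d : G) * t * (d : G)⁻¹, conj_mem_zero S d.2.1 ht⟩,
        fun e => ht1 (conj_eq_one_iff.1 e)⟩) (by
        intro a b hab
        have hab' : a⁻¹ * b ∈ K₀ := QuotientGroup.leftRel_apply.1 hab
        have hm : ((a⁻¹ * b : ↥D) : G) ∈ centralizer ((S : Subgroup G) : Set G) :=
          hDM _ (a⁻¹ * b).2 (mem_subgroupOf.1 hab').1
        refine Subtype.ext (Subtype.ext ?_)
        have h3 := mem_centralizer_iff.1 hm t ht
        simp only [coe_mul, coe_inv] at h3 ⊢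
        calc (a : G) * t * (a : G)⁻¹ = (a : G) * (t * ((a : G)⁻¹ * b)) * (b : G)⁻¹ := by group
          _ = (a : G) * (((a : G)⁻¹ * b) * t) * (b : G)⁻¹ := by rw [h3]
          _ = (b : G) * t * (b : G)⁻¹ := by group)
    have hf : Function.Surjective f := by
      rintro ⟨⟨s, hs⟩, hs1⟩
      obtain ⟨d, hd, hdt⟩ := hconj s hs hs1
      exact ⟨QuotientGroup.mk (⟨d, hd⟩ : ↥D), Subtype.ext (Subtype.ext hdt)⟩
    have := Nat.card_le_card_of_surjective f hf
    rw [card_ne_one, K.hend.card, ← index_eq_card] at this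
    omega

/-- `D` meets `C(S)` trivially. -/
theorem Ctx.core_trivial (K : Ctx S r p M) {u d : G} (hu : orderOf u = 2)
    (huN : u ∉ normalizer ((S : Subgroup G) : Set G))
    (hd : d ∈ centralizer ((S : Subgroup G) : Set G))
    (hdu : u⁻¹ * d * u ∈ normalizer ((S : Subgroup G) : Set G)) : d = 1 := by
  classical
  by_contra hd1
  haveI := Fact.mk K.oc.hr
  set N := normalizer ((S : Subgroup G) : Set G) with hN
  set C := centralizer ((S : Subgroup G) : Set G) with hC
  have hS1 := K.sylow_ne_bot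
  have hdN : d ∈ N := centralizer_le_normalizer' S hd
  have hdr : d ^ r = 1 := K.oc.pow_r_of_odd S hS1 hd (K.odd_inter huN hdN hdu)
  have huu := conj_swap_order hu
  set d' := u⁻¹ * d * u with hd'
  have hd'C : d' ∉ C := fun hm => K.conj_cent_false huN hd hd1 hdr hm
  have hd'u : u⁻¹ * d' * u = d := by
    rw [hd', huu, show u * (u * d * u) * u = (u * u) * d * (u * u) by group, ← pow_two, ← hu,
      pow_orderOf_eq_one, one_mul, mul_one]
  have hd'r : d' ^ r = 1 := by
    rw [hd', show u⁻¹ * d * u = u⁻¹ * d * u⁻¹⁻¹ by rw [inv_inv], conj_pow, hdr, mul_one, mul_inv_cancel]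
  have hcop : ∀ {x : G}, x ^ p ∈ C → x ^ r = 1 → r ≠ p → x ∈ C := by
    intro x hxp hxr hrp
    obtain ⟨k, hk⟩ := exists_pow_eq_self_of_coprime (x := x) (n := p) (Nat.Coprime.coprime_dvd_right
      (orderOf_dvd_of_pow_eq_one hxr) ((Nat.coprime_primes K.hend.prime K.oc.hr).2 (Ne.symm hrp)))
    rw [← hk]; exact pow_mem hxp k
  by_cases hrp : r = p
  · -- all of `N` lies in `M`
    have hall : ∀ n ∈ N, n ∈ M := K.hend.cases.resolve_right fun hh => hh.1 hrp
    have hcomm : d * d' = d' * d := by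
      rw [← commutatorElement_eq_one_iff_mul_comm]
      set c := ⁅d, d'⁆ with hcdef
      have hc1 : c ∈ C := by
        rw [hcdef, commutatorElement_def, show d * d' * d⁻¹ * d'⁻¹ = d * (d' * d⁻¹ * d'⁻¹) by group]
        exact mul_mem hd (centralizer_normal_in_normalizer S hdu (inv_mem hd))
      have hc2 : u⁻¹ * c * u ∈ C := by
        rw [hcdef, commutatorElement_def]
        rw [show u⁻¹ * (d * d' * d⁻¹ * d'⁻¹) * u =
          (u⁻¹ * d * u) * (u⁻¹ * d' * u) * (u⁻¹ * d * u)⁻¹ * (u⁻¹ * d' * u)⁻¹ by group, hd'u]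
        exact mul_mem (centralizer_normal_in_normalizer S hdu hd) (inv_mem hd)
      by_contra hne
      exact K.conj_cent_false huN hc1 hne
        (K.oc.pow_r_of_odd S hS1 hc1 (K.odd_inter huN (centralizer_le_normalizer' S hc1)
          (centralizer_le_normalizer' S hc2))) hc2
    set e := d * d' with he
    have hue : u * e = e * u := by
      have h1 : u⁻¹ * e * u = e := by
        rw [he, show u⁻¹ * (d * d') * u = (u⁻¹ * d * u) * (u⁻¹ * d' * u) by group, hd'u, ← hd', ← hcomm]
      calc u * e = u * (u⁻¹ * e * u) := by rw [h1]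
        _ = e * u := by group
    have he1 : e ≠ 1 := fun hee => hd'C (by
      rw [eq_inv_of_mul_eq_one_right hee]; exact inv_mem hd)
    have her : e ^ r = 1 := by rw [he, Commute.mul_pow hcomm, hdr, hd'r, one_mul]
    obtain ⟨g, hg⟩ := Invol.exists_fixed K.se hu
    have hu' : orderOf (g⁻¹ * u * g) = 2 := by
      rw [← hu, show g⁻¹ * u * g = g⁻¹ * u * g⁻¹⁻¹ by rw [inv_inv]]
      exact Invol.orderOf_conj_eq g⁻¹ u
    have hu'S := K.oc.mem_sylow_of_involution S hg hu'
    have hu'1 : g⁻¹ * u * g ≠ 1 := fun ee => by rw [ee, orderOf_one] at hu'; omega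
    have he'c : (g⁻¹ * e * g) * (g⁻¹ * u * g) = (g⁻¹ * u * g) * (g⁻¹ * e * g) := by
      calc (g⁻¹ * e * g) * (g⁻¹ * u * g) = g⁻¹ * (e * u) * g := by group
        _ = g⁻¹ * (u * e) * g := by rw [hue]
        _ = _ := by group
    have he'N := K.oc.centralizer_inv_le S K.good hu'S hu'1 (mem_centralizer_singleton_iff.2 he'c)
    have he'C := K.hend.fpf _ (hall _ he'N) _ hu'S hu'1 he'c
    have he'o : orderOf (g⁻¹ * e * g) = r := by
      rw [show g⁻¹ * e * g = g⁻¹ * e * g⁻¹⁻¹ by rw [inv_inv], Invol.orderOf_conj_eq]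
      exact orderOf_eq_prime her he1
    have hde : d * e = e * d := by rw [he, mul_assoc d d' d, ← hcomm]
    have hw : g⁻¹ * d * g ∈ N := K.oc.centralizer_cent_le S K.good he'C he'o (mem_centralizer_singleton_iff.2 (by
      calc g⁻¹ * d * g * (g⁻¹ * e * g) = g⁻¹ * (d * e) * g := by group
        _ = g⁻¹ * (e * d) * g := by rw [hde]
        _ = _ := by group))
    set u' := g⁻¹ * u * g with hu'def
    set w := g⁻¹ * d * g with hwdef
    have hc : w * u' * w⁻¹ * u' ∈ (S : Subgroup G) := mul_mem (conj_mem_zero S hw hu'S) hu'S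
    have hback : g * (w * u' * w⁻¹ * u') * g⁻¹ = d * d'⁻¹ := by
      rw [hwdef, hu'def, hd', huu]
      simp only [mul_inv_rev, inv_inv, huu, mul_assoc, inv_mul_cancel_left, mul_inv_cancel_left]
      simp
    have hc2 : (d * d'⁻¹) ^ 2 = 1 := by
      rw [← hback, conj_pow, pow_two, K.oc.sq S.isPGroup' hc, mul_one, mul_inv_cancel]
    have hcr : (d * d'⁻¹) ^ r = 1 := by
      rw [Commute.mul_pow (Commute.inv_right hcomm), hdr, inv_pow, hd'r, inv_one, one_mul]
    refine hd'C ?_
    have : d * d'⁻¹ = 1 := orderOf_eq_one_iff.1 (Nat.eq_one_of_dvd_coprimes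
      ((Nat.coprime_primes Nat.prime_two K.oc.hr).2 (Ne.symm K.oc.r2))
      (orderOf_dvd_of_pow_eq_one hc2) (orderOf_dvd_of_pow_eq_one hcr))
    rw [← mul_inv_eq_one.1 this]
    exact hd
  · obtain ⟨x, hxM, hxu, hxC⟩ := K.exists_moving_M hu huN
    have hxN := K.hend.le hxM
    have hd'N : d' ∈ N := hdu
    set c := ⁅d', x⁆ with hcdef
    have hcM : c ∈ M := by
      rw [hcdef, commutatorElement_def, mul_assoc]
      rw [show d' * x * (d'⁻¹ * x⁻¹) = (d' * x * d'⁻¹) * x⁻¹ by group]
      exact mul_mem ((mem_normalizer_iff.1 (K.hend.normal hd'N) x).1 hxM) (inv_mem hxM)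
    have hcC : u⁻¹ * c * u ∈ C := by
      rw [hcdef, commutatorElement_def, show u⁻¹ * (d' * x * d'⁻¹ * x⁻¹) * u =
        (u⁻¹ * d' * u) * ((u⁻¹ * x * u) * (u⁻¹ * d' * u)⁻¹ * (u⁻¹ * x * u)⁻¹) by group, hd'u]
      exact mul_mem hd (centralizer_normal_in_normalizer S hxu (inv_mem hd))
    have hcr : c ^ r = 1 := by
      have h1 : (u⁻¹ * c * u) ^ r = 1 := K.oc.pow_r_of_odd S hS1 hcC
        (K.odd_inter huN (centralizer_le_normalizer' S hcC) (by
          have hu2 : u * u = 1 := by rw [← pow_two, ← hu, pow_orderOf_eq_one]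
          rw [huu, show u * (u * c * u) * u = (u * u) * c * (u * u) by group, hu2, one_mul, mul_one]
          exact K.hend.le hcM))
      rw [show u⁻¹ * c * u = u⁻¹ * c * u⁻¹⁻¹ by rw [inv_inv], conj_pow] at h1
      exact conj_eq_one_iff.1 h1
    have hcC' : c ∈ C := hcop (K.hend.pow_mem c hcM) hcr hrp
    exact hd'C (hcop (K.hend.pow_mem _ (K.hend.self_cent d' hd'N x hxM hxC hcC')) hd'r hrp)

/-- A swapping involution for a point other than the base point. -/
theorem Ctx.exists_swap (K : Ctx S r p M) {g : G} (hg : g ∉ normalizer ((S : Subgroup G) : Set G)) :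
    ∃ v : G, orderOf v = 2 ∧ v ∉ normalizer ((S : Subgroup G) : Set G) ∧
      v⁻¹ * g ∈ normalizer ((S : Subgroup G) : Set G) := by
  set N := normalizer ((S : Subgroup G) : Set G)
  obtain ⟨t, ht, ht1⟩ := (bot_or_exists_ne_one _).resolve_left K.sylow_ne_bot
  have hne : (QuotientGroup.mk 1 : G ⧸ N) ≠ QuotientGroup.mk g := fun e => hg (by simpa using QuotientGroup.eq.1 e)
  have := Invol.card_swap_eq K.se _ _ hne
  have hpos : 0 < Nat.card {i : G // orderOf i = 2 ∧ i • (QuotientGroup.mk 1 : G ⧸ N) = QuotientGroup.mk g} := by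
    rw [this]
    haveI : Nonempty {t : G // orderOf t = 2 ∧ t ∈ N} := ⟨⟨t, K.oc.orderOf_sylow S ht ht1, le_normalizer ht⟩⟩
    exact Nat.card_pos
  obtain ⟨⟨v, hv, hve⟩⟩ := (Nat.card_pos_iff.1 hpos).1
  rw [MulAction.Quotient.smul_mk, smul_eq_mul, mul_one, QuotientGroup.eq] at hve
  exact ⟨v, hv, fun hvN => hg (by simpa using mul_mem hvN hve), hve⟩

/-- `D ∩ M` has order `p`. -/
theorem Ctx.mem_zpowers_of_mem (K : Ctx S r p M) {u x y : G} (hu : orderOf u = 2)
    (huN : u ∉ normalizer ((S : Subgroup G) : Set G))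
    (hy : y ∈ M) (hyu : u⁻¹ * y * u ∈ normalizer ((S : Subgroup G) : Set G)) (hy1 : y ≠ 1)
    (hx : x ∈ M) (hxu : u⁻¹ * x * u ∈ normalizer ((S : Subgroup G) : Set G)) :
    orderOf y = p ∧ x ∈ zpowers y := by
  classical
  haveI := Fact.mk K.hend.prime
  set N := normalizer ((S : Subgroup G) : Set G) with hN
  have hpow : ∀ z ∈ M, u⁻¹ * z * u ∈ N → z ^ p = 1 := by
    intro z hz hzu
    refine K.core_trivial hu huN (K.hend.pow_mem z hz) ?_
    rw [show u⁻¹ * z ^ p * u = (u⁻¹ * z * u) ^ p by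
      conv_rhs => rw [show u⁻¹ * z * u = u⁻¹ * z * u⁻¹⁻¹ by rw [inv_inv], conj_pow, inv_inv]]
    exact pow_mem hzu p
  have hyo : orderOf y = p := orderOf_eq_prime (hpow y hy hyu) hy1
  refine ⟨hyo, ?_⟩
  set Q := M ⊓ N.map (MulAut.conj u).toMonoidHom with hQ
  have hmemQ : ∀ z, z ∈ Q ↔ z ∈ M ∧ u⁻¹ * z * u ∈ N := by
    intro z
    refine ⟨fun hz => ⟨hz.1, (Invol.mem_inf_map_conj.1 ⟨K.hend.le hz.1, hz.2⟩).2⟩,
      fun hz => ⟨hz.1, (Invol.mem_inf_map_conj.2 ⟨K.hend.le hz.1, hz.2⟩).2⟩⟩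
  obtain ⟨t, ht, ht1⟩ := (bot_or_exists_ne_one _).resolve_left K.sylow_ne_bot
  let f : ↥Q → {s : (S : Subgroup G) // (s : G) ≠ 1} := fun z =>
    ⟨⟨(z : G) * t * (z : G)⁻¹, conj_mem_zero S (K.hend.le z.2.1) ht⟩, fun e => ht1 (conj_eq_one_iff.1 e)⟩
  have hf : Function.Injective f := by
    intro a b hab
    have h1 : (a : G) * t * (a : G)⁻¹ = (b : G) * t * (b : G)⁻¹ :=
      congrArg Subtype.val (congrArg Subtype.val hab)
    have hm : (((b⁻¹ * a : ↥Q) : G)) ∈ M := (b⁻¹ * a).2.1
    have hc : ((b⁻¹ * a : ↥Q) : G) * t = t * ((b⁻¹ * a : ↥Q) : G) := by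
      simp only [coe_mul, coe_inv]
      calc (b : G)⁻¹ * a * t = (b : G)⁻¹ * ((a : G) * t * (a : G)⁻¹) * a := by group
        _ = (b : G)⁻¹ * ((b : G) * t * (b : G)⁻¹) * a := by rw [h1]
        _ = _ := by group
    have := K.core_trivial hu huN (K.hend.fpf _ hm t ht ht1 hc) ((hmemQ _).1 (b⁻¹ * a).2).2
    exact Subtype.ext (inv_mul_eq_one.1 (by simpa using this)).symm
  have hle := Nat.card_le_card_of_injective f hf
  rw [card_ne_one, K.hend.card] at hle
  have hyQ : zpowers y ≤ Q := zpowers_le.2 ((hmemQ y).2 ⟨hy, hyu⟩)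
  have : zpowers y = Q := eq_of_le_of_card_ge hyQ (by rw [Nat.card_zpowers, hyo]; omega)
  rw [this]
  exact (hmemQ x).2 ⟨hx, hxu⟩

/-- No involution centralizes a nonidentity element of `D ∩ M`. -/
theorem Ctx.no_involution (K : Ctx S r p M) {u x : G} (hu : orderOf u = 2)
    (huN : u ∉ normalizer ((S : Subgroup G) : Set G))
    (hx : x ∈ M) (hxu : u⁻¹ * x * u ∈ normalizer ((S : Subgroup G) : Set G)) (hx1 : x ≠ 1) {b : G}
    (hb : orderOf b = 2) : ¬ Commute b x := by
  intro hc
  set N := normalizer ((S : Subgroup G) : Set G) with hN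
  have hxo := (K.mem_zpowers_of_mem hu huN hx hxu hx1 hx hxu).1
  have hb1 : b ≠ 1 := fun e => by rw [e, orderOf_one] at hb; omega
  have hxC : x ∉ centralizer ((S : Subgroup G) : Set G) := fun hm => hx1 (K.core_trivial hu huN hm hxu)
  by_cases hbN : b ∈ N
  · exact hxC (K.hend.fpf x hx b (K.oc.mem_sylow_of_involution S hbN hb) hb1 hc.symm.eq)
  obtain ⟨g, hg⟩ := Invol.exists_fixed K.se hb
  have hgN : g ∉ N := fun hgN => hbN (by simpa [mul_assoc] using mul_mem (mul_mem hgN hg) (inv_mem hgN))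
  have hb' : orderOf (g⁻¹ * b * g) = 2 := by
    rw [← hb, show g⁻¹ * b * g = g⁻¹ * b * g⁻¹⁻¹ by rw [inv_inv]]
    exact Invol.orderOf_conj_eq g⁻¹ b
  have hb'1 : g⁻¹ * b * g ≠ 1 := fun e => by rw [e, orderOf_one] at hb'; omega
  have hb'S := K.oc.mem_sylow_of_involution S hg hb'
  have hcomm : (g⁻¹ * x * g) * (g⁻¹ * b * g) = (g⁻¹ * b * g) * (g⁻¹ * x * g) := by
    calc (g⁻¹ * x * g) * (g⁻¹ * b * g) = g⁻¹ * (x * b) * g := by group
      _ = g⁻¹ * (b * x) * g := by rw [hc.eq]
      _ = _ := by group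
  have hxgN := K.oc.centralizer_inv_le S K.good hb'S hb'1 (mem_centralizer_singleton_iff.2 hcomm)
  have hxgp : (g⁻¹ * x * g) ^ p = 1 := by
    rw [show g⁻¹ * x * g = g⁻¹ * x * g⁻¹⁻¹ by rw [inv_inv], conj_pow, ← hxo, pow_orderOf_eq_one,
      mul_one, mul_inv_cancel]
  have hxgC := K.hend.fpf _ (K.hend.of_pow _ hxgN (hxgp ▸ one_mem _)) _ hb'S hb'1 hcomm
  obtain ⟨v, hv, hvN, hvg⟩ := K.exists_swap hgN
  have hx'' : v⁻¹ * x * v ∈ centralizer ((S : Subgroup G) : Set G) := by
    rw [show v⁻¹ * x * v = (v⁻¹ * g) * (g⁻¹ * x * g) * (v⁻¹ * g)⁻¹ by group]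
    exact centralizer_normal_in_normalizer S hvg hxgC
  have := K.core_trivial hv hvN hx'' (by
    have hv2 : v * v = 1 := by rw [← pow_two, ← hv, pow_orderOf_eq_one]
    rw [conj_swap_order hv, show v * (v * x * v) * v = (v * v) * x * (v * v) by group, hv2, one_mul, mul_one]
    exact K.hend.le hx)
  exact hx1 (conj_eq_one_iff.1 (by rwa [show v⁻¹ * x * v = v⁻¹ * x * v⁻¹⁻¹ by rw [inv_inv]] at this))

/-- The centralizer of a nonidentity element of `D ∩ M` has exponent `p`. -/
theorem Ctx.centralizer_exponent (K : Ctx S r p M) {u x : G} (hu : orderOf u = 2)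
    (huN : u ∉ normalizer ((S : Subgroup G) : Set G))
    (hx : x ∈ M) (hxu : u⁻¹ * x * u ∈ normalizer ((S : Subgroup G) : Set G)) (hx1 : x ≠ 1) {y : G}
    (hy : Commute y x) : y ^ p = 1 := by
  rcases eq_or_ne y 1 with rfl | hy1
  · exact one_pow p
  have hxo := (K.mem_zpowers_of_mem hu huN hx hxu hx1 hx hxu).1
  rcases K.oc.ord y hy1 with hl | he
  · by_cases hyp : orderOf y = p
    · rw [← hyp, pow_orderOf_eq_one]
    · exfalso
      have := K.oc.comm_orders hy rfl hxo hl K.hend.prime hyp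
      have h2 : 2 ∣ orderOf y * p := ⟨r, this⟩
      rcases Nat.prime_two.dvd_mul.1 h2 with hd | hd
      · exact K.no_involution hu huN hx hxu hx1 ((Nat.prime_dvd_prime_iff_eq Nat.prime_two hl).1 hd).symm hy
      · exact K.hend.odd ((Nat.prime_dvd_prime_iff_eq Nat.prime_two K.hend.prime).1 hd).symm
  · exfalso
    refine K.no_involution hu huN hx hxu hx1 (b := y ^ r) ?_ (hy.pow_left r)
    rw [orderOf_pow, he, Nat.gcd_eq_right (dvd_mul_left r 2), Nat.mul_div_cancel _ K.oc.hr.pos]

/-- A nonidentity element of `D ∩ M` fixes exactly two points. -/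
theorem Ctx.fix_two (K : Ctx S r p M) {u x : G} (hu : orderOf u = 2)
    (huN : u ∉ normalizer ((S : Subgroup G) : Set G))
    (hx : x ∈ M) (hxu : u⁻¹ * x * u ∈ normalizer ((S : Subgroup G) : Set G)) (hx1 : x ≠ 1) {g : G}
    (hg : g⁻¹ * x * g ∈ normalizer ((S : Subgroup G) : Set G)) :
    g ∈ normalizer ((S : Subgroup G) : Set G) ∨ u⁻¹ * g ∈ normalizer ((S : Subgroup G) : Set G) := by
  classical
  haveI := Fact.mk K.hend.prime
  set N := normalizer ((S : Subgroup G) : Set G) with hN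
  have hxo := (K.mem_zpowers_of_mem hu huN hx hxu hx1 hx hxu).1
  have hxN := K.hend.le hx
  have hxp : x ^ p = 1 := by rw [← hxo, pow_orderOf_eq_one]
  set Mx := normalizer ((zpowers x : Subgroup G) : Set G) with hMx
  set α : G ⧸ N := QuotientGroup.mk 1 with hα
  -- conjugates of `x` under `Mx`
  have hMxconj : ∀ m ∈ Mx, m⁻¹ * x * m ∈ zpowers x := by
    intro m hm
    have := (mem_normalizer_iff.1 (inv_mem hm) x).1 (mem_zpowers x)
    rwa [inv_inv] at this
  have hfixα : ∀ z ∈ zpowers x, z • α = α := by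
    intro z hz
    rw [hα, Invol.smul_coset_eq_iff, inv_one, one_mul, mul_one]
    exact zpowers_le.2 hxN hz
  have hstab : ∀ z ∈ N, z • α = α := by
    intro z hz
    rw [hα, Invol.smul_coset_eq_iff, inv_one, one_mul, mul_one]
    exact hz
  have hsm : ∀ z : G, z • α = (QuotientGroup.mk z : G ⧸ N) := by
    intro z
    rw [hα, MulAction.Quotient.smul_mk, smul_eq_mul, mul_one]
  have hMxfix : ∀ m ∈ Mx, x • (m • α) = m • α := by
    intro m hm
    rw [show x • (m • α) = m • ((m⁻¹ * x * m) • α) by rw [smul_smul, smul_smul]; group,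
      hfixα _ (hMxconj m hm)]
  -- involutions in `Mx` move the base point
  have hmove : ∀ i, orderOf i = 2 → i ∈ Mx → i ∉ N := by
    intro i hi him hiN
    have hiS := K.oc.mem_sylow_of_involution S hiN hi
    refine K.no_involution hu huN hx hxu hx1 hi ?_
    have h1 : ⁅i, x⁆ ∈ (S : Subgroup G) := by
      rw [commutatorElement_def, show i * x * i⁻¹ * x⁻¹ = i * (x * i⁻¹ * x⁻¹) by group]
      exact mul_mem hiS (conj_mem_zero S hxN (inv_mem hiS))
    have h2 : ⁅i, x⁆ ∈ zpowers x := by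
      rw [commutatorElement_def]
      exact mul_mem ((mem_normalizer_iff.1 him x).1 (mem_zpowers x)) (inv_mem (mem_zpowers x))
    obtain ⟨k, hk⟩ := h2
    have h3 : ⁅i, x⁆ ^ p = 1 := by
      rw [← hk]; dsimp only
      rw [← zpow_natCast, ← zpow_mul, mul_comm, zpow_mul, zpow_natCast, hxp, one_zpow]
    have h4 : ⁅i, x⁆ ^ 2 = 1 := by rw [pow_two]; exact K.oc.sq S.isPGroup' h1
    have h5 : ⁅i, x⁆ = 1 := orderOf_eq_one_iff.1 (Nat.eq_one_of_dvd_coprimes
      ((Nat.coprime_primes Nat.prime_two K.hend.prime).2 (Ne.symm K.hend.odd))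
      (orderOf_dvd_of_pow_eq_one h4) (orderOf_dvd_of_pow_eq_one h3))
    exact commutatorElement_eq_one_iff_mul_comm.1 h5
  -- swapping involutions lie in `Mx`
  have hswap : ∀ i : G, orderOf i = 2 → i ∉ N → i⁻¹ * x * i ∈ N → i ∈ Mx := by
    intro i hi hiN hix
    have hii := conj_swap_order hi
    have hi2 : i * i = 1 := by rw [← pow_two, ← hi, pow_orderOf_eq_one]
    have hp' : (i⁻¹ * x * i) ^ p = 1 := by
      rw [show i⁻¹ * x * i = i⁻¹ * x * i⁻¹⁻¹ by rw [inv_inv], conj_pow, hxp, mul_one, mul_inv_cancel]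
    have hM' := K.hend.of_pow _ hix (hp' ▸ one_mem _)
    have hz := (K.mem_zpowers_of_mem hi hiN hx hix hx1 hM' (by
      rw [hii, show i * (i * x * i) * i = (i * i) * x * (i * i) by group, hi2, one_mul, mul_one]
      exact hxN)).2
    have key : ∀ z ∈ zpowers x, i * z * i⁻¹ ∈ zpowers x := by
      rintro _ ⟨k, rfl⟩
      dsimp only
      rw [← conj_zpow]
      refine zpow_mem ?_ k
      rwa [show i * x * i⁻¹ = i⁻¹ * x * i by rw [hii]]
    rw [hMx, mem_normalizer_iff]
    refine fun z => ⟨key z, fun hz => ?_⟩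
    have := key _ hz
    rw [show i * (i * z * i⁻¹) * i⁻¹ = (i * i) * z * (i * i)⁻¹ by group, hi2] at this
    simpa using this
  let F := {y : G ⧸ N // x • y = y}
  let I := {i : G // orderOf i = 2 ∧ i ∈ Mx}
  have hαF : x • α = α := hfixα x (mem_zpowers x)
  let f : I → {y : F // (y : G ⧸ N) ≠ α} := fun i =>
    ⟨⟨(i : G) • α, hMxfix i i.2.2⟩, fun e => hmove i i.2.1 i.2.2 (by
      have := Invol.smul_coset_eq_iff.1 (e : (i : G) • α = α)
      simpa using this)⟩
  have hfib : ∀ y : {y : F // (y : G ⧸ N) ≠ α}, Nat.card {i : I // f i = y} = p := by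
    rintro ⟨⟨y, hy⟩, hyα⟩
    have e : {i : I // f i = ⟨⟨y, hy⟩, hyα⟩} ≃ {i : G // orderOf i = 2 ∧ i • α = y} :=
      { toFun := fun i => ⟨i.1.1, i.1.2.1, congrArg (fun z => z.1.1) i.2⟩
        invFun := fun i => ⟨⟨i.1, i.2.1, hswap i.1 i.2.1 (fun hiN => hyα (by
            show y = α
            exact i.2.2.symm.trans (hstab _ hiN))) (by
            have h9 : x • ((i : G) • α) = (i : G) • α := i.2.2.symm ▸ hy
            rw [hsm] at h9
            exact Invol.smul_coset_eq_iff.1 h9)⟩,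
          Subtype.ext (Subtype.ext i.2.2)⟩
        left_inv := fun i => rfl
        right_inv := fun i => rfl }
    rw [Nat.card_congr e, Invol.card_swap_eq K.se α y (Ne.symm hyα)]
    rw [show p = Nat.card {s : (S : Subgroup G) // (s : G) ≠ 1} by rw [card_ne_one, K.hend.card]; omega]
    exact Nat.card_congr
      { toFun := fun t => ⟨⟨t.1, K.oc.mem_sylow_of_involution S t.2.2 t.2.1⟩, fun e => by
          have := t.2.1; rw [show (t : G) = 1 from e, orderOf_one] at this; omega⟩
        invFun := fun s => ⟨s.1, K.oc.orderOf_sylow S s.1.2 s.2, le_normalizer s.1.2⟩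
        left_inv := fun t => rfl
        right_inv := fun s => rfl }
  have hI : Nat.card I = p * Nat.card {y : F // (y : G ⧸ N) ≠ α} := by
    haveI := Fintype.ofFinite {y : F // (y : G ⧸ N) ≠ α}
    rw [← Nat.card_congr (Equiv.sigmaFiberEquiv f), Nat.card_sigma, Finset.sum_congr rfl fun y _ => hfib y,
      Finset.sum_const, smul_eq_mul, Finset.card_univ, ← Nat.card_eq_fintype_card, mul_comm]
  have hF : Nat.card F = Nat.card {y : F // (y : G ⧸ N) ≠ α} + 1 := by
    have e1 : Nat.card F = Nat.card {y : F // (y : G ⧸ N) = α} + Nat.card {y : F // (y : G ⧸ N) ≠ α} := by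
      rw [← Nat.card_sum]; exact Nat.card_congr (Equiv.sumCompl (fun y : F => (y : G ⧸ N) = α)).symm
    haveI : Subsingleton {y : F // (y : G ⧸ N) = α} := ⟨fun a b => Subtype.ext (Subtype.ext (a.2.trans b.2.symm))⟩
    haveI : Nonempty {y : F // (y : G ⧸ N) = α} := ⟨⟨⟨α, hαF⟩, rfl⟩⟩
    rw [Nat.card_unique (α := {y : F // (y : G ⧸ N) = α})] at e1
    omega
  -- the centralizer of `x`
  set C := centralizer ({x} : Set G) with hC
  have hCp : ∀ c ∈ C, c ^ p = 1 := fun c hc =>
    K.centralizer_exponent hu huN hx hxu hx1 (mem_centralizer_singleton_iff.1 hc)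
  have hCpg : IsPGroup p C := fun c => ⟨1, Subtype.ext (by simpa using hCp c c.2)⟩
  have hu' : u ∈ Mx := hswap u hu huN hxu
  have hinv : ∀ i, orderOf i = 2 → i ∈ Mx → i * x * i = x⁻¹ := by
    intro i hi him
    have hii := conj_swap_order hi
    have hi2 : i * i = 1 := by rw [← pow_two, ← hi, pow_orderOf_eq_one]
    have hm : i * x * i ∈ zpowers x := by
      have := hMxconj i him
      rwa [hii] at this
    obtain ⟨k, hk⟩ := hm
    have hcom : (i * x * i) * x = x * (i * x * i) := by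
      rw [← hk]; exact ((Commute.refl x).zpow_left k).eq
    set z := x * (i * x * i) with hz
    have hiz : i * z * i = z := by
      calc i * z * i = (i * x * i) * x * (i * i) := by rw [hz]; group
        _ = z := by rw [hi2, mul_one, hcom]
    have hzx : z ∈ zpowers x := mul_mem (mem_zpowers x) ⟨k, hk⟩
    by_cases hz1 : z = 1
    · exact (inv_eq_of_mul_eq_one_right hz1).symm
    · exfalso
      have hgen : zpowers z = zpowers x := eq_of_le_of_card_ge (zpowers_le.2 hzx) (by
        rw [Nat.card_zpowers, Nat.card_zpowers, hxo, orderOf_eq_prime (p := p) ?_ hz1]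
        obtain ⟨j, hj⟩ := hzx
        rw [← hj, ← zpow_natCast, ← zpow_mul, mul_comm, zpow_mul, zpow_natCast, hxp, one_zpow])
      obtain ⟨j, hj⟩ := (hgen.ge (mem_zpowers x) : x ∈ zpowers z)
      refine K.no_involution hu huN hx hxu hx1 hi ?_
      rw [← hj]
      have : i * z = z * i := by
        calc i * z = (i * z * i) * i := by rw [mul_assoc _ i i, hi2, mul_one]
          _ = z * i := by rw [hiz]
      exact (Commute.zpow_right this j)
  have hprod : ∀ i, orderOf i = 2 → i ∈ Mx → u * i ∈ C := by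
    intro i hi him
    have hi2 : i * i = 1 := by rw [← pow_two, ← hi, pow_orderOf_eq_one]
    have hu2 : u * u = 1 := by rw [← pow_two, ← hu, pow_orderOf_eq_one]
    rw [hC, mem_centralizer_singleton_iff]
    have h1 := hinv i hi him
    have h2 := hinv u hu hu'
    calc u * i * x = u * ((i * x * i) * i) := by rw [mul_assoc _ i i, hi2, mul_one, ← mul_assoc]
      _ = u * x⁻¹ * i := by rw [h1, mul_assoc]
      _ = u * (u * x * u) * i := by rw [h2]
      _ = (u * u) * x * (u * i) := by group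
      _ = x * (u * i) := by rw [hu2, one_mul]
  have hClconj : ∀ m ∈ Mx, ∀ c ∈ C, m⁻¹ * c * m ∈ C := by
    intro m hm c hc
    rw [hC, mem_centralizer_singleton_iff]
    have hm' : m * x * m⁻¹ ∈ zpowers x := (mem_normalizer_iff.1 hm x).1 (mem_zpowers x)
    obtain ⟨k, hk⟩ := hm'
    have hcc : c * (m * x * m⁻¹) = (m * x * m⁻¹) * c := by
      rw [← hk]; exact (Commute.zpow_right (mem_centralizer_singleton_iff.1 hc) k).eq
    calc m⁻¹ * c * m * x = m⁻¹ * (c * (m * x * m⁻¹)) * m := by group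
      _ = m⁻¹ * ((m * x * m⁻¹) * c) * m := by rw [hcc]
      _ = x * (m⁻¹ * c * m) := by group
  have hunion : ∀ y : F, (y : G ⧸ N) ≠ α → ∃ i ∈ Mx, (i : G) • α = y := by
    intro y hy
    have h1 := hfib ⟨y, hy⟩
    obtain ⟨⟨i, hi⟩⟩ : Nonempty {i : I // f i = ⟨y, hy⟩} := by
      refine (Nat.card_pos_iff.1 ?_).1
      rw [h1]; exact K.hend.prime.pos
    exact ⟨i.1, i.2.2, congrArg (fun z => z.1.1) hi⟩
  suffices hk : Nat.card {y : F // (y : G ⧸ N) ≠ α} ≤ 1 by
    by_cases hgα : (QuotientGroup.mk g : G ⧸ N) = α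
    · left
      have := QuotientGroup.eq.1 hgα
      simpa using this
    · right
      haveI := Finite.card_le_one_iff_subsingleton.1 hk
      have huα : (QuotientGroup.mk u : G ⧸ N) ≠ α := fun e => huN (by simpa using QuotientGroup.eq.1 e)
      have := Subsingleton.elim (α := {y : F // (y : G ⧸ N) ≠ α})
        ⟨⟨QuotientGroup.mk u, Invol.smul_coset_eq_iff.2 hxu⟩, huα⟩
        ⟨⟨QuotientGroup.mk g, Invol.smul_coset_eq_iff.2 hg⟩, hgα⟩
      exact QuotientGroup.eq.1 (congrArg (fun z => z.1.1) this)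
  by_cases hCN : C ≤ N
  · -- `C` fixes all these points
    have hCz : C ≤ zpowers x := by
      intro c hc
      refine (K.mem_zpowers_of_mem hu huN hx hxu hx1 (K.hend.of_pow c (hCN hc) (by rw [hCp c hc]; exact one_mem _)) ?_).2
      exact hCN (hClconj u hu' c hc)
    have hIle : Nat.card I ≤ Nat.card ↥C :=
      Nat.card_le_card_of_injective (fun i : I => (⟨u * i, hprod i i.2.1 i.2.2⟩ : ↥C))
        (fun a b e => Subtype.ext (mul_left_cancel (congrArg Subtype.val e)))
    have hCle : Nat.card ↥C ≤ p := by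
      refine (Nat.le_of_dvd Nat.card_pos (card_dvd_of_le hCz)).trans ?_
      rw [Nat.card_zpowers, hxo]
    rw [hI] at hIle
    exact le_of_mul_le_mul_left (by rw [mul_one]; exact hIle.trans hCle) K.hend.prime.pos
  · -- `C` moves all these points
    exfalso
    obtain ⟨c, hc, hcN⟩ := SetLike.not_le_iff_exists.1 hCN
    let act : MulAction ↥C F :=
      { smul := fun c y => ⟨(c : G) • (y : G ⧸ N), by
          rw [smul_smul, ← mem_centralizer_singleton_iff.1 c.2, ← smul_smul, y.2]⟩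
        one_smul := fun y => Subtype.ext (one_smul G _)
        mul_smul := fun a b y => Subtype.ext (mul_smul (a : G) b _) }
    have hnofix : MulAction.fixedPoints ↥C F = ∅ := by
      refine Set.eq_empty_of_forall_notMem fun y hy => ?_
      have hyc : ∀ c ∈ C, c • (y : G ⧸ N) = y := fun c hc => congrArg Subtype.val (hy ⟨c, hc⟩)
      have hCα : ∀ c ∈ C, c • α = α := by
        by_cases hyα : (y : G ⧸ N) = α
        · intro c hc; rw [← hyα]; exact hyc c hc
        · obtain ⟨i, hi, hie⟩ := hunion y hyα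
          intro c hc
          have hh := hyc (i * c * i⁻¹) (by simpa using hClconj i⁻¹ (inv_mem hi) c hc)
          rw [← hie, smul_smul, show i * c * i⁻¹ * i = i * c by group, mul_smul] at hh
          exact smul_left_cancel i hh
      exact hcN (by simpa using Invol.smul_coset_eq_iff.1 (hCα c hc))
    have hpF : p ∣ Nat.card F := by
      have := hCpg.card_modEq_card_fixedPoints F
      rw [Nat.card_eq_zero.2 (Or.inl (Set.isEmpty_coe_sort.2 hnofix))] at this
      exact Nat.modEq_zero_iff_dvd.1 this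
    let actI : MulAction ↥C I :=
      { smul := fun c i => ⟨(c : G) * i * (c : G)⁻¹, by rw [Invol.orderOf_conj_eq]; exact i.2.1, by
          have hcM : (c : G) ∈ Mx := by
            refine centralizer_le_normalizer _ ?_
            rw [mem_centralizer_iff]
            rintro _ ⟨k, rfl⟩
            exact ((Commute.zpow_right (mem_centralizer_singleton_iff.1 c.2) k).symm).eq
          exact mul_mem (mul_mem hcM i.2.2) (inv_mem hcM)⟩
        one_smul := fun i => Subtype.ext (by
          show ((1 : ↥C) : G) * i * ((1 : ↥C) : G)⁻¹ = i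
          simp)
        mul_smul := fun a b i => Subtype.ext (by
          show ((a * b : ↥C) : G) * i * ((a * b : ↥C) : G)⁻¹ = (a : G) * ((b : G) * i * (b : G)⁻¹) * (a : G)⁻¹
          simp [mul_assoc]) }
    have horb : MulAction.orbit ↥C (⟨u, hu, hu'⟩ : I) = Set.univ := by
      refine Set.eq_univ_of_forall fun ⟨i, hi, him⟩ => ?_
      obtain ⟨k, hk⟩ := K.hend.prime.odd_of_ne_two K.hend.odd
      set c := u * i with hc
      have hcC : c ∈ C := hprod i hi him
      have hu2 : u * u = 1 := by rw [← pow_two, ← hu, pow_orderOf_eq_one]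
      have hi2 : i * i = 1 := by rw [← pow_two, ← hi, pow_orderOf_eq_one]
      have hcu : u * c * u⁻¹ = c⁻¹ := by
        rw [hc, mul_inv_rev, conj_swap_order hu, conj_swap_order hi, ← mul_assoc, hu2, one_mul]
      set d := c ^ (k + 1) with hd
      refine ⟨⟨d⁻¹, inv_mem (pow_mem hcC _)⟩, Subtype.ext ?_⟩
      show d⁻¹ * u * d⁻¹⁻¹ = i
      have hud : u * d * u⁻¹ = d⁻¹ := by rw [hd, ← conj_pow, hcu, inv_pow]
      have hdd : d * d = c := by
        rw [hd, ← pow_add, show k + 1 + (k + 1) = p + 1 by omega, pow_succ, hCp c hcC, one_mul]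
      calc d⁻¹ * u * d⁻¹⁻¹ = (u * d * u⁻¹) * u * d := by rw [hud, inv_inv]
        _ = u * (d * d) := by group
        _ = i := by rw [hdd, hc, ← mul_assoc, hu2, one_mul]
    obtain ⟨j, hj⟩ := hCpg.card_orbit (⟨u, hu, hu'⟩ : I)
    rw [horb, Nat.card_congr (Equiv.Set.univ I), hI] at hj
    set k := Nat.card {y : F // (y : G ⧸ N) ≠ α}
    rcases j with _ | j
    · rw [pow_zero] at hj
      exact K.hend.prime.one_lt.ne' (Nat.eq_one_of_mul_eq_one_right hj)
    · rw [pow_succ, mul_comm (p ^ j) p] at hj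
      have hk := Nat.eq_of_mul_eq_mul_left K.hend.prime.pos hj
      rw [hF, hk] at hpF
      rcases j with _ | j
      · rw [pow_zero] at hpF
        exact K.hend.odd ((Nat.prime_dvd_prime_iff_eq K.hend.prime Nat.prime_two).1 hpF)
      · have : p ∣ 1 := (Nat.dvd_add_right (dvd_pow_self p j.succ_ne_zero)).1 hpF
        exact K.hend.prime.one_lt.ne' (Nat.dvd_one.1 this)

end Cfsg.Agent.Recog.OneComp
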