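import Cfsg.Agent.Lib.Recog.OneComp.Weights
import Cfsg.Agent.Lib.Transfer.Burnside

/-!
Sylow 2-normalizer and the `r`-cores of subgroups containing a Sylow 2-subgroup.
-/

set_option autoImplicit false
set_option linter.unusedSectionVars false

namespace Cfsg.Agent.Recog.OneComp

open Subgroup
open scoped Pointwise
open scoped commutatorElement

variable {G : Type*} [Group G] [Finite G] {r : ℕ}

/-- `O_r` of a subgroup, inside the whole group. -/
def core (r : ℕ) (X : Subgroup G) : Subgroup G := (Cfsg.pCore r ↥X).map X.subtype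

theorem core_le (r : ℕ) (X : Subgroup G) : core r X ≤ X := map_subtype_le _

theorem core_pGroup (r : ℕ) (X : Subgroup G) : IsPGroup r (core r X) :=
  (Grp.pCore_isPGroup (p := r) (G := ↥X)).map _

theorem normalizer_le_core (r : ℕ) (X : Subgroup G) :
    normalizer (X : Set G) ≤ normalizer ((core r X : Subgroup G) : Set G) := by
  have key : ∀ n ∈ normalizer (X : Set G), ∀ x ∈ core r X, n * x * n⁻¹ ∈ core r X := by
    rintro n hn _ ⟨x, hx, rfl⟩
    set c : ↥X ≃* ↥X := X.normalizerMonoidHom ⟨n, hn⟩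
    refine ⟨c x, ?_, by rfl⟩
    haveI : (Cfsg.pCore r ↥X).Normal := Grp.pCore_isNormal
    have h1 : (Cfsg.pCore r ↥X).map c.toMonoidHom ≤ Cfsg.pCore r ↥X :=
      Grp.le_pCore (Subgroup.Normal.map inferInstance _ c.surjective) (Grp.pCore_isPGroup.map _)
    exact h1 ⟨x, hx, rfl⟩
  intro n hn
  refine mem_normalizer_iff.2 fun x => ⟨key n hn x, fun hx => ?_⟩
  simpa [mul_assoc] using key n⁻¹ (inv_mem hn) _ hx

theorem mem_core_normalizer (r : ℕ) {X : Subgroup G} {n : G} (hn : n ∈ X) :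
    n ∈ normalizer ((core r X : Subgroup G) : Set G) :=
  normalizer_le_core r X (le_normalizer hn)

/-- The odd part `W` of the centralizer of a Sylow 2-subgroup. -/
def wSub (r : ℕ) (S : Sylow 2 G) : Subgroup G := core r (centralizer ((S : Subgroup G) : Set G))

variable (S : Sylow 2 G)

theorem OC.sylow_comm (h : OC G r) {a b : G} (ha : a ∈ (S : Subgroup G)) (hb : b ∈ (S : Subgroup G)) :
    a * b = b * a :=
  congrArg Subtype.val ((h.two_comm S.isPGroup').is_comm.comm ⟨a, ha⟩ ⟨b, hb⟩)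

theorem OC.sylow_le_centralizer (h : OC G r) :
    (S : Subgroup G) ≤ centralizer ((S : Subgroup G) : Set G) := fun _ ha =>
  mem_centralizer_iff.2 fun _ hb => h.sylow_comm S hb ha

theorem OC.sylow_le_centralizer_singleton (h : OC G r) {a : G} (ha : a ∈ (S : Subgroup G)) :
    (S : Subgroup G) ≤ centralizer ({a} : Set G) := fun _ hb =>
  mem_centralizer_singleton_iff.2 (h.sylow_comm S hb ha)

theorem centralizer_le_normalizer' :
    centralizer ((S : Subgroup G) : Set G) ≤ normalizer ((S : Subgroup G) : Set G) :=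
  centralizer_le_normalizer _

theorem mem_sylow_of_two_power {n : G} (hn : n ∈ normalizer ((S : Subgroup G) : Set G)) {k : ℕ}
    (hk : n ^ 2 ^ k = 1) : n ∈ (S : Subgroup G) := by
  have hz : IsPGroup 2 (zpowers n) := by
    rintro ⟨x, j, rfl⟩
    refine ⟨k, Subtype.ext ?_⟩
    simp only [SubmonoidClass.coe_pow, OneMemClass.coe_one]
    rw [← zpow_natCast, ← zpow_mul, mul_comm, zpow_mul, zpow_natCast, hk, one_zpow]
  have hp := IsPGroup.to_sup_of_normal_right' hz S.isPGroup' (zpowers_le.2 hn)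
  have := S.is_maximal' hp le_sup_right
  exact this ▸ (le_sup_left : zpowers n ≤ zpowers n ⊔ (S : Subgroup G)) (mem_zpowers n)

theorem OC.mem_sylow_of_involution (h : OC G r) {n : G}
    (hn : n ∈ normalizer ((S : Subgroup G) : Set G)) (ho : orderOf n = 2) : n ∈ (S : Subgroup G) :=
  mem_sylow_of_two_power S (k := 1) hn (by rw [pow_one, ← ho, pow_orderOf_eq_one])

/-- An element of `N(S)` outside `C(S)` has square of odd prime order outside `C(S)`. -/
theorem OC.sq_moving (h : OC G r) {n : G} (hn : n ∈ normalizer ((S : Subgroup G) : Set G))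
    (hc : n ∉ centralizer ((S : Subgroup G) : Set G)) :
    n ^ 2 ∉ centralizer ((S : Subgroup G) : Set G) ∧ (orderOf (n ^ 2)).Prime ∧ orderOf (n ^ 2) ≠ 2 := by
  have hn1 : n ≠ 1 := fun e => hc (e ▸ one_mem _)
  have h2 : orderOf n ≠ 2 := fun e =>
    hc (h.sylow_le_centralizer S (h.mem_sylow_of_involution S hn e))
  have hsq : n ^ 2 ∉ centralizer ((S : Subgroup G) : Set G) := by
    intro hm
    refine hc ?_
    rcases h.ord n hn1 with hp | he
    · obtain ⟨k, hk⟩ := hp.odd_of_ne_two h2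
      have e : n = (n ^ 2) ^ (k + 1) := by
        rw [← pow_mul, show 2 * (k + 1) = orderOf n + 1 by omega, pow_succ, pow_orderOf_eq_one, one_mul]
      rw [e]
      exact pow_mem hm _
    · have hr : n ^ r ∈ centralizer ((S : Subgroup G) : Set G) := h.sylow_le_centralizer S
        (mem_sylow_of_two_power S (k := 1) (pow_mem hn r)
          (by rw [← pow_mul, pow_one, mul_comm, ← he, pow_orderOf_eq_one]))
      obtain ⟨k, hk⟩ := h.r_odd
      have e : n = ((n ^ 2) ^ k)⁻¹ * n ^ r := by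
        rw [hk, ← pow_mul, pow_succ, inv_mul_cancel_left]
      rw [e]
      exact mul_mem (inv_mem (pow_mem hm _)) hr
  refine ⟨hsq, ?_⟩
  have ho : orderOf (n ^ 2) = orderOf n / Nat.gcd (orderOf n) 2 := orderOf_pow n
  rcases h.ord n hn1 with hp | he
  · rw [Nat.coprime_primes hp Nat.prime_two |>.2 h2, Nat.div_one] at ho
    rw [ho]
    exact ⟨hp, h2⟩
  · rw [he, Nat.gcd_eq_right (dvd_mul_right 2 r), Nat.mul_div_cancel_left _ (by norm_num)] at ho
    rw [ho]
    exact ⟨h.hr, h.r2⟩

theorem OC.local_core (h : OC G r) {z : G} (hz : orderOf z = 2 ∨ orderOf z = r) {X : Subgroup G}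
    (hX : X ≤ centralizer ({z} : Set G)) (hS : (S : Subgroup G) ≤ X) :
    (∀ Y : Subgroup G, IsPGroup r Y → Y ≤ X → (S : Subgroup G) ≤ normalizer (Y : Set G) →
      Y ≤ core r X) ∧
      ∀ x ∈ X, ∃ o ∈ core r X, ∃ n ∈ X, n ∈ normalizer ((S : Subgroup G) : Set G) ∧ o * n = x := by
  classical
  haveI := Fact.mk Nat.prime_two
  haveI := Fact.mk h.hr
  set T : Sylow 2 ↥X := S.subtype hS
  have hTc : (T : Subgroup ↥X) = (S : Subgroup G).subgroupOf X := S.coe_subtype hS
  have hT : IsMulCommutative (T : Subgroup ↥X) := by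
    refine ⟨⟨fun a b => Subtype.ext (Subtype.ext ?_)⟩⟩
    have ha : ((a : ↥X) : G) ∈ (S : Subgroup G) := mem_subgroupOf.1 (hTc ▸ a.2)
    have hb : ((b : ↥X) : G) ∈ (S : Subgroup G) := mem_subgroupOf.1 (hTc ▸ b.2)
    exact h.sylow_comm S ha hb
  obtain ⟨hN, hY⟩ := core_facts (X := ↥X) r h.r2 (fun p hp hd => h.primes_centralizer hz hX hp hd) T hT
  refine ⟨fun Y hYp hYX hYn => ?_, fun x hx => ?_⟩
  · have h1 : Y.subgroupOf X ≤ Cfsg.pCore r ↥X := by
      refine hY _ (hYp.comap_subtype) fun a ha => ?_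
      rw [mem_normalizer_iff]
      intro y
      simpa [mem_subgroupOf] using mem_normalizer_iff.1 (hYn (mem_subgroupOf.1 (hTc ▸ ha))) (y : G)
    intro y hy
    exact ⟨⟨y, hYX hy⟩, h1 (mem_subgroupOf.2 hy), rfl⟩
  · haveI := hN
    haveI : (Cfsg.pCore r ↥X).Normal := Grp.pCore_isNormal
    have htop : normalizer ((T : Subgroup ↥X) : Set ↥X) ⊔ ((T : Subgroup ↥X) ⊔ Cfsg.pCore r ↥X) = ⊤ :=
      Sylow.normalizer_sup_eq_top' T le_sup_left
    rw [← sup_assoc, sup_eq_left.2 (le_normalizer (H := (T : Subgroup ↥X))), sup_comm] at htop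
    obtain ⟨o, ho, n, hn, hon⟩ := mem_sup_of_normal_left.1 (htop.symm ▸ mem_top (⟨x, hx⟩ : ↥X))
    refine ⟨o, ⟨o, ho, rfl⟩, n, n.2, ?_, congrArg Subtype.val hon⟩
    rw [mem_normalizer_iff]
    have key : ∀ (m : ↥X), m ∈ normalizer ((T : Subgroup ↥X) : Set ↥X) → ∀ s ∈ (S : Subgroup G),
        (m : G) * s * (m : G)⁻¹ ∈ (S : Subgroup G) := by
      intro m hm s hs
      have := (mem_normalizer_iff.1 hm ⟨s, hS hs⟩).1 (by rw [hTc]; exact mem_subgroupOf.2 hs)
      rw [hTc] at this
      exact mem_subgroupOf.1 this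
    exact fun s => ⟨key n hn s, fun hs => by simpa [mul_assoc] using key n⁻¹ (inv_mem hn) _ hs⟩

theorem OC.mem_wSub_iff (h : OC G r) (hS1 : (S : Subgroup G) ≠ ⊥) {x : G} :
    x ∈ wSub r S ↔ x ∈ centralizer ((S : Subgroup G) : Set G) ∧ x ^ r = 1 := by
  haveI := Fact.mk h.hr
  constructor
  · intro hx
    exact ⟨core_le _ _ hx, h.exponent (core_pGroup _ _) hx⟩
  · rintro ⟨hx, hxr⟩
    obtain ⟨a, ha, ha1⟩ := (bot_or_exists_ne_one _).resolve_left hS1
    have hao : orderOf a = 2 := orderOf_eq_prime (by rw [pow_two]; exact h.sq S.isPGroup' ha) ha1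
    have hz : zpowers x ≤ centralizer ((S : Subgroup G) : Set G) := zpowers_le.2 hx
    refine (h.local_core S (Or.inl hao) (centralizer_le (Set.singleton_subset_iff.2 ha))
      (h.sylow_le_centralizer S)).1 (zpowers x) ?_ hz ?_ (mem_zpowers x)
    · rintro ⟨y, j, rfl⟩
      refine ⟨1, Subtype.ext ?_⟩
      simp only [SubmonoidClass.coe_pow, OneMemClass.coe_one, pow_one]
      rw [← zpow_natCast, ← zpow_mul, mul_comm, zpow_mul, zpow_natCast, hxr, one_zpow]
    · intro s hs
      refine centralizer_le_normalizer _ ?_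
      rw [mem_centralizer_iff]
      intro y hy
      exact (mem_centralizer_iff.1 (hz hy) s hs).symm

theorem centralizer_normal_in_normalizer {n c : G} (hn : n ∈ normalizer ((S : Subgroup G) : Set G))
    (hc : c ∈ centralizer ((S : Subgroup G) : Set G)) :
    n * c * n⁻¹ ∈ centralizer ((S : Subgroup G) : Set G) := by
  rw [mem_centralizer_iff]
  intro s hs
  have hs' : n⁻¹ * s * n ∈ ((S : Subgroup G) : Set G) := by
    have := (mem_normalizer_iff.1 (inv_mem hn) s).1 hs
    rwa [inv_inv] at this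
  calc s * (n * c * n⁻¹) = n * ((n⁻¹ * s * n) * c) * n⁻¹ := by group
    _ = n * (c * (n⁻¹ * s * n)) * n⁻¹ := by rw [mem_centralizer_iff.1 hc _ hs']
    _ = n * c * n⁻¹ * s := by group

theorem OC.normalizer_le_wSub (h : OC G r) :
    normalizer ((S : Subgroup G) : Set G) ≤ normalizer ((wSub r S : Subgroup G) : Set G) := by
  refine le_trans ?_ (normalizer_le_core r _)
  intro n hn
  refine mem_normalizer_iff.2 fun c => ⟨centralizer_normal_in_normalizer S hn, fun hc => ?_⟩
  simpa [mul_assoc] using centralizer_normal_in_normalizer S (inv_mem hn) hc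

variable [IsSimpleGroup G]

theorem OC.sylow_le_commutator (h : OC G r) (hna : ∃ x y : G, x * y ≠ y * x) :
    (S : Subgroup G) ≤ ⁅(S : Subgroup G), normalizer ((S : Subgroup G) : Set G)⁆ := by
  haveI := Fact.mk Nat.prime_two
  have hc : commutator G = ⊤ := by
    refine ((inferInstance : (commutator G).Normal).eq_bot_or_eq_top).resolve_left fun e => ?_
    obtain ⟨x, y, hxy⟩ := hna
    exact hxy (((commutator_eq_bot_iff G).1 e).is_comm.comm x y)
  have := (Cfsg.Agent.Transfer.abelian_sylow_inf_commutator S (h.two_comm S.isPGroup')).1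
  rwa [hc, top_inf_eq] at this

/-- An `r`-subgroup normalized by the normalizer of a Sylow 2-subgroup is centralized by it. -/
theorem OC.centralize_of_invariant (h : OC G r) (hna : ∃ x y : G, x * y ≠ y * x) {P : Subgroup G}
    (hP : IsPGroup r P)
    (hN : normalizer ((S : Subgroup G) : Set G) ≤ normalizer (P : Set G)) :
    (S : Subgroup G) ≤ centralizer (P : Set G) := by
  by_contra hne
  obtain ⟨B, hBS, hB, hBw⟩ := h.exists_weight hP S.isPGroup' (le_trans le_normalizer hN) hne
  have hall : ∀ n ∈ normalizer ((S : Subgroup G) : Set G), ∀ b ∈ B, n * b * n⁻¹ ∈ B := by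
    intro n hn b hb
    by_cases hc : n ∈ centralizer ((S : Subgroup G) : Set G)
    · rw [(mem_centralizer_iff.1 hc b (hBS.le hb)).symm, mul_inv_cancel_right]
      exact hb
    · obtain ⟨h1, h2, h3⟩ := h.sq_moving S hn hc
      have hn2 : n ^ 2 ∈ normalizer (B : Set G) :=
        hBw _ (hN (pow_mem hn 2)) (pow_mem hn 2) h2 h3
      have hn1 : n ≠ 1 := fun e => hc (e ▸ one_mem _)
      rcases h.ord n hn1 with hp | he
      · obtain ⟨k, hk⟩ := hp.odd_of_ne_two fun e =>
          hc (h.sylow_le_centralizer S (h.mem_sylow_of_involution S hn e))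
        have e : n = (n ^ 2) ^ (k + 1) := by
          rw [← pow_mul, show 2 * (k + 1) = orderOf n + 1 by omega, pow_succ, pow_orderOf_eq_one, one_mul]
        rw [e]
        exact (mem_normalizer_iff.1 (pow_mem hn2 _) b).1 hb
      · obtain ⟨k, hk⟩ := h.r_odd
        have hrS : n ^ r ∈ (S : Subgroup G) := mem_sylow_of_two_power S (k := 1) (pow_mem hn r)
          (by rw [← pow_mul, pow_one, mul_comm, ← he, pow_orderOf_eq_one])
        have e : n = ((n ^ 2) ^ k)⁻¹ * n ^ r := by
          rw [hk, ← pow_mul, pow_succ, inv_mul_cancel_left]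
        have hr : n ^ r * b * (n ^ r)⁻¹ = b := by
          rw [h.sylow_comm S hrS (hBS.le hb), mul_inv_cancel_right]
        have := (mem_normalizer_iff.1 (inv_mem (pow_mem hn2 k)) b).1 hb
        rw [e]
        convert this using 1
        conv_rhs => rw [← hr]
        group
  have hle : ⁅(S : Subgroup G), normalizer ((S : Subgroup G) : Set G)⁆ ≤ B := by
    rw [commutator_le]
    intro s hs n hn
    have hnS : n * s⁻¹ * n⁻¹ ∈ (S : Subgroup G) := (mem_normalizer_iff.1 hn _).1 (inv_mem hs)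
    have hsplit : ⁅s, n⁆ = s * (n * s⁻¹ * n⁻¹) := by rw [commutatorElement_def]; group
    rw [hsplit]
    by_cases hsB : s ∈ B
    · exact mul_mem hsB (hall n hn _ (inv_mem hsB))
    · refine hB s hs hsB _ hnS fun hm => hsB ?_
      have := hall n⁻¹ (inv_mem hn) _ hm
      rw [show n⁻¹ * (n * s⁻¹ * n⁻¹) * n⁻¹⁻¹ = s⁻¹ by group] at this
      exact inv_mem_iff.1 this
  exact hBS.not_ge ((h.sylow_le_commutator S hna).trans hle)

theorem OC.sylow_ne_bot (h : OC G r) (h2 : ∃ g : G, orderOf g = 2 * r) : (S : Subgroup G) ≠ ⊥ := by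
  haveI := Fact.mk Nat.prime_two
  obtain ⟨g, hg⟩ := h2
  exact S.ne_bot_of_dvd_card ((dvd_mul_right 2 r).trans (hg ▸ orderOf_dvd_natCard g))

theorem OC.exists_moving (h : OC G r) (hna : ∃ x y : G, x * y ≠ y * x)
    (h2 : ∃ g : G, orderOf g = 2 * r) :
    ∃ n ∈ normalizer ((S : Subgroup G) : Set G), n ∉ centralizer ((S : Subgroup G) : Set G) := by
  by_contra hno
  push Not at hno
  refine h.sylow_ne_bot S h2 (le_bot_iff.1 ((h.sylow_le_commutator S hna).trans ?_))
  rw [commutator_le]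
  intro s hs n hn
  rw [mem_bot, commutatorElement_eq_one_iff_mul_comm]
  exact mem_centralizer_iff.1 (hno n hn) s hs

/-- A Sylow 2-subgroup is not cyclic. -/
theorem OC.not_cyclic (h : OC G r) (hna : ∃ x y : G, x * y ≠ y * x)
    (h2 : ∃ g : G, orderOf g = 2 * r) : ¬ IsCyclic (S : Subgroup G) := by
  intro hc
  obtain ⟨n, hn, hnc⟩ := h.exists_moving S hna h2
  obtain ⟨g, hg⟩ := hc.exists_generator
  refine hnc (mem_centralizer_iff.2 fun s hs => ?_)
  have hall : ∀ x : G, x ∈ (S : Subgroup G) → x ≠ 1 → x = g := by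
    intro x hx hx1
    obtain ⟨k, hk⟩ := hg ⟨x, hx⟩
    have hk' : (g : G) ^ k = x := by simpa using congrArg Subtype.val hk
    have hg2 : (g : G) ^ (2 : ℤ) = 1 := by
      rw [zpow_two]; exact h.sq S.isPGroup' g.2
    rcases Int.emod_two_eq_zero_or_one k with e | e
    · refine absurd ?_ hx1
      rw [← hk', show k = 2 * (k / 2) by omega, zpow_mul, hg2, one_zpow]
    · rw [← hk', show k = 2 * (k / 2) + 1 by omega, zpow_add_one, zpow_mul, hg2, one_zpow, one_mul]
  by_cases hs1 : s = 1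
  · subst hs1; simp
  have h1 := hall s hs hs1
  have h3 := hall (n * s * n⁻¹) ((mem_normalizer_iff.1 hn s).1 hs) (fun e => hs1 (conj_eq_one_iff.1 e))
  rw [← h1, mul_inv_eq_iff_eq_mul] at h3
  exact h3.symm

end Cfsg.Agent.Recog.OneComp
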