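import Cfsg.Agent.Lib.Recog.OneComp.Inner
import Cfsg.Agent.Lib.Grp.CoprimeAbelian
import Cfsg.Agent.Lib.Grp.SignalizerTransitive

/-!
`r`-subgroups invariant under a Sylow 2-subgroup.
-/

set_option autoImplicit false
set_option linter.unusedSectionVars false

namespace Cfsg.Agent.Recog.OneComp

open Subgroup
open scoped Pointwise

variable {G : Type*} [Group G] [Finite G] {r : ℕ} (S : Sylow 2 G)

/-- An `r`-subgroup normalized by `S`. -/
def Inv (r : ℕ) (Y : Subgroup G) : Prop :=
  IsPGroup r Y ∧ (S : Subgroup G) ≤ normalizer (Y : Set G)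

/-- Every invariant `r`-subgroup is centralized by `S`. -/
def Good (r : ℕ) : Prop :=
  ∀ Y : Subgroup G, Inv S r Y → (S : Subgroup G) ≤ centralizer (Y : Set G)

theorem inf_normalizer_mem {A P X : Subgroup G} (hP : A ≤ normalizer (P : Set G))
    (hX : A ≤ normalizer (X : Set G)) : A ≤ normalizer ((P ⊓ X : Subgroup G) : Set G) := by
  intro a ha
  refine mem_normalizer_iff.2 fun x => ?_
  simp only [mem_inf, mem_normalizer_iff.1 (hP ha) x, mem_normalizer_iff.1 (hX ha) x]

theorem sup_normalizer_mem {A P X : Subgroup G} (hP : A ≤ normalizer (P : Set G))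
    (hX : A ≤ normalizer (X : Set G)) : A ≤ normalizer ((P ⊔ X : Subgroup G) : Set G) := by
  intro a ha
  rw [Grp.mem_normalizer_iff_smul, smul_sup, Grp.mem_normalizer_iff_smul.1 (hP ha),
    Grp.mem_normalizer_iff_smul.1 (hX ha)]

theorem le_normalizer_normalizer {A D : Subgroup G} (h : A ≤ normalizer (D : Set G)) :
    A ≤ normalizer ((normalizer (D : Set G) : Subgroup G) : Set G) :=
  le_trans h le_normalizer

theorem not_cyclic_of_two {A : Subgroup G} {x y : G} (hx : x ∈ A) (hy : y ∈ A) (hx1 : x ≠ 1)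
    (hy1 : y ≠ 1) (hxy : x ≠ y) (hx2 : x * x = 1) (hy2 : y * y = 1) : ¬ IsCyclic A := by
  intro hc
  haveI := hc
  classical
  haveI := Fintype.ofFinite A
  have := IsCyclic.card_pow_eq_one_le (α := A) (n := 2) (by norm_num)
  have h3 : ({1, ⟨x, hx⟩, ⟨y, hy⟩} : Finset A).card ≤ 2 := by
    refine le_trans (Finset.card_le_card ?_) this
    intro z hz
    rw [Finset.mem_filter]
    refine ⟨Finset.mem_univ _, Subtype.ext ?_⟩
    simp only [Finset.mem_insert, Finset.mem_singleton] at hz
    rcases hz with rfl | rfl | rfl <;> simp [pow_two, hx2, hy2]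
  rw [Finset.card_eq_three.2 ⟨1, ⟨x, hx⟩, ⟨y, hy⟩, fun e => hx1 (congrArg Subtype.val e).symm,
    fun e => hy1 (congrArg Subtype.val e).symm, fun e => hxy (congrArg Subtype.val e), rfl⟩] at h3
  omega

theorem Inv.conj {Y : Subgroup G} (hY : Inv S r Y) {n : G}
    (hn : n ∈ normalizer ((S : Subgroup G) : Set G)) :
    Inv S r (Y.map (MulAut.conj n).toMonoidHom) := by
  refine ⟨hY.1.map _, fun s hs => ?_⟩
  rw [Grp.mem_normalizer_iff_smul, Grp.map_conj_eq_smul, smul_smul, ← map_mul,
    show s * n = n * (n⁻¹ * s * n) by group, map_mul, mul_smul]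
  congr 1
  refine Grp.mem_normalizer_iff_smul.1 (hY.2 ?_)
  have := (mem_normalizer_iff.1 (inv_mem hn) s).1 hs
  rwa [inv_inv] at this

theorem exists_max {Y : Subgroup G} (hY : Inv S r Y) :
    ∃ P, Y ≤ P ∧ Maximal (Inv S r) P :=
  (Set.toFinite {P | Inv S r P}).exists_le_maximal hY

theorem OC.core_inv (h : OC G r) {X : Subgroup G}
    (hX : (S : Subgroup G) ≤ normalizer (X : Set G)) : Inv S r (core r X) :=
  ⟨core_pGroup r X, hX.trans (normalizer_le_core r X)⟩

theorem OC.inf_centralizer_le_core (h : OC G r) {Y : Subgroup G} (hY : Inv S r Y) {a : G}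
    (ha : a ∈ (S : Subgroup G)) (ha1 : a ≠ 1) :
    Y ⊓ centralizer ({a} : Set G) ≤ core r (centralizer ({a} : Set G)) := by
  have hao : orderOf a = 2 := orderOf_eq_prime (by rw [pow_two]; exact h.sq S.isPGroup' ha) ha1
  exact (h.local_core S (Or.inl hao) le_rfl (h.sylow_le_centralizer_singleton S ha)).1 _
    (hY.1.to_le inf_le_left) inf_le_right
    (inf_normalizer_mem hY.2 (le_trans (h.sylow_le_centralizer_singleton S ha) le_normalizer))

/-- Generation by the centralizers of the elements of a noncyclic subgroup of `S`. -/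
theorem OC.exists_fix_not_le (h : OC G r) {A : Subgroup G} (hA : A ≤ (S : Subgroup G))
    (hnc : ¬ IsCyclic A) {Y D : Subgroup G} (hY : IsPGroup r Y) (hAY : A ≤ normalizer (Y : Set G))
    (hYD : ¬ Y ≤ D) : ∃ a ∈ A, a ≠ 1 ∧ ¬ Y ⊓ centralizer ({a} : Set G) ≤ D := by
  haveI := Fact.mk h.hr
  haveI := Fact.mk Nat.prime_two
  haveI : IsMulCommutative A := h.two_comm (S.isPGroup'.to_le hA)
  by_contra hno
  push Not at hno
  refine hYD ?_
  rw [← Grp.generated_by_centralizers A Y hnc hAY
    (IsPGroup.coprime_card_of_ne 2 r (Ne.symm h.r2) A Y (S.isPGroup'.to_le hA) hY)]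
  exact iSup₂_le fun a ha => hno a ha.1 ha.2

/-- Two maximal invariant subgroups with a nontrivial (`C`) intersection coincide if growth over a common
subgroup can be joined locally. -/
theorem max_unique (hr : r.Prime) (C : Subgroup G → Prop) (hC : ∀ D D', C D → D ≤ D' → C D')
    (hloc : ∀ D P Q : Subgroup G, Inv S r D → C D → Inv S r P → Inv S r Q →
      P ≤ normalizer (D : Set G) → Q ≤ normalizer (D : Set G) → ¬ P ≤ D → ¬ Q ≤ D →
      ∃ E, Inv S r E ∧ E ≤ normalizer (D : Set G) ∧ ¬ P ⊓ E ≤ D ∧ ¬ Q ⊓ E ≤ D)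
    {P Q : Subgroup G} (hP : Maximal (Inv S r) P) (hQ : Maximal (Inv S r) Q) (hPQ : C (P ⊓ Q)) :
    P = Q := by
  haveI := Fact.mk hr
  suffices H : ∀ (n : ℕ) (P Q : Subgroup G), Maximal (Inv S r) P → Maximal (Inv S r) Q → C (P ⊓ Q) →
      Nat.card G - Nat.card ↥(P ⊓ Q) ≤ n → P = Q from H _ P Q hP hQ hPQ le_rfl
  intro n
  induction n using Nat.strong_induction_on with
  | _ n ih =>
    intro P Q hP hQ hD hn
    by_contra hne
    set D := P ⊓ Q with hDdef
    have hDP : D < P := lt_of_le_of_ne inf_le_left fun e =>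
      hne (hP.eq_of_le hQ.1 (inf_eq_left.1 e))
    have hDQ : D < Q := lt_of_le_of_ne inf_le_right fun e =>
      hne (hQ.eq_of_le hP.1 (inf_eq_right.1 e)).symm
    have hDI : Inv S r D := ⟨hP.1.1.to_le inf_le_left, inf_normalizer_mem hP.1.2 hQ.1.2⟩
    have hN := le_normalizer_normalizer hDI.2
    have hP1 := Grp.lt_inf_normalizer hP.1.1.isNilpotent hDP
    have hQ1 := Grp.lt_inf_normalizer hQ.1.1.isNilpotent hDQ
    obtain ⟨E, hE, hEN, hEP, hEQ⟩ := hloc D (P ⊓ normalizer (D : Set G)) (Q ⊓ normalizer (D : Set G))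
      hDI hD ⟨hP.1.1.to_le inf_le_left, inf_normalizer_mem hP.1.2 hN⟩
      ⟨hQ.1.1.to_le inf_le_left, inf_normalizer_mem hQ.1.2 hN⟩
      inf_le_right inf_le_right hP1.not_ge hQ1.not_ge
    obtain ⟨L, hL, hLm⟩ := exists_max S (Y := E ⊔ D)
      ⟨IsPGroup.to_sup_of_normal_right' hE.1 hDI.1 hEN, sup_normalizer_mem hE.2 hDI.2⟩
    have key : ∀ R : Subgroup G, Maximal (Inv S r) R → D ≤ R →
        ¬ (R ⊓ normalizer (D : Set G)) ⊓ E ≤ D → R = L := by
      intro R hR hDR hRE
      have hle : D < R ⊓ L := by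
        refine lt_of_le_of_ne (le_inf hDR (le_sup_right.trans hL)) fun e => hRE ?_
        rw [e]
        exact le_inf (inf_le_left.trans inf_le_left) (inf_le_right.trans (le_sup_left.trans hL))
      have hlt : Nat.card ↥D < Nat.card ↥(R ⊓ L) :=
        lt_of_le_of_ne (Nat.le_of_dvd Nat.card_pos (card_dvd_of_le hle.le))
          fun e => hle.ne (eq_of_le_of_card_ge hle.le e.ge)
      have := card_le_card_group (R ⊓ L)
      exact ih (Nat.card G - Nat.card ↥(R ⊓ L)) (by omega) R L hR hLm (hC D _ hD hle.le) le_rfl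
    exact hne ((key P hP inf_le_left hEP).trans (key Q hQ inf_le_right hEQ).symm)

variable [IsSimpleGroup G]

/-- If `S` has order at least eight, it centralizes every invariant `r`-subgroup. -/
theorem OC.good_of_large (h : OC G r) (hna : ∃ x y : G, x * y ≠ y * x)
    (h2 : ∃ g : G, orderOf g = 2 * r)
    (hbig : ∀ a ∈ (S : Subgroup G), ∀ b ∈ (S : Subgroup G), ∃ c ∈ (S : Subgroup G),
      c ≠ 1 ∧ c ≠ a ∧ c ≠ b ∧ c ≠ a * b) :
    Good S r := by
  classical
  haveI := Fact.mk h.hr
  have hnc := h.not_cyclic S hna h2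
  have hloc : ∀ D P Q : Subgroup G, Inv S r D → True → Inv S r P → Inv S r Q →
      P ≤ normalizer (D : Set G) → Q ≤ normalizer (D : Set G) → ¬ P ≤ D → ¬ Q ≤ D →
      ∃ E, Inv S r E ∧ E ≤ normalizer (D : Set G) ∧ ¬ P ⊓ E ≤ D ∧ ¬ Q ⊓ E ≤ D := by
    intro D P Q hD _ hP hQ hPD hQD hnP hnQ
    obtain ⟨a, ha, ha1, haP⟩ := h.exists_fix_not_le S le_rfl hnc hP.1 hP.2 hnP
    obtain ⟨x, hx, hx1, hxa, -, -⟩ := hbig a ha a ha
    obtain ⟨y, hy, hy1, hya, hyx, hyax⟩ := hbig a ha x hx
    set A' := Subgroup.closure ({x, y} : Set G) with hA'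
    have hA'S : A' ≤ (S : Subgroup G) := by
      rw [hA', closure_le]
      rintro z (rfl | rfl) <;> assumption
    have hxA : x ∈ A' := subset_closure (Or.inl rfl)
    have hyA : y ∈ A' := subset_closure (Or.inr rfl)
    have hA'nc := not_cyclic_of_two hxA hyA hx1 hy1 (Ne.symm hyx) (h.sq S.isPGroup' hx) (h.sq S.isPGroup' hy)
    have haA : a ∉ A' := by
      have hsub : ∀ z ∈ A', z = 1 ∨ z = x ∨ z = y ∨ z = x * y := by
        intro z hz
        induction hz using Subgroup.closure_induction with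
        | mem z hz => rcases hz with rfl | rfl <;> simp
        | one => simp
        | mul u v _ _ hu hv =>
          have e1 := h.sq S.isPGroup' hx
          have e2 := h.sq S.isPGroup' hy
          have e3 : y * x = x * y := h.sylow_comm S hy hx
          have e4 : y * (x * y) = x := by rw [← mul_assoc, e3, mul_assoc, e2, mul_one]
          have e5 : x * (x * y) = y := by rw [← mul_assoc, e1, one_mul]
          have e6 : (x * y) * x = y := by rw [mul_assoc, e3, e5]
          have e7 : (x * y) * y = x := by rw [mul_assoc, e2, mul_one]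
          have e8 : (x * y) * (x * y) = 1 := by rw [mul_assoc, e4, e1]
          rcases hu with rfl | rfl | rfl | rfl <;> rcases hv with rfl | rfl | rfl | rfl <;>
            simp [e1, e2, e3, e4, e5, e6, e7, e8]
        | inv u hu hu' =>
          have huS : u ∈ (S : Subgroup G) := by
            rcases hu' with rfl | rfl | rfl | rfl
            exacts [one_mem _, hx, hy, mul_mem hx hy]
          rwa [inv_eq_of_mul_eq_one_right (h.sq S.isPGroup' huS)]
      intro hm
      rcases hsub a hm with e | e | e | e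
      · exact ha1 e
      · exact hxa e.symm
      · exact hya e.symm
      · refine hyax ?_
        rw [e, mul_assoc, h.sylow_comm S hy hx, ← mul_assoc, h.sq S.isPGroup' hx, one_mul]
    obtain ⟨b, hb, hb1, hbP⟩ := h.exists_fix_not_le S hA'S hA'nc
      (hP.1.to_le inf_le_left)
      (inf_normalizer_mem (le_trans hA'S hP.2)
        (le_trans hA'S (le_trans (h.sylow_le_centralizer_singleton S ha) le_normalizer))) haP
    have hbS := hA'S hb
    have hab : a ≠ b := fun e => haA (e ▸ hb)
    set A := Subgroup.closure ({a, b} : Set G) with hAdef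
    have hAS : A ≤ (S : Subgroup G) := by
      rw [hAdef, closure_le]
      rintro z (rfl | rfl) <;> assumption
    have hAnc := not_cyclic_of_two (A := A) (subset_closure (Or.inl rfl)) (subset_closure (Or.inr rfl))
      ha1 hb1 hab (h.sq S.isPGroup' ha) (h.sq S.isPGroup' hbS)
    obtain ⟨c, hc, hc1, hcQ⟩ := h.exists_fix_not_le S hAS hAnc hQ.1 (le_trans hAS hQ.2) hnQ
    have hcS := hAS hc
    have hco : orderOf c = 2 := orderOf_eq_prime (by rw [pow_two]; exact h.sq S.isPGroup' hcS) hc1
    set X := centralizer ({c} : Set G) ⊓ normalizer (D : Set G) with hX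
    have hSX : (S : Subgroup G) ≤ X := le_inf (h.sylow_le_centralizer_singleton S hcS) hD.2
    have hSC : ∀ d ∈ (S : Subgroup G), (S : Subgroup G) ≤ normalizer ((centralizer ({d} : Set G) : Subgroup G) : Set G) :=
      fun d hd => le_trans (h.sylow_le_centralizer_singleton S hd) le_normalizer
    have hloc := (h.local_core S (Or.inl hco) (X := X) inf_le_left hSX).1
    refine ⟨core r X, h.core_inv S (le_trans hSX le_normalizer), le_trans (core_le r X) inf_le_right, ?_, ?_⟩
    · intro hle
      refine hbP (le_trans ?_ hle)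
      refine le_inf (le_trans inf_le_left inf_le_left) ?_
      refine hloc _ (hP.1.to_le (le_trans inf_le_left inf_le_left)) (le_inf ?_ ?_)
        (inf_normalizer_mem (inf_normalizer_mem hP.2 (hSC a ha)) (hSC b hbS))
      · intro z hz
        have h1 : A ≤ centralizer ({z} : Set G) := by
          rw [hAdef, closure_le]
          rintro w (rfl | rfl)
          · exact mem_centralizer_singleton_iff.2 (mem_centralizer_singleton_iff.1 hz.1.2).symm
          · exact mem_centralizer_singleton_iff.2 (mem_centralizer_singleton_iff.1 hz.2).symm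
        exact mem_centralizer_singleton_iff.2 (mem_centralizer_singleton_iff.1 (h1 hc)).symm
      · exact le_trans (le_trans inf_le_left inf_le_left) hPD
    · intro hle
      refine hcQ (le_trans ?_ hle)
      exact le_inf inf_le_left (hloc _ (hQ.1.to_le inf_le_left)
        (le_inf inf_le_right (le_trans inf_le_left hQD)) (inf_normalizer_mem hQ.2 (hSC c hcS)))
  intro Y hY
  obtain ⟨P, hYP, hP⟩ := exists_max S hY
  have hPN : normalizer ((S : Subgroup G) : Set G) ≤ normalizer (P : Set G) := by
    intro n hn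
    obtain ⟨Q, hQ, hQm⟩ := exists_max S (hP.1.conj S hn)
    have e := max_unique S h.hr (fun _ => True) (fun _ _ _ _ => trivial) hloc hP hQm trivial
    subst e
    rw [Grp.mem_normalizer_iff_smul, ← Grp.map_conj_eq_smul]
    exact eq_of_le_of_card_ge hQ (card_map_of_injective (MulAut.conj n).injective).ge
  exact le_trans (h.centralize_of_invariant S hna hP.1.1 hPN)
    (centralizer_le (by exact_mod_cast hYP))

end Cfsg.Agent.Recog.OneComp
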