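import Cfsg.Agent.Lib.Recog.OneComp.Fixed
import Cfsg.Agent.S0346

/-!
The action on the cosets of the strongly embedded normalizer.
-/

set_option autoImplicit false
set_option linter.unusedSectionVars false

namespace Cfsg.Agent.Recog.OneComp

open Subgroup
open scoped Pointwise

/-- A `q`-element normalizing a subgroup of order not congruent to one modulo `q` centralizes a nonidentity element. -/
theorem exists_comm {G : Type*} [Group G] [Finite G] {q : ℕ} [hq : Fact q.Prime] {H : Subgroup G} {y : G}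
    (hy : y ∈ normalizer (H : Set G)) (hyq : y ^ q = 1) (hH : ¬ Nat.card H ≡ 1 [MOD q]) :
    ∃ z ∈ H, z ≠ 1 ∧ y * z = z * y := by
  let act : MulAction (zpowers y) ↥H :=
    MulAction.compHom _ (H.normalizerMonoidHom.comp (inclusion (zpowers_le.2 hy)))
  have hP : IsPGroup q (zpowers y) := by
    rintro ⟨w, j, rfl⟩
    refine ⟨1, Subtype.ext ?_⟩
    simp only [SubmonoidClass.coe_pow, OneMemClass.coe_one, pow_one]
    rw [← zpow_natCast, ← zpow_mul, mul_comm, zpow_mul, zpow_natCast, hyq, one_zpow]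
  by_contra hno
  push Not at hno
  refine hH ((hP.card_modEq_card_fixedPoints ↥H).trans ?_)
  have h1 : MulAction.fixedPoints (zpowers y) ↥H = {1} := by
    refine Set.eq_singleton_iff_unique_mem.2 ⟨fun w => ?_, fun z hz => ?_⟩
    · exact map_one (H.normalizerMonoidHom (inclusion (zpowers_le.2 hy) w))
    · by_contra hz1
      have h2 : y * (z : G) * y⁻¹ = z := congrArg Subtype.val (hz ⟨y, mem_zpowers y⟩)
      exact hno z z.2 (fun e => hz1 (Subtype.ext e)) (mul_inv_eq_iff_eq_mul.1 h2)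
  rw [h1]
  simp [Nat.ModEq]

variable {G : Type*} [Group G] [Finite G] [IsSimpleGroup G] {r p : ℕ} {S : Sylow 2 G} {M : Subgroup G}
  {u x : G}

/-- A swapping involution with an element of the two-point stabiliser moving `S`. -/
structure Two (S : Sylow 2 G) (r p : ℕ) (M : Subgroup G) (u x : G) : Prop where
  ctx : Ctx S r p M
  hu : orderOf u = 2
  huN : u ∉ normalizer ((S : Subgroup G) : Set G)
  hx : x ∈ M
  hxu : u⁻¹ * x * u ∈ normalizer ((S : Subgroup G) : Set G)
  hxC : x ∉ centralizer ((S : Subgroup G) : Set G)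

theorem Ctx.exists_two (K : Ctx S r p M) : ∃ u x, Two S r p M u x := by
  obtain ⟨g, hg⟩ : ∃ g, g ∉ normalizer ((S : Subgroup G) : Set G) := by
    by_contra hno
    push Not at hno
    exact K.se.1 (top_le_iff.1 fun g _ => hno g)
  obtain ⟨u, hu, huN, -⟩ := K.exists_swap hg
  obtain ⟨x, hx, hxu, hxC⟩ := K.exists_moving_M hu huN
  exact ⟨u, x, K, hu, huN, hx, hxu, hxC⟩

theorem Two.x_ne (h : Two S r p M u x) : x ≠ 1 := fun e => h.hxC (e ▸ one_mem _)

theorem Two.x_order (h : Two S r p M u x) : orderOf x = p :=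
  (h.ctx.mem_zpowers_of_mem h.hu h.huN h.hx h.hxu h.x_ne h.hx h.hxu).1

theorem Two.zpowers_fix (h : Two S r p M u x) {z : G} (hz : z ∈ zpowers x) :
    z ∈ M ∧ u⁻¹ * z * u ∈ normalizer ((S : Subgroup G) : Set G) := by
  obtain ⟨k, rfl⟩ := hz
  refine ⟨zpow_mem h.hx k, ?_⟩
  dsimp only
  rw [show u⁻¹ * x ^ k * u = (u⁻¹ * x * u) ^ k by
    rw [show u⁻¹ * x * u = u⁻¹ * x * u⁻¹⁻¹ by rw [inv_inv], conj_zpow, inv_inv]]
  exact zpow_mem h.hxu k

/-- An element of `N` normalizing `D ∩ M` lies in `D`. -/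
theorem Two.fix_swap (h : Two S r p M u x) {n : G} (hn : n ∈ normalizer ((S : Subgroup G) : Set G))
    (hnx : n⁻¹ * x * n ∈ zpowers x) : u⁻¹ * n * u ∈ normalizer ((S : Subgroup G) : Set G) := by
  have h1 : (n * u)⁻¹ * x * (n * u) ∈ normalizer ((S : Subgroup G) : Set G) := by
    rw [show (n * u)⁻¹ * x * (n * u) = u⁻¹ * (n⁻¹ * x * n) * u by group]
    exact (h.zpowers_fix hnx).2
  rcases h.ctx.fix_two h.hu h.huN h.hx h.hxu h.x_ne h1 with h2 | h2
  · exact absurd (by simpa using mul_mem (inv_mem hn) h2) h.huN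
  · rwa [mul_assoc]

/-- `C(S)` meets the centralizer of `x` trivially. -/
theorem Two.cent_trivial (h : Two S r p M u x) {z : G} (hz : z ∈ centralizer ((S : Subgroup G) : Set G))
    (hzx : z * x = x * z) : z = 1 :=
  h.ctx.core_trivial h.hu h.huN hz (h.fix_swap (centralizer_le_normalizer' S hz) (by
    rw [mul_assoc, ← hzx, inv_mul_cancel_left]; exact mem_zpowers x))

theorem Ctx.r_element_mem (K : Ctx S r p M) {y t : G} (hy : y ∈ M) (hyo : orderOf y = r)
    (ht : t ∈ (S : Subgroup G)) (ht1 : t ≠ 1) (hc : y * t = t * y) :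
    wSub r S ≠ ⊥ := by
  intro hW
  have : y ∈ wSub r S := (K.oc.mem_wSub_iff S K.sylow_ne_bot).2
    ⟨K.hend.fpf y hy t ht ht1 hc, by rw [← hyo, pow_orderOf_eq_one]⟩
  rw [hW, mem_bot] at this
  rw [this, orderOf_one] at hyo
  exact K.oc.hr.one_lt.ne hyo

theorem card_not_one_mod {q : ℕ} [hq : Fact q.Prime] {H : Subgroup G} (hH : IsPGroup q H) (hH1 : H ≠ ⊥) :
    ¬ Nat.card H ≡ 1 [MOD q] := by
  obtain ⟨k, hk⟩ := IsPGroup.iff_card.1 hH
  rw [hk]
  intro he
  rcases k with _ | k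
  · exact hH1 (card_eq_one.1 hk)
  · rw [Nat.ModEq, Nat.mod_eq_zero_of_dvd, Nat.mod_eq_of_lt hq.out.one_lt] at he
    · exact zero_ne_one he
    · exact dvd_pow_self q k.succ_ne_zero

theorem Two.p_ne_r (h : Two S r p M u x) : r ≠ p := by
  intro hrp
  have K := h.ctx
  haveI := Fact.mk K.oc.hr
  have hall := K.hend.cases.resolve_right fun hh => hh.1 hrp
  obtain ⟨y, hy, hyo, t, ht, ht1, hc⟩ := K.oc.exists_fixing S K.hna K.h2 K.good
  have hW := K.r_element_mem (hall y hy) hyo ht ht1 hc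
  obtain ⟨z, hz, hz1, hzc⟩ := exists_comm (q := r) (y := x)
    (K.oc.normalizer_le_wSub S (K.hend.le h.hx)) (by rw [hrp, ← h.x_order, pow_orderOf_eq_one])
    (card_not_one_mod (core_pGroup r _) hW)
  exact hz1 (h.cent_trivial (core_le _ _ hz) hzc.symm)

theorem Two.not_dvd_card_cent (h : Two S r p M u x) :
    ¬ p ∣ Nat.card (centralizer ((S : Subgroup G) : Set G)) := by
  intro hd
  have K := h.ctx
  obtain ⟨t, ht, ht1⟩ := (bot_or_exists_ne_one _).resolve_left K.sylow_ne_bot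
  rcases K.oc.primes_centralizer (Or.inl (K.oc.orderOf_sylow S ht ht1))
    (centralizer_le (Set.singleton_subset_iff.2 ht)) K.hend.prime hd with e | e
  · exact K.hend.odd e
  · exact h.p_ne_r e.symm

theorem Two.card_M (h : Two S r p M u x) :
    Nat.card M = Nat.card (centralizer ((S : Subgroup G) : Set G)) * p := by
  have := card_mul_index ((centralizer ((S : Subgroup G) : Set G)).subgroupOf M)
  rw [Nat.card_congr (subgroupOfEquivOfLe h.ctx.hend.cent_le).toEquiv] at this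
  rw [← this, ← h.ctx.hend.rel]
  rfl

/-- Elements of order `p` of `M` are conjugate into `⟨x⟩`. -/
theorem Two.sylow_conj (h : Two S r p M u x) {a : G} (ha : a ∈ M) (hao : orderOf a = p) :
    ∃ m ∈ M, m * a * m⁻¹ ∈ zpowers x ∧ x ∈ zpowers (m * a * m⁻¹) := by
  classical
  haveI := Fact.mk h.ctx.hend.prime
  have hf : (Nat.card M).factorization p = 1 := by
    rw [h.card_M, Nat.factorization_mul Nat.card_pos.ne' h.ctx.hend.prime.ne_zero, Finsupp.add_apply,
      Nat.factorization_eq_zero_of_not_dvd h.not_dvd_card_cent, h.ctx.hend.prime.factorization_self, zero_add]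
  have hc : ∀ (b : G) (hb : b ∈ M), orderOf b = p →
      Nat.card (zpowers (⟨b, hb⟩ : ↥M)) = p ^ (Nat.card M).factorization p := by
    intro b hb hbo
    rw [Nat.card_zpowers, orderOf_mk, hbo, hf, pow_one]
  obtain ⟨m, hm⟩ := MulAction.exists_smul_eq (↥M) (Sylow.ofCard _ (hc a ha hao))
    (Sylow.ofCard _ (hc x h.hx h.x_order))
  have he : (⟨(m : G) * a * (m : G)⁻¹, mul_mem (mul_mem m.2 ha) (inv_mem m.2)⟩ : ↥M) ∈
      zpowers (⟨x, h.hx⟩ : ↥M) := by
    have h1 := congrArg Sylow.toSubgroup hm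
    rw [Sylow.smul_def, Sylow.pointwise_smul_def, Sylow.coe_ofCard, Sylow.coe_ofCard] at h1
    rw [← h1]
    have h2 := smul_mem_pointwise_smul (⟨a, ha⟩ : ↥M) (MulAut.conj m) (zpowers (⟨a, ha⟩ : ↥M))
      (mem_zpowers _)
    rwa [MulAut.smul_def, MulAut.conj_apply] at h2
  have he' : (m : G) * a * (m : G)⁻¹ ∈ zpowers x := by
    obtain ⟨k, hk⟩ := he
    exact ⟨k, by simpa using congrArg Subtype.val hk⟩
  refine ⟨m, m.2, he', ?_⟩
  have heq : zpowers ((m : G) * a * (m : G)⁻¹) = zpowers x := eq_of_le_of_card_ge (zpowers_le.2 he') (by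
    rw [Nat.card_zpowers, Nat.card_zpowers, Invol.orderOf_conj_eq, hao, h.x_order])
  rw [heq]
  exact mem_zpowers x

/-- Every point other than the base point is moved to `uN` by `M`. -/
theorem Two.to_base (h : Two S r p M u x) {g : G} (hg : g ∉ normalizer ((S : Subgroup G) : Set G)) :
    ∃ n ∈ M, u⁻¹ * (n * g) ∈ normalizer ((S : Subgroup G) : Set G) := by
  have K := h.ctx
  obtain ⟨v, hv, hvN, hvg⟩ := K.exists_swap hg
  obtain ⟨a, ha, hav, haC⟩ := K.exists_moving_M hv hvN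
  have hao := (K.mem_zpowers_of_mem hv hvN ha hav (fun e => haC (e ▸ one_mem _)) ha hav).1
  obtain ⟨m, hm, -, hxm⟩ := h.sylow_conj ha hao
  have h1 : (m * v)⁻¹ * x * (m * v) ∈ normalizer ((S : Subgroup G) : Set G) := by
    obtain ⟨k, hk⟩ := hxm
    rw [← hk]
    dsimp only
    rw [conj_zpow, show (m * v)⁻¹ * (m * a ^ k * m⁻¹) * (m * v) = v⁻¹ * a ^ k * v by group,
      show v⁻¹ * a ^ k * v = (v⁻¹ * a * v) ^ k by
        rw [show v⁻¹ * a * v = v⁻¹ * a * v⁻¹⁻¹ by rw [inv_inv], conj_zpow, inv_inv]]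
    exact zpow_mem hav k
  rcases K.fix_two h.hu h.huN h.hx h.hxu h.x_ne h1 with h2 | h2
  · exact absurd (by simpa using mul_mem (inv_mem (K.hend.le hm)) h2) hvN
  · refine ⟨m, hm, ?_⟩
    rw [show u⁻¹ * (m * g) = u⁻¹ * (m * v) * (v⁻¹ * g) by group]
    exact mul_mem h2 hvg

theorem Two.decomp (h : Two S r p M u x) {m : G} (hm : m ∈ M) :
    ∃ c ∈ centralizer ((S : Subgroup G) : Set G), ∃ z ∈ zpowers x, m = c * z := by
  have K := h.ctx
  let f : ↥(centralizer ((S : Subgroup G) : Set G)) × ↥(zpowers x) → ↥M := fun cz =>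
    ⟨(cz.1 : G) * (cz.2 : G), mul_mem (K.hend.cent_le cz.1.2) (h.zpowers_fix cz.2.2).1⟩
  have hf : Function.Injective f := by
    intro a b hab
    have h1 : (a.1 : G) * (a.2 : G) = (b.1 : G) * (b.2 : G) := congrArg Subtype.val hab
    have h2 : (b.1 : G)⁻¹ * a.1 = (b.2 : G) * (a.2 : G)⁻¹ := by
      rw [inv_mul_eq_iff_eq_mul, ← mul_assoc, ← h1, mul_inv_cancel_right]
    have h3 : (b.1 : G)⁻¹ * a.1 = 1 := K.core_trivial h.hu h.huN (mul_mem (inv_mem b.1.2) a.1.2)
      (h2 ▸ (h.zpowers_fix (mul_mem b.2.2 (inv_mem a.2.2))).2)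
    have h4 : (b.1 : G) = a.1 := inv_mul_eq_one.1 h3
    rw [← h4] at h1
    exact Prod.ext (Subtype.ext h4.symm) (Subtype.ext (mul_left_cancel h1))
  have hb := (Nat.bijective_iff_injective_and_card f).2 ⟨hf, by
    rw [Nat.card_prod, Nat.card_zpowers, h.x_order, h.card_M]⟩
  obtain ⟨⟨c, z⟩, hcz⟩ := hb.2 ⟨m, hm⟩
  exact ⟨c, c.2, z, z.2, (congrArg Subtype.val hcz).symm⟩

/-- Every point other than the base point is `c u N` for some `c ∈ C(S)`. -/
theorem Two.exists_cent (h : Two S r p M u x) {g : G} (hg : g ∉ normalizer ((S : Subgroup G) : Set G)) :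
    ∃ c ∈ centralizer ((S : Subgroup G) : Set G),
      (c * u)⁻¹ * g ∈ normalizer ((S : Subgroup G) : Set G) := by
  obtain ⟨n, hn, hng⟩ := h.to_base hg
  obtain ⟨c, hc, z, hz, hcz⟩ := h.decomp (inv_mem hn)
  refine ⟨c, hc, ?_⟩
  have : (c * u)⁻¹ * g = (u⁻¹ * z * u) * (u⁻¹ * (n * g)) := by
    rw [show g = n⁻¹ * (n * g) by group]
    rw [show n * (n⁻¹ * (n * g)) = n * g by group, hcz]
    group
  rw [this]
  exact mul_mem (h.zpowers_fix hz).2 hng

theorem Two.card_points (h : Two S r p M u x) :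
    Nat.card (G ⧸ normalizer ((S : Subgroup G) : Set G)) =
      Nat.card (centralizer ((S : Subgroup G) : Set G)) + 1 := by
  set N := normalizer ((S : Subgroup G) : Set G) with hN
  let f : Option ↥(centralizer ((S : Subgroup G) : Set G)) → G ⧸ N := fun o =>
    o.elim (QuotientGroup.mk 1) fun c => QuotientGroup.mk ((c : G) * u)
  have hf : Function.Bijective f := by
    constructor
    · rintro (_ | a) (_ | b) hab
      · rfl
      · have h1 : (1 : G)⁻¹ * ((b : G) * u) ∈ N := QuotientGroup.eq.1 hab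
        rw [inv_one, one_mul] at h1
        exact absurd (by simpa using mul_mem (inv_mem (centralizer_le_normalizer' S b.2)) h1) h.huN
      · have h1 : ((a : G) * u)⁻¹ * 1 ∈ N := QuotientGroup.eq.1 hab
        rw [mul_one, inv_mem_iff] at h1
        exact absurd (by simpa using mul_mem (inv_mem (centralizer_le_normalizer' S a.2)) h1) h.huN
      · have h1 : ((a : G) * u)⁻¹ * ((b : G) * u) ∈ N := QuotientGroup.eq.1 hab
        have h2 := h.ctx.core_trivial h.hu h.huN (mul_mem (inv_mem a.2) b.2)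
          (by rwa [show u⁻¹ * ((a : G)⁻¹ * b) * u = ((a : G) * u)⁻¹ * ((b : G) * u) by group])
        exact congrArg some (Subtype.ext (inv_mul_eq_one.1 h2))
    · intro a
      obtain ⟨g, rfl⟩ := QuotientGroup.mk_surjective a
      by_cases hg : g ∈ N
      · exact ⟨none, QuotientGroup.eq.2 (by simpa using hg)⟩
      · obtain ⟨c, hc, hcg⟩ := h.exists_cent hg
        exact ⟨some ⟨c, hc⟩, QuotientGroup.eq.2 hcg⟩
  rw [← Nat.card_congr (Equiv.ofBijective f hf), Finite.card_option]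

theorem Two.orbit_inj (h : Two S r p M u x) {t z : G} (ht : t ∈ (S : Subgroup G)) (ht1 : t ≠ 1)
    (hz : z ∈ zpowers x) (hc : z * t = t * z) : z = 1 :=
  h.ctx.core_trivial h.hu h.huN (h.ctx.hend.fpf z (h.zpowers_fix hz).1 t ht ht1 hc) (h.zpowers_fix hz).2

/-- `⟨x⟩` is transitive on the involutions of `S`. -/
theorem Two.orbit_t (h : Two S r p M u x) {t s : G} (ht : t ∈ (S : Subgroup G)) (ht1 : t ≠ 1)
    (hs : s ∈ (S : Subgroup G)) (hs1 : s ≠ 1) : ∃ z ∈ zpowers x, z * t * z⁻¹ = s := by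
  classical
  let f : ↥(zpowers x) → {s : (S : Subgroup G) // (s : G) ≠ 1} := fun z =>
    ⟨⟨(z : G) * t * (z : G)⁻¹, conj_mem_zero S (h.ctx.hend.le (h.zpowers_fix z.2).1) ht⟩,
      fun e => ht1 (conj_eq_one_iff.1 e)⟩
  have hf : Function.Injective f := by
    intro a b hab
    have h1 : (a : G) * t * (a : G)⁻¹ = (b : G) * t * (b : G)⁻¹ :=
      congrArg Subtype.val (congrArg Subtype.val hab)
    refine Subtype.ext (inv_mul_eq_one.1 (h.orbit_inj ht ht1 (mul_mem (inv_mem b.2) a.2) ?_)).symm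
    calc (b : G)⁻¹ * a * t = (b : G)⁻¹ * ((a : G) * t * (a : G)⁻¹) * a := by group
      _ = (b : G)⁻¹ * ((b : G) * t * (b : G)⁻¹) * a := by rw [h1]
      _ = _ := by group
  have hb := (Nat.bijective_iff_injective_and_card f).2 ⟨hf, by
    rw [Nat.card_zpowers, h.x_order, card_ne_one, h.ctx.hend.card]; omega⟩
  obtain ⟨z, hz⟩ := hb.2 ⟨⟨s, hs⟩, hs1⟩
  exact ⟨z, z.2, congrArg Subtype.val (congrArg Subtype.val hz)⟩

/-- If `N = M` the action is Zassenhaus, which is impossible. -/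
theorem Two.not_all (h : Two S r p M u x) :
    ¬ ∀ n ∈ normalizer ((S : Subgroup G) : Set G), n ∈ M := by
  classical
  intro hall
  have K := h.ctx
  set N := normalizer ((S : Subgroup G) : Set G) with hN
  haveI := Fintype.ofFinite (G ⧸ N)
  set α : G ⧸ N := QuotientGroup.mk 1 with hα
  set β : G ⧸ N := QuotientGroup.mk u with hβ
  have hαβ : α ≠ β := fun e => h.huN (by
    have h9 := QuotientGroup.eq.1 e
    rwa [inv_one, one_mul] at h9)
  have hfix : ∀ g : G, g • α = α ↔ g ∈ N := by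
    intro g
    rw [hα, Invol.smul_coset_eq_iff, inv_one, one_mul, mul_one]
  have hbase : ∀ a b : G ⧸ N, a ≠ b → ∃ k : G, k • a = α ∧ k • b = β := by
    intro a b hab
    obtain ⟨g, rfl⟩ := QuotientGroup.mk_surjective a
    obtain ⟨g', rfl⟩ := QuotientGroup.mk_surjective b
    obtain ⟨n, hn, hng⟩ := h.to_base (g := g⁻¹ * g') fun hm => hab (QuotientGroup.eq.2 hm)
    refine ⟨n * g⁻¹, ?_, ?_⟩
    · rw [hα, MulAction.Quotient.smul_mk, smul_eq_mul, QuotientGroup.eq, inv_mul_cancel_right, mul_one,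
        inv_mem_iff]
      exact K.hend.le hn
    · rw [hβ, MulAction.Quotient.smul_mk, smul_eq_mul]
      refine (QuotientGroup.eq.2 ?_).symm
      rwa [mul_assoc]
  have hZ : Cfsg.IsZassenhausGroup G (G ⧸ N) := by
    refine ⟨⟨fun {g g'} hgg => ?_⟩, ?_, ?_, ?_, ?_⟩
    · have h1 : g⁻¹ * g' ∈ N.normalCore := fun b => by
        have := hgg (QuotientGroup.mk b⁻¹ : G ⧸ N)
        rw [MulAction.Quotient.smul_mk, MulAction.Quotient.smul_mk, smul_eq_mul, smul_eq_mul,
          QuotientGroup.eq] at this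
        rwa [show b * (g⁻¹ * g') * b⁻¹ = (g * b⁻¹)⁻¹ * (g' * b⁻¹) by group]
      have h2 : N.normalCore = ⊥ := (Subgroup.normalCore_normal N).eq_bot_or_eq_top.resolve_right
        fun e => K.se.1 (top_le_iff.1 (e ▸ normalCore_le N))
      rw [h2, mem_bot, inv_mul_eq_one] at h1
      exact h1
    · rw [MulAction.is_two_pretransitive_iff]
      intro a b c d hab hcd
      obtain ⟨k, hk1, hk2⟩ := hbase a b hab
      obtain ⟨l, hl1, hl2⟩ := hbase c d hcd
      exact ⟨l⁻¹ * k, by rw [mul_smul, hk1, ← hl1, inv_smul_smul], by rw [mul_smul, hk2, ← hl2, inv_smul_smul]⟩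
    · intro g a b c hab hbc hac ha hb hc
      obtain ⟨k, hk1, hk2⟩ := hbase a b hab
      set g' := k * g * k⁻¹ with hg'
      have hmv : ∀ w : G ⧸ N, g • w = w → g' • (k • w) = k • w := fun w hw => by
        rw [hg', mul_smul, mul_smul, inv_smul_smul, hw]
      have h1 : g' • α = α := hk1 ▸ hmv a ha
      have h2 : g' • β = β := hk2 ▸ hmv b hb
      have h3 := hmv c hc
      obtain ⟨w, hw⟩ := QuotientGroup.mk_surjective (k • c)
      rw [← hw, Invol.smul_coset_eq_iff] at h3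
      by_contra hg1
      have hg'1 : g' ≠ 1 := fun e => hg1 (conj_eq_one_iff.1 e)
      rcases K.fix_two h.hu h.huN (hall g' ((hfix g').1 h1)) (Invol.smul_coset_eq_iff.1 h2) hg'1 h3 with e | e
      · refine hac ((smul_left_cancel_iff k).1 ?_)
        rw [hk1, ← hw, hα, QuotientGroup.eq, inv_one, one_mul]
        exact e
      · refine hbc ((smul_left_cancel_iff k).1 ?_)
        rw [hk2, ← hw, hβ, QuotientGroup.eq]
        exact e
    · exact ⟨x, h.x_ne, α, β, hαβ, (hfix x).2 (K.hend.le h.hx), Invol.smul_coset_eq_iff.2 h.hxu⟩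
    · intro Nn hn htr
      refine ⟨α, fun hbot => ?_⟩
      rcases hn.eq_bot_or_eq_top with e | e
      · subst e
        obtain ⟨g, hg⟩ := htr.exists_smul_eq α β
        have h9 : (g : G) • α = β := hg
        rw [mem_bot.1 g.2, one_smul] at h9
        exact hαβ h9
      · subst e
        have : (⟨x, mem_top x⟩ : ↥(⊤ : Subgroup G)) ∈ MulAction.stabilizer ↥(⊤ : Subgroup G) α :=
          (hfix x).2 (K.hend.le h.hx)
        exact h.x_ne (congrArg Subtype.val (mem_bot.1 (hbot.le this)))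
  have hpp := Cfsg.Agent.S0346.result hZ
  rw [← Nat.card_eq_fintype_card, h.card_points, Nat.add_sub_cancel] at hpp
  obtain ⟨q, -, hq⟩ := isPrimePow_iff_unique_prime_dvd.1 hpp
  obtain ⟨t, ht, ht1⟩ := (bot_or_exists_ne_one _).resolve_left K.sylow_ne_bot
  obtain ⟨y, hy, hyo, t', ht', ht'1, hc⟩ := K.oc.exists_fixing S K.hna K.h2 K.good
  have hd : ∀ a ∈ centralizer ((S : Subgroup G) : Set G),
      orderOf a ∣ Nat.card (centralizer ((S : Subgroup G) : Set G)) := fun a ha =>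
    orderOf_mk a ha ▸ orderOf_dvd_natCard _
  have e2 := hq 2 ⟨Nat.prime_two, by
    have := hd t (K.oc.sylow_le_centralizer S ht)
    rwa [K.oc.orderOf_sylow S ht ht1] at this⟩
  have er := hq r ⟨K.oc.hr, by rw [← hyo]; exact hd y (K.hend.fpf y (hall y hy) t' ht' ht'1 hc)⟩
  exact K.oc.r2 (er.trans e2.symm)

end Cfsg.Agent.Recog.OneComp
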