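import Cfsg.Agent.Lib.Recog.OneComp.Invariant
import Cfsg.Agent.Lib.Recog.OneComp.AutStr
import Cfsg.Agent.Lib.Invol.StronglyEmbeddedCount

/-!
When the Sylow 2-subgroup centralizes every invariant `r`-subgroup, its normalizer is strongly embedded;
the structure of its automizer.
-/

set_option autoImplicit false
set_option linter.unusedSectionVars false

namespace Cfsg.Agent.Recog.OneComp

open Subgroup
open scoped Pointwise commutatorElement

variable {G : Type*} [Group G] [Finite G] {r : ℕ} (S : Sylow 2 G)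

theorem conj_mem_zero {n : G} {s : G} (hn : n ∈ normalizer ((S : Subgroup G) : Set G))
    (hs : s ∈ (S : Subgroup G)) : n * s * n⁻¹ ∈ (S : Subgroup G) :=
  (mem_normalizer_iff.1 hn s).1 hs

theorem OC.orderOf_sylow (h : OC G r) {a : G} (ha : a ∈ (S : Subgroup G)) (ha1 : a ≠ 1) :
    orderOf a = 2 :=
  haveI := Fact.mk Nat.prime_two
  orderOf_eq_prime (by rw [pow_two]; exact h.sq S.isPGroup' ha) ha1

/-- The centralizer of an involution or an `r`-element commuting with `S` normalizes `S`. -/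
theorem OC.centralizer_le (h : OC G r) (hG : Good S r) {z : G} (hz : orderOf z = 2 ∨ orderOf z = r)
    (hS : (S : Subgroup G) ≤ centralizer ({z} : Set G)) :
    centralizer ({z} : Set G) ≤ normalizer ((S : Subgroup G) : Set G) := by
  intro x hx
  obtain ⟨-, hdec⟩ := h.local_core S hz le_rfl hS
  obtain ⟨o, ho, n, -, hn, rfl⟩ := hdec x hx
  have hOC := hG _ (h.core_inv (r := r) S (le_trans hS le_normalizer))
  exact mul_mem (centralizer_le_normalizer' S (mem_centralizer_iff.2 fun s hs =>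
    (mem_centralizer_iff.1 (hOC hs) o ho).symm)) hn

theorem OC.centralizer_inv_le (h : OC G r) (hG : Good S r) {a : G} (ha : a ∈ (S : Subgroup G))
    (ha1 : a ≠ 1) : centralizer ({a} : Set G) ≤ normalizer ((S : Subgroup G) : Set G) :=
  h.centralizer_le S hG (Or.inl (h.orderOf_sylow S ha ha1)) (h.sylow_le_centralizer_singleton S ha)

/-- An element of `C(S)` of order `r` has its centralizer in `N(S)`. -/
theorem OC.centralizer_cent_le (h : OC G r) (hG : Good S r) {z : G}
    (hz : z ∈ centralizer ((S : Subgroup G) : Set G)) (hzo : orderOf z = r) :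
    centralizer ({z} : Set G) ≤ normalizer ((S : Subgroup G) : Set G) :=
  h.centralizer_le S hG (Or.inr hzo) fun s hs =>
    mem_centralizer_singleton_iff.2 (mem_centralizer_iff.1 hz s hs)

/-- Elements of odd order of `C(S)` have exponent `r`. -/
theorem OC.pow_r_of_odd (h : OC G r) (hS1 : (S : Subgroup G) ≠ ⊥) {c : G}
    (hc : c ∈ centralizer ((S : Subgroup G) : Set G)) (ho : Odd (orderOf c)) : c ^ r = 1 := by
  rcases eq_or_ne c 1 with rfl | hc1
  · exact one_pow r
  obtain ⟨a, ha, ha1⟩ := (bot_or_exists_ne_one _).resolve_left hS1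
  have hp := h.prime_of_odd hc1 ho
  have := h.comm_orders (x := a) (mem_centralizer_iff.1 hc a ha) (h.orderOf_sylow S ha ha1) rfl
    Nat.prime_two hp (fun e => by
      rw [← e] at ho
      exact absurd ho (by decide))
  rw [← Nat.eq_of_mul_eq_mul_left (by norm_num) this, pow_orderOf_eq_one]

variable [IsSimpleGroup G]

theorem OC.normalizer_ne_top (h : OC G r) (hna : ∃ x y : G, x * y ≠ y * x)
    (h2 : ∃ g : G, orderOf g = 2 * r) : normalizer ((S : Subgroup G) : Set G) ≠ ⊤ := by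
  intro e
  have hn : (S : Subgroup G).Normal := normalizer_eq_top_iff.1 e
  rcases hn.eq_bot_or_eq_top with h1 | h1
  · exact h.sylow_ne_bot S h2 h1
  · obtain ⟨x, y, hxy⟩ := hna
    exact hxy (h.sylow_comm S (h1 ▸ mem_top x) (h1 ▸ mem_top y))

theorem OC.strongly_embedded (h : OC G r) (hna : ∃ x y : G, x * y ≠ y * x)
    (h2 : ∃ g : G, orderOf g = 2 * r) (hG : Good S r) :
    Cfsg.IsStronglyEmbedded (normalizer ((S : Subgroup G) : Set G)) := by
  haveI := Fact.mk Nat.prime_two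
  obtain ⟨a, ha, ha1⟩ := (bot_or_exists_ne_one _).resolve_left (h.sylow_ne_bot S h2)
  have heven : Even (Nat.card (normalizer ((S : Subgroup G) : Set G))) := by
    have := orderOf_dvd_natCard (⟨a, le_normalizer ha⟩ : ↥(normalizer ((S : Subgroup G) : Set G)))
    rw [orderOf_mk, h.orderOf_sylow S ha ha1] at this
    exact even_iff_two_dvd.2 this
  refine (Invol.isStronglyEmbedded_iff (h.normalizer_ne_top S hna h2) heven).2 fun t ht ht2 g hg => ?_
  have htS := h.mem_sylow_of_involution S ht ht2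
  have ht' : g⁻¹ * t * g ∈ (S : Subgroup G) := h.mem_sylow_of_involution S hg (by
    rw [← ht2, show g⁻¹ * t * g = g⁻¹ * t * g⁻¹⁻¹ by rw [inv_inv]]
    exact Invol.orderOf_conj_eq g⁻¹ t)
  obtain ⟨n, hn, hne⟩ := Transfer.exists_normalizer_conj_of_abelian S (h.two_comm S.isPGroup') (g := g⁻¹) htS
    (by rw [inv_inv]; exact ht')
  rw [inv_inv] at hne
  have ht1 : t ≠ 1 := fun e => by rw [e, orderOf_one] at ht2; omega
  have hgn : g * n ∈ centralizer ({t} : Set G) := by
    rw [mem_centralizer_singleton_iff]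
    calc g * n * t = g * (n * t * n⁻¹) * n := by group
      _ = g * (g⁻¹ * t * g) * n := by rw [hne]
      _ = t * (g * n) := by group
  have := mul_mem (h.centralizer_inv_le S hG htS ht1 hgn) (inv_mem hn)
  simpa using this

theorem OC.transitive (h : OC G r) (hna : ∃ x y : G, x * y ≠ y * x)
    (h2 : ∃ g : G, orderOf g = 2 * r) (hG : Good S r) {a b : G} (ha : a ∈ (S : Subgroup G)) (ha1 : a ≠ 1)
    (hb : b ∈ (S : Subgroup G)) (hb1 : b ≠ 1) :
    ∃ n ∈ normalizer ((S : Subgroup G) : Set G), n * a * n⁻¹ = b := by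
  haveI := Fact.mk Nat.prime_two
  obtain ⟨g, hg⟩ := isConj_iff.1 (Invol.isConj_involutions (h.strongly_embedded S hna h2 hG)
    (h.orderOf_sylow S ha ha1) (h.orderOf_sylow S hb hb1))
  obtain ⟨n, hn, hne⟩ := Transfer.exists_normalizer_conj_of_abelian S (h.two_comm S.isPGroup') (g := g) ha
    (hg.symm ▸ hb)
  exact ⟨n, hn, hne.trans hg⟩

theorem OC.exists_fixing (h : OC G r) (hna : ∃ x y : G, x * y ≠ y * x)
    (h2 : ∃ g : G, orderOf g = 2 * r) (hG : Good S r) :
    ∃ y ∈ normalizer ((S : Subgroup G) : Set G), orderOf y = r ∧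
      ∃ t ∈ (S : Subgroup G), t ≠ 1 ∧ y * t = t * y := by
  obtain ⟨g, hg⟩ := h2
  have hse := h.strongly_embedded S hna ⟨g, hg⟩ hG
  have ho2 : orderOf (g ^ r) = 2 := by
    rw [orderOf_pow, hg, Nat.gcd_eq_right (dvd_mul_left r 2), Nat.mul_div_cancel _ h.hr.pos]
  have hor : orderOf (g ^ 2) = r := by
    rw [orderOf_pow, hg, Nat.gcd_eq_right (dvd_mul_right 2 r), Nat.mul_div_cancel_left _ (by norm_num)]
  obtain ⟨c, hc⟩ := Invol.exists_fixed hse ho2
  have ho' : orderOf (c⁻¹ * g ^ r * c) = 2 := by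
    rw [← ho2, show c⁻¹ * g ^ r * c = c⁻¹ * g ^ r * c⁻¹⁻¹ by rw [inv_inv]]
    exact Invol.orderOf_conj_eq c⁻¹ _
  have htS := h.mem_sylow_of_involution S hc ho'
  have ht1 : c⁻¹ * g ^ r * c ≠ 1 := fun e => by rw [e, orderOf_one] at ho'; omega
  have hcomm : c⁻¹ * g ^ 2 * c * (c⁻¹ * g ^ r * c) = c⁻¹ * g ^ r * c * (c⁻¹ * g ^ 2 * c) := by
    have := (Commute.pow_pow (Commute.refl g) 2 r).eq
    calc c⁻¹ * g ^ 2 * c * (c⁻¹ * g ^ r * c) = c⁻¹ * (g ^ 2 * g ^ r) * c := by group
      _ = c⁻¹ * (g ^ r * g ^ 2) * c := by rw [this]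
      _ = _ := by group
  refine ⟨c⁻¹ * g ^ 2 * c, h.centralizer_inv_le S hG htS ht1 (mem_centralizer_singleton_iff.2 hcomm), ?_,
    _, htS, ht1, hcomm⟩
  rw [← hor, show c⁻¹ * g ^ 2 * c = c⁻¹ * g ^ 2 * c⁻¹⁻¹ by rw [inv_inv]]
  exact Invol.orderOf_conj_eq c⁻¹ _

/-- The data of the automizer: `M` is the preimage in `N(S)` of its normal subgroup of order `p`. -/
structure End (S : Sylow 2 G) (r p : ℕ) (M : Subgroup G) : Prop where
  prime : p.Prime
  odd : p ≠ 2
  card : Nat.card (S : Subgroup G) = p + 1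
  le : M ≤ normalizer ((S : Subgroup G) : Set G)
  normal : normalizer ((S : Subgroup G) : Set G) ≤ normalizer (M : Set G)
  cent_le : centralizer ((S : Subgroup G) : Set G) ≤ M
  pow_mem : ∀ n ∈ M, n ^ p ∈ centralizer ((S : Subgroup G) : Set G)
  of_pow : ∀ n ∈ normalizer ((S : Subgroup G) : Set G),
    n ^ p ∈ centralizer ((S : Subgroup G) : Set G) → n ∈ M
  fpf : ∀ n ∈ M, ∀ t ∈ (S : Subgroup G), t ≠ 1 → n * t = t * n →
    n ∈ centralizer ((S : Subgroup G) : Set G)
  comm : ∀ n ∈ M, ∀ m ∈ M, ⁅n, m⁆ ∈ centralizer ((S : Subgroup G) : Set G)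
  self_cent : ∀ n ∈ normalizer ((S : Subgroup G) : Set G), ∀ m ∈ M,
    m ∉ centralizer ((S : Subgroup G) : Set G) →
    ⁅n, m⁆ ∈ centralizer ((S : Subgroup G) : Set G) → n ∈ M
  rel : (centralizer ((S : Subgroup G) : Set G)).relIndex M = p
  cases : (∀ n ∈ normalizer ((S : Subgroup G) : Set G), n ∈ M) ∨
    (r ≠ p ∧ r < p ∧ M.relIndex (normalizer ((S : Subgroup G) : Set G)) = r ∧
      (∀ n ∈ normalizer ((S : Subgroup G) : Set G), n ^ r ∈ M))

theorem OC.exists_end (h : OC G r) (hna : ∃ x y : G, x * y ≠ y * x)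
    (h2 : ∃ g : G, orderOf g = 2 * r) (hG : Good S r) : ∃ p M, End S r p M := by
  classical
  haveI := Fact.mk Nat.prime_two
  letI : CommGroup ↥(S : Subgroup G) :=
    { (inferInstance : Group ↥(S : Subgroup G)) with
      mul_comm := fun a b => Subtype.ext (h.sylow_comm S a.2 b.2) }
  set N := normalizer ((S : Subgroup G) : Set G) with hN
  set φ : ↥N →* MulAut ↥(S : Subgroup G) := (S : Subgroup G).normalizerMonoidHom with hφ
  have hval : ∀ (n : ↥N) (s : ↥(S : Subgroup G)), ((φ n s : ↥(S : Subgroup G)) : G) = n * s * (n : G)⁻¹ :=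
    fun _ _ => rfl
  have hker : ∀ n : ↥N, φ n = 1 ↔ (n : G) ∈ centralizer ((S : Subgroup G) : Set G) := by
    intro n
    constructor
    · intro e
      rw [mem_centralizer_iff]
      intro s hs
      have h1 := congrArg Subtype.val (DFunLike.congr_fun e (⟨s, hs⟩ : ↥(S : Subgroup G)))
      rw [hval, MulAut.one_apply] at h1
      exact (mul_inv_eq_iff_eq_mul.1 h1).symm
    · intro hn
      refine MulEquiv.ext fun s => Subtype.ext ?_
      rw [hval, MulAut.one_apply]
      exact mul_inv_eq_iff_eq_mul.2 (mem_centralizer_iff.1 hn s s.2).symm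
  have hsplit : ∀ n : ↥N, φ n ≠ 1 →
      ((orderOf (n : G)).Prime ∧ orderOf (n : G) ≠ 2) ∨ φ n ^ r = 1 := by
    intro n hn
    have hn1 : (n : G) ≠ 1 := fun e => hn ((hker n).2 (e ▸ one_mem _))
    rcases h.ord _ hn1 with hp | he
    · exact Or.inl ⟨hp, fun e => hn ((hker n).2 (h.sylow_le_centralizer S (h.mem_sylow_of_involution S n.2 e)))⟩
    · refine Or.inr ?_
      rw [← map_pow, hker, SubmonoidClass.coe_pow]
      exact h.sylow_le_centralizer S (mem_sylow_of_two_power S (k := 1) (pow_mem n.2 r)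
        (by rw [← pow_mul, pow_one, mul_comm, ← he, pow_orderOf_eq_one]))
  have hA : ∀ α ∈ φ.range, α ≠ 1 → (orderOf α).Prime ∧ orderOf α ≠ 2 := by
    rintro _ ⟨n, rfl⟩ hn
    rcases hsplit n hn with ⟨hp, hp2⟩ | hr
    · have hd : orderOf (φ n) ∣ orderOf (n : G) := orderOf_coe n ▸ orderOf_map_dvd φ n
      rw [(hp.eq_one_or_self_of_dvd _ hd).resolve_left fun e => hn (orderOf_eq_one_iff.1 e)]
      exact ⟨hp, hp2⟩
    · haveI := Fact.mk h.hr
      rw [orderOf_eq_prime hr hn]
      exact ⟨h.hr, h.r2⟩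
  have hne1 : ∀ v : ↥(S : Subgroup G), v ≠ 1 → (v : G) ≠ 1 := fun v hv e => hv (Subtype.ext e)
  have htr : ∀ v w : ↥(S : Subgroup G), v ≠ 1 → w ≠ 1 → ∃ α ∈ φ.range, α v = w := by
    intro v w hv hw
    obtain ⟨n, hn, hne⟩ := h.transitive S hna h2 hG v.2 (hne1 v hv) w.2 (hne1 w hw)
    exact ⟨φ ⟨n, hn⟩, ⟨_, rfl⟩, Subtype.ext hne⟩
  have hst : ∀ α ∈ φ.range, ∀ v : ↥(S : Subgroup G), v ≠ 1 → α v = v → α ^ r = 1 := by
    rintro _ ⟨n, rfl⟩ v hv hfix
    by_cases hn : φ n = 1
    · rw [hn, one_pow]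
    rcases hsplit n hn with ⟨hp, hp2⟩ | hr
    · have hc : (n : G) * v = v * n := mul_inv_eq_iff_eq_mul.1 (congrArg Subtype.val hfix)
      have := h.comm_orders (x := (v : G)) (y := (n : G)) hc.symm (h.orderOf_sylow S v.2 (hne1 v hv)) rfl
        Nat.prime_two hp (Ne.symm hp2)
      rw [← map_pow, hker, SubmonoidClass.coe_pow, ← Nat.eq_of_mul_eq_mul_left (by norm_num) this,
        pow_orderOf_eq_one]
      exact one_mem _
    · exact hr
  have hV3 : 3 ≤ Nat.card ↥(S : Subgroup G) := by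
    by_contra hlt
    refine h.not_cyclic S hna h2 ?_
    obtain ⟨k, hk⟩ := IsPGroup.iff_card.1 S.isPGroup'
    rcases k with _ | _ | k
    · haveI : Subsingleton ↥(S : Subgroup G) :=
        (Nat.card_eq_one_iff_unique.1 (by rw [hk]; rfl)).1
      infer_instance
    · exact isCyclic_of_prime_card (p := 2) (by rw [hk]; rfl)
    · rw [hk, pow_succ, pow_succ] at hlt
      have := Nat.one_le_two_pow (n := k)
      omega
  obtain ⟨p, hp, hp2, hcard, X, hXA, hXc, hXn, hXfix, hXp, hself, hcases⟩ :=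
    aut_structure (fun v => Subtype.ext (h.sq S.isPGroup' v.2)) hV3 h.hr φ.range hA htr hst
  set M := (X.comap φ).map N.subtype with hM
  have hmem : ∀ n (hn : n ∈ N), n ∈ M ↔ φ ⟨n, hn⟩ ∈ X := by
    intro n hn
    refine ⟨?_, fun hx => ⟨⟨n, hn⟩, hx, rfl⟩⟩
    rintro ⟨m, hm, rfl⟩
    exact hm
  have hMN : M ≤ N := map_subtype_le _
  have hXcomm : ∀ a ∈ X, ∀ b ∈ X, a * b = b * a := by
    intro a ha b hb
    haveI := Fact.mk hp
    haveI : IsCyclic X := isCyclic_of_prime_card hXc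
    letI := (inferInstance : IsCyclic X).commGroup
    exact congrArg Subtype.val (mul_comm (⟨a, ha⟩ : ↥X) ⟨b, hb⟩)
  have hkerM : φ.ker.map N.subtype = centralizer ((S : Subgroup G) : Set G) := by
    ext x
    constructor
    · rintro ⟨n, hn, rfl⟩
      exact (hker n).1 hn
    · intro hx
      exact ⟨⟨x, centralizer_le_normalizer' S hx⟩, (hker _).2 hx, rfl⟩
  refine ⟨p, M, hp, hp2, hcard, hMN, ?_, ?_, ?_, ?_, ?_, ?_, ?_, ?_, ?_⟩
  · intro n hn
    have key : ∀ n ∈ N, ∀ x ∈ M, n * x * n⁻¹ ∈ M := by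
      rintro n hn _ ⟨x, hx, rfl⟩
      refine ⟨⟨n, hn⟩ * x * ⟨n, hn⟩⁻¹, ?_, rfl⟩
      rw [coe_comap, Set.mem_preimage, map_mul, map_mul, map_inv]
      exact (mem_normalizer_iff.1 (hXn ⟨_, rfl⟩) _).1 hx
    exact mem_normalizer_iff.2 fun x => ⟨key n hn x, fun hx => by
      simpa [mul_assoc] using key n⁻¹ (inv_mem hn) _ hx⟩
  · intro n hn
    rw [hmem n (centralizer_le_normalizer' S hn), (hker _).2 hn]
    exact one_mem _
  · rintro _ ⟨n, hn, rfl⟩
    refine (hker (n ^ p)).1 ?_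
    rw [map_pow, ← hXc]
    exact congrArg Subtype.val (pow_card_eq_one' (x := (⟨φ n, hn⟩ : ↥X)))
  · intro n hn hnp
    rw [hmem n hn]
    exact hXp _ ⟨_, rfl⟩ (by rw [← map_pow]; exact (hker _).2 hnp)
  · rintro _ ⟨n, hn, rfl⟩ t ht ht1 hc
    refine (hker n).1 ?_
    by_contra hne
    exact hXfix _ hn hne ⟨t, ht⟩ (fun e => ht1 (congrArg Subtype.val e))
      (Subtype.ext (by rw [hval]; exact mul_inv_eq_iff_eq_mul.2 hc))
  · rintro _ ⟨n, hn, rfl⟩ _ ⟨m, hm, rfl⟩
    refine (hker ⁅n, m⁆).1 ?_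
    rw [map_commutatorElement, commutatorElement_eq_one_iff_mul_comm]
    exact hXcomm _ hn _ hm
  · intro n hn m hm hmC hc
    rw [hmem n hn]
    refine hself _ ⟨_, rfl⟩ _ ((hmem m (hMN hm)).1 hm) (fun e => hmC ((hker _).1 e)) ?_
    have h1 : φ ⁅(⟨n, hn⟩ : ↥N), ⟨m, hMN hm⟩⁆ = 1 := (hker _).2 hc
    rw [map_commutatorElement, commutatorElement_eq_one_iff_mul_comm] at h1
    exact h1
  · rw [← hkerM, hM, relIndex_map_map_of_injective _ _ N.subtype_injective, ← MonoidHom.comap_bot,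
      relIndex_comap, map_comap_eq_self hXA, relIndex_bot_left, hXc]
  · rcases hcases with hA1 | ⟨hrp, hA2⟩
    · refine Or.inl fun n hn => (hmem n hn).2 ?_
      rw [eq_of_le_of_card_ge hXA (hA1.trans hXc.symm).le]
      exact ⟨_, rfl⟩
    · have hXnorm : X.relIndex φ.range = r := by
        have := card_mul_index (X.subgroupOf φ.range)
        rw [Nat.card_congr (subgroupOfEquivOfLe hXA).toEquiv, hA2, hXc] at this
        exact Nat.eq_of_mul_eq_mul_left hp.pos this
      have hrlt : r < p := by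
        obtain ⟨y, hy, hyo, t, ht, ht1, hyt⟩ := h.exists_fixing S hna h2 hG
        by_contra hge
        obtain ⟨⟨α, hα⟩, hαo⟩ := @exists_prime_orderOf_dvd_card' (↥φ.range) _ _ r ⟨h.hr⟩ (hA2 ▸ dvd_mul_left r p)
        rw [orderOf_mk] at hαo
        haveI := Fact.mk hp
        haveI : IsCyclic X := isCyclic_of_prime_card hXc
        haveI : Finite (MulAut ↥(S : Subgroup G)) :=
          Finite.of_injective (fun α : MulAut ↥(S : Subgroup G) => (α : _ → _)) DFunLike.coe_injective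
        set c : MulAut ↥X := X.normalizerMonoidHom ⟨α, hXn hα⟩
        have hc1 : orderOf c ∣ r := hαo ▸ by
          refine dvd_trans (orderOf_map_dvd _ _) ?_
          rw [orderOf_mk]
        have hc2 : orderOf c ∣ p - 1 := by
          have := orderOf_dvd_natCard c
          rwa [(inferInstance : IsCyclic X).card_mulAut ↥X, hXc, Nat.totient_prime hp] at this
        rcases h.hr.eq_one_or_self_of_dvd _ hc1 with e | e
        · obtain ⟨x, hx, hx1⟩ := (bot_or_exists_ne_one X).resolve_left fun e => by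
            rw [e, card_bot] at hXc; exact hp.one_lt.ne hXc
          have hcx := congrArg Subtype.val (DFunLike.congr_fun (orderOf_eq_one_iff.1 e) (⟨x, hx⟩ : ↥X))
          have hαX : α ∈ X := hself α hα x hx hx1 (mul_inv_eq_iff_eq_mul.1 hcx)
          have hd : orderOf α ∣ p := hXc ▸ orderOf_mk α hαX ▸ orderOf_dvd_natCard (⟨α, hαX⟩ : ↥X)
          exact hrp ((Nat.prime_dvd_prime_iff_eq h.hr hp).1 (hαo ▸ hd))
        · rw [e] at hc2
          have := hp.two_le
          have := Nat.le_of_dvd (by omega) hc2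
          omega
      have hrel : M.relIndex N = r := by
        have := relIndex_map_map_of_injective (X.comap φ) ⊤ N.subtype_injective
        rw [← MonoidHom.range_eq_map, range_subtype, relIndex_top_right, index_comap, hXnorm] at this
        exact this
      refine Or.inr ⟨hrp, hrlt, hrel, fun n hn => ?_⟩
      rw [hmem _ (pow_mem hn r), show (⟨n ^ r, pow_mem hn r⟩ : ↥N) = ⟨n, hn⟩ ^ r from rfl, map_pow]
      haveI : (X.subgroupOf φ.range).Normal :=
        (normal_subgroupOf_iff_le_normalizer hXA).2 hXn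
      have := pow_index_mem (X.subgroupOf φ.range) (⟨φ ⟨n, hn⟩, ⟨_, rfl⟩⟩ : ↥φ.range)
      rw [show (X.subgroupOf φ.range).index = r from hXnorm, mem_subgroupOf] at this
      exact this

end Cfsg.Agent.Recog.OneComp
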