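import Cfsg.Agent.Lib.Recog.OneComp.Basic
import Cfsg.Agent.Lib.Grp.Coprime
import Cfsg.Agent.Lib.Grp.Frattini

/-!
An elementary abelian 2-group normalizing an `r`-subgroup, together with elements of odd prime order
normalizing both: some subgroup of index two is invariant under all of them.
-/

set_option autoImplicit false
set_option linter.unusedSectionVars false

namespace Cfsg.Agent.Recog.OneComp

open Subgroup
open scoped Pointwise

section Abstract

variable {V : Type*} [CommGroup V] {ι : Type*}

/-- `v` is an eigenvector of the family `σ` with signs `e`. -/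
def Eigen (σ : ι → MulAut V) (e : ι → Bool) (v : V) : Prop :=
  ∀ s, σ s v = if e s then v else v⁻¹

/-- Eigenvectors with distinct sign functions are independent. -/
theorem eq_one_of_prod (hV : ∀ v : V, v * v = 1 → v = 1) (σ : ι → MulAut V) {κ : Type*}
    (e : κ → ι → Bool) (v : κ → V) (J : Finset κ) (heig : ∀ j ∈ J, Eigen σ (e j) (v j))
    (hinj : Set.InjOn e J) (hprod : ∏ j ∈ J, v j = 1) : ∀ j ∈ J, v j = 1 := by
  classical
  induction J using Finset.strongInduction with
  | H J ih =>
    intro a ha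
    by_cases hb : ∃ b ∈ J, b ≠ a
    · obtain ⟨b, hbJ, hba⟩ := hb
      obtain ⟨s, hs⟩ := Function.ne_iff.1 (fun he => hba (hinj hbJ ha he))
      have h1 : ∏ j ∈ J, σ s (v j) = 1 := by rw [← map_prod, hprod, map_one]
      have h2 : ∏ j ∈ J, v j * σ s (v j) = 1 := by rw [Finset.prod_mul_distrib, hprod, h1, one_mul]
      have h3 : ∏ j ∈ J, v j * σ s (v j) =
          (∏ j ∈ J.filter (fun j => e j s = true), v j) * ∏ j ∈ J.filter (fun j => e j s = true), v j := by
        rw [← Finset.prod_mul_distrib, Finset.prod_filter]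
        refine Finset.prod_congr rfl fun j hj => ?_
        rw [heig j hj s]
        cases e j s <;> simp
      have hT := hV _ (h3.symm.trans h2)
      have hF : ∏ j ∈ J.filter (fun j => ¬ e j s = true), v j = 1 := by
        have h4 := Finset.prod_filter_mul_prod_filter_not J (fun j => e j s = true) v
        rwa [hT, one_mul, hprod] at h4
      rcases Bool.eq_false_or_eq_true (e a s) with has | has
      · refine ih _ (Finset.filter_ssubset.2 ⟨b, hbJ, ?_⟩) (fun j hj => heig j (Finset.mem_filter.1 hj).1)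
          (hinj.mono fun j hj => (Finset.mem_filter.1 hj).1) hT a (Finset.mem_filter.2 ⟨ha, has⟩)
        exact fun he => hs (he.trans has.symm)
      · refine ih _ (Finset.filter_ssubset.2 ⟨b, hbJ, ?_⟩) (fun j hj => heig j (Finset.mem_filter.1 hj).1)
          (hinj.mono fun j hj => (Finset.mem_filter.1 hj).1) hF a
          (Finset.mem_filter.2 ⟨ha, by simp [has]⟩)
        rw [not_not]
        cases hbs : e b s
        · exact absurd (hbs.trans has.symm) hs
        · rfl
    · push Not at hb
      rw [Finset.prod_eq_single_of_mem a ha fun b hbJ hne => absurd (hb b hbJ) hne] at hprod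
      exact hprod

/-- A moved point yields a simultaneous eigenvector. -/
theorem exists_eigen [Finite ι] (hV : ∀ v : V, v * v = 1 → v = 1) (σ : ι → MulAut V)
    (hinv : ∀ s v, σ s (σ s v) = v) (hcomm : ∀ s t v, σ s (σ t v) = σ t (σ s v))
    {s0 : ι} {v : V} (hv : σ s0 v ≠ v) : ∃ e w, w ≠ 1 ∧ Eigen σ e w ∧ e s0 = false := by
  classical
  have := Fintype.ofFinite ι
  suffices H : ∀ J : Finset ι, ∃ w, w ≠ 1 ∧ σ s0 w = w⁻¹ ∧ ∀ s ∈ J, σ s w = w ∨ σ s w = w⁻¹ by
    obtain ⟨w, hw, hw0, hws⟩ := H Finset.univ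
    refine ⟨fun s => decide (σ s w = w), w, hw, fun s => ?_, ?_⟩
    · by_cases h : σ s w = w
      · simp [h]
      · simp [h, (hws s (Finset.mem_univ s)).resolve_left h]
    · refine decide_eq_false fun h => hw (hV w ?_)
      rw [hw0] at h
      calc w * w = w * w⁻¹ := by rw [h]
        _ = 1 := mul_inv_cancel w
  intro J
  induction J using Finset.induction_on with
  | empty =>
    refine ⟨v⁻¹ * σ s0 v, fun h => hv (inv_mul_eq_one.1 h).symm, ?_, by simp⟩
    rw [map_mul, map_inv, hinv, mul_inv_rev, inv_inv]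
  | @insert s J hsJ ih =>
    obtain ⟨w, hw, hw0, hws⟩ := ih
    by_cases hu : w * σ s w = 1
    · refine ⟨w, hw, hw0, fun t ht => ?_⟩
      rcases Finset.mem_insert.1 ht with rfl | ht
      · exact Or.inr (eq_inv_of_mul_eq_one_right hu)
      · exact hws t ht
    · refine ⟨w * σ s w, hu, ?_, fun t ht => ?_⟩
      · rw [map_mul, hcomm, hw0, map_inv, mul_inv]
      · rcases Finset.mem_insert.1 ht with rfl | ht
        · exact Or.inl (by rw [map_mul, hinv, mul_comm])
        · rcases hws t ht with h | h
          · exact Or.inl (by rw [map_mul, hcomm, h])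
          · exact Or.inr (by rw [map_mul, hcomm, h, map_inv, mul_inv])

/-- An automorphism of prime order with trivial norm fixes the sign function of every eigenvector. -/
theorem eigen_fixed_of_norm (hV : ∀ v : V, v * v = 1 → v = 1) (σ : ι → MulAut V) (τ : MulAut V)
    (ν : ι → ι) {q : ℕ} (hq : q.Prime) (hτ : ∀ s v, τ (σ s v) = σ (ν s) (τ v))
    (hνq : ν^[q] = id) (hnorm : ∀ v, ∏ i ∈ Finset.range q, (τ ^ i) v = 1) {e : ι → Bool} {v : V}
    (hv : v ≠ 1) (he : Eigen σ e v) : e ∘ ν = e := by
  classical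
  set E : (ι → Bool) → (ι → Bool) := fun f => f ∘ ν with hE
  have hEd : ∀ d, E^[d] e = e ∘ ν^[d] := by
    intro d
    induction d with
    | zero => rfl
    | succ d ih =>
      rw [Function.iterate_succ_apply', ih, hE, Function.iterate_succ, ← Function.comp_assoc]
  by_contra hne
  have hτi : ∀ (i : ℕ) (s : ι) (x : V), (τ ^ i) (σ s x) = σ (ν^[i] s) ((τ ^ i) x) := by
    intro i
    induction i with
    | zero => intro s x; rfl
    | succ i ih =>
      intro s x
      rw [pow_succ', MulAut.mul_apply, ih, hτ, Function.iterate_succ_apply', MulAut.mul_apply]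
  have hq0 : (E^[q]) e = e := by rw [hEd, hνq]; rfl
  have hper : ∀ d, 0 < d → d < q → E^[d] e ≠ e := by
    intro d hd hdq hde
    have h1 : Function.IsPeriodicPt E (Nat.gcd d q) e := Function.IsPeriodicPt.gcd hde hq0
    rw [show Nat.gcd d q = 1 from
      Nat.Coprime.symm ((hq.coprime_iff_not_dvd).2 fun h => by have := Nat.le_of_dvd hd h; omega)] at h1
    exact hne h1.eq
  have key := eq_one_of_prod hV σ (fun i => E^[q - i] e) (fun i => (τ ^ i) v) (Finset.range q) ?_ ?_
    (hnorm v) 0 (Finset.mem_range.2 hq.pos)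
  · exact hv key
  · intro i hi s
    have hi' := Finset.mem_range.1 hi
    have e1 : s = ν^[i] (ν^[q - i] s) := by
      rw [← Function.iterate_add_apply, Nat.add_sub_cancel' hi'.le, hνq]; rfl
    rw [e1, ← hτi, he, hEd, Function.comp_apply, ← e1]
    cases e (ν^[q - i] s) <;> simp
  · intro i hi j hj hij
    have hi' := Finset.mem_range.1 (Finset.mem_coe.1 hi)
    have hj' := Finset.mem_range.1 (Finset.mem_coe.1 hj)
    simp only at hij
    by_contra hne'
    wlog hlt : i < j generalizing i j
    · exact this hj hi hij.symm hj' hi' (Ne.symm hne') (by omega)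
    refine hper (j - i) (by omega) (by omega) ?_
    have := congrArg (E^[j]) hij
    rw [← Function.iterate_add_apply, ← Function.iterate_add_apply, show j + (q - j) = q by omega,
      show j + (q - i) = (j - i) + q by omega, Function.iterate_add_apply, hq0] at this
    exact this

end Abstract

section Group

open scoped commutatorElement

variable {G : Type*} [Group G] [Finite G] {r : ℕ}

/-- The action of the normalizer of `P` on the abelianization of `P`. -/
noncomputable def abAut (P : Subgroup G) :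
    ↥(normalizer (P : Set G)) →* MulAut (Abelianization ↥P) where
  toFun n := MulEquiv.abelianizationCongr (P.normalizerMonoidHom n)
  map_one' := by
    refine MulEquiv.ext fun x => ?_
    obtain ⟨x, rfl⟩ : ∃ y, Abelianization.of y = x := QuotientGroup.mk_surjective x
    simp
  map_mul' a b := by
    refine MulEquiv.ext fun x => ?_
    obtain ⟨x, rfl⟩ : ∃ y, Abelianization.of y = x := QuotientGroup.mk_surjective x
    simp

theorem abAut_of (P : Subgroup G) (n : ↥(normalizer (P : Set G))) (x : ↥P) :
    abAut P n (Abelianization.of x) = Abelianization.of (P.normalizerMonoidHom n x) := rfl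

theorem normalizerMonoidHom_coe (P : Subgroup G) (n : ↥(normalizer (P : Set G))) (x : ↥P) :
    ((P.normalizerMonoidHom n x : ↥P) : G) = n * x * (n : G)⁻¹ := rfl

/-- The powers of `x w`. -/
theorem mul_pow_eq (P : Subgroup G) (w : ↥(normalizer (P : Set G))) (x : ↥P) :
    ∀ k : ℕ, ∃ p : ↥P, ((x : G) * w) ^ k = p * (w : G) ^ k ∧
      Abelianization.of p = ∏ i ∈ Finset.range k, ((abAut P w) ^ i) (Abelianization.of x) := by
  intro k
  induction k with
  | zero => exact ⟨1, by simp, by simp⟩
  | succ k ih =>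
    obtain ⟨p, hp, hpof⟩ := ih
    refine ⟨p * P.normalizerMonoidHom (w ^ k) x, ?_, ?_⟩
    · rw [pow_succ, hp, coe_mul, normalizerMonoidHom_coe, SubmonoidClass.coe_pow, pow_succ]
      group
    · rw [map_mul, hpof, Finset.prod_range_succ, ← abAut_of, map_pow]

/-- In a group where every composite order equals `2 r`, the norm of an element of odd prime order
normalizing an `r`-subgroup is trivial. -/
theorem OC.pow_mul_eq_one (h : OC G r) {P : Subgroup G} (hP : IsPGroup r P) {w : G}
    (hw : w ∈ normalizer (P : Set G)) {q : ℕ} (hq : q.Prime) (hq2 : q ≠ 2) (hwq : orderOf w = q)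
    {x : G} (hx : x ∈ P) : (x * w) ^ q = 1 := by
  haveI := Fact.mk h.hr
  obtain ⟨p, hp, -⟩ := mul_pow_eq P ⟨w, hw⟩ ⟨x, hx⟩ q
  simp only at hp
  rw [← hwq, pow_orderOf_eq_one, mul_one] at hp
  rw [← hwq] at hq hq2 ⊢
  set q := orderOf w
  by_cases hxw : x * w = 1
  · rw [hxw, one_pow]
  have hqr : orderOf (x * w) ∣ q * r :=
    orderOf_dvd_of_pow_eq_one (by rw [pow_mul, hp, h.exponent hP p.2])
  have hodd : Odd (orderOf (x * w)) :=
    ((hq.odd_of_ne_two hq2).mul h.r_odd).of_dvd_nat hqr
  have hpr := h.prime_of_odd hxw hodd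
  rcases hpr.dvd_mul.1 hqr with hd | hd
  · exact orderOf_dvd_iff_pow_eq_one.1 hd
  · have hor := (Nat.prime_dvd_prime_iff_eq hpr h.hr).1 hd
    by_cases hqr' : q = r
    · rw [hqr', ← hor]; exact pow_orderOf_eq_one _
    · exfalso
      obtain ⟨p', hp', -⟩ := mul_pow_eq P ⟨w, hw⟩ ⟨x, hx⟩ r
      simp only at hp'
      rw [← hor, pow_orderOf_eq_one, hor] at hp'
      have hwr : w ^ r ∈ P := by
        rw [eq_inv_of_mul_eq_one_right hp'.symm]
        exact inv_mem p'.2
      have h2 : q ∣ r * r := orderOf_dvd_of_pow_eq_one (by rw [pow_mul, h.exponent hP hwr])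
      exact hqr' ((Nat.prime_dvd_prime_iff_eq hq h.hr).1 ((hq.dvd_mul.1 h2).elim id id))

/-- A 2-group normalizing an `r`-subgroup without centralizing it has a subgroup of index two invariant
under all elements of odd prime order normalizing both. -/
theorem OC.exists_weight (h : OC G r) {P S : Subgroup G} (hP : IsPGroup r P) (hS : IsPGroup 2 S)
    (hSP : S ≤ normalizer (P : Set G)) (hne : ¬ S ≤ centralizer (P : Set G)) :
    ∃ B : Subgroup G, B < S ∧ (∀ a ∈ S, a ∉ B → ∀ b ∈ S, b ∉ B → a * b ∈ B) ∧
      ∀ w ∈ normalizer (P : Set G), w ∈ normalizer (S : Set G) → (orderOf w).Prime → orderOf w ≠ 2 →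
        w ∈ normalizer (B : Set G) := by
  classical
  haveI := Fact.mk h.hr
  haveI := Fact.mk Nat.prime_two
  set V := Abelianization ↥P
  set σ : ↥S → MulAut V := fun s => abAut P (inclusion hSP s) with hσ
  have hVodd : ∀ v : V, v * v = 1 → v = 1 := by
    intro v hv
    obtain ⟨k, hk⟩ := (hP.of_surjective Abelianization.of QuotientGroup.mk_surjective) v
    refine orderOf_eq_one_iff.1 (Nat.eq_one_of_dvd_coprimes (a := 2) (b := r ^ k) ?_ ?_ ?_)
    · exact Nat.Coprime.pow_right k ((Nat.coprime_primes Nat.prime_two h.hr).2 (Ne.symm h.r2))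
    · exact orderOf_dvd_of_pow_eq_one (by rw [pow_two, hv])
    · exact orderOf_dvd_of_pow_eq_one hk
  have hmul : ∀ a b : ↥S, ∀ v, σ (a * b) v = σ a (σ b v) := fun a b v => by
    simp only [hσ, map_mul, MulAut.mul_apply]
  have hSab := h.two_comm hS
  have hinv : ∀ s v, σ s (σ s v) = v := fun s v => by
    rw [← hmul, show s * s = 1 from Subtype.ext (h.sq hS s.2)]
    simp [hσ]
  have hcomm : ∀ s t v, σ s (σ t v) = σ t (σ s v) := fun s t v => by
    rw [← hmul, ← hmul, hSab.is_comm.comm s t]
  -- the action on the abelianization is nontrivial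
  obtain ⟨s0, v0, hv0⟩ : ∃ s0 v0, σ s0 v0 ≠ v0 := by
    by_contra hall
    push Not at hall
    refine hne ?_
    have hco : (Nat.card S).Coprime (Nat.card P) := IsPGroup.coprime_card_of_ne 2 r (Ne.symm h.r2) S P hS hP
    have hN1 : P ≤ normalizer ((⁅P, P⁆ : Subgroup G) : Set G) := Grp.left_le_normalizer_commutator P P
    have hN2 : S ≤ normalizer ((⁅P, P⁆ : Subgroup G) : Set G) := by
      intro s hs
      rw [Grp.mem_normalizer_iff_smul, ← Grp.map_conj_eq_smul, map_commutator, Grp.map_conj_eq_smul,
        Grp.mem_normalizer_iff_smul.1 (hSP hs)]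
    set Cp : Subgroup ↥P := (centralizer (S : Set G)).subgroupOf P
    have hgen : Cp ⊔ frattini ↥P = ⊤ := by
      rw [eq_top_iff]
      intro x _
      obtain ⟨c, hc, hxc⟩ := Grp.exists_fixed_rep S P ⁅P, P⁆ hSP (Grp.inf_eq_bot_of_coprime hco)
        (hco.coprime_dvd_right (card_dvd_of_le (commutator_le_self P)))
        (Or.inl (by haveI := hS.isNilpotent; infer_instance)) (commutator_le_self P) hN1 hN2 x.2 (fun a ha => by
          rw [← map_subtype_commutator]
          refine ⟨P.normalizerMonoidHom ⟨a, hSP ha⟩ x * x⁻¹, ?_, by simp [normalizerMonoidHom_coe]⟩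
          rw [← Abelianization.ker_of, SetLike.mem_coe, MonoidHom.mem_ker, map_mul, map_inv, mul_inv_eq_one]
          exact hall ⟨a, ha⟩ (Abelianization.of x))
      rw [← map_subtype_commutator] at hxc
      obtain ⟨d, hd, hde⟩ := hxc
      have hd' : d ∈ frattini ↥P := Grp.pGroup_commutator_le_frattini hP hd
      have : x = ⟨c, hc.1⟩ * d⁻¹ := Subtype.ext (by
        simp only [coe_mul, coe_inv]
        rw [show ((d : ↥P) : G) = (x : G)⁻¹ * c from hde]
        group)
      rw [this]
      exact mul_mem_sup hc.2 (inv_mem hd')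
    intro s hs
    rw [mem_centralizer_iff]
    intro x hx
    have : (⟨x, hx⟩ : ↥P) ∈ Cp := by rw [frattini_nongenerating hgen]; trivial
    exact (mem_centralizer_iff.1 (mem_subgroupOf.1 this) s hs).symm
  obtain ⟨e, v, hv, he, he0⟩ := exists_eigen hVodd σ hinv hcomm hv0
  have hone : e 1 = true := by
    by_contra h1
    rw [Bool.not_eq_true] at h1
    have := he 1
    rw [h1] at this
    simp only [hσ, map_one, MulAut.one_apply, Bool.false_eq_true, if_false] at this
    exact hv (hVodd v (by nth_rw 2 [this]; exact mul_inv_cancel v))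
  have hxor : ∀ a b, e (a * b) = (e a == e b) := by
    intro a b
    have h1 := he (a * b)
    rw [hmul, he b] at h1
    have hvv : v ≠ v⁻¹ := fun hh => hv (hVodd v (eq_inv_iff_mul_eq_one.1 hh))
    cases ha : e a <;> cases hb : e b <;> cases hab : e (a * b) <;>
      simp only [ha, hb, hab, map_inv, he a, inv_inv, Bool.false_eq_true, if_false, if_true] at h1 ⊢ <;>
      first
        | rfl
        | exact absurd h1 hvv
        | exact absurd h1.symm hvv
        | exact absurd (inv_injective h1) hvv
        | exact absurd (inv_injective h1).symm hvv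
  let B : Subgroup G :=
    { carrier := {x | ∃ hx : x ∈ S, e ⟨x, hx⟩ = true}
      one_mem' := ⟨S.one_mem, hone⟩
      mul_mem' := by
        rintro a b ⟨ha, ea⟩ ⟨hb, eb⟩
        refine ⟨S.mul_mem ha hb, ?_⟩
        rw [show (⟨a * b, S.mul_mem ha hb⟩ : ↥S) = ⟨a, ha⟩ * ⟨b, hb⟩ from rfl, hxor, ea, eb]
        rfl
      inv_mem' := by
        rintro a ⟨ha, ea⟩
        rw [inv_eq_of_mul_eq_one_right (h.sq hS ha)]
        exact ⟨ha, ea⟩ }
  refine ⟨B, lt_of_le_of_ne (fun x hx => hx.1) fun hB => ?_, ?_, ?_⟩
  · have h1 : (s0 : G) ∈ B := hB.symm ▸ s0.2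
    obtain ⟨h2, h3⟩ := h1
    rw [Subtype.coe_eta, he0] at h3
    exact Bool.false_ne_true h3
  · intro a ha haB b hb hbB
    refine ⟨S.mul_mem ha hb, ?_⟩
    have ea : e ⟨a, ha⟩ = false := by
      by_contra h1; exact haB ⟨ha, Bool.eq_true_of_not_eq_false h1⟩
    have eb : e ⟨b, hb⟩ = false := by
      by_contra h1; exact hbB ⟨hb, Bool.eq_true_of_not_eq_false h1⟩
    rw [show (⟨a * b, S.mul_mem ha hb⟩ : ↥S) = ⟨a, ha⟩ * ⟨b, hb⟩ from rfl, hxor, ea, eb]
    rfl
  · intro w hwP hwS hwp hw2
    set ν : ↥S → ↥S := fun s => S.normalizerMonoidHom ⟨w, hwS⟩ s with hν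
    have hfix : e ∘ ν = e := by
      refine eigen_fixed_of_norm hVodd σ (abAut P ⟨w, hwP⟩) ν hwp (fun s u => ?_) ?_ ?_ hv he
      · simp only [hσ]
        rw [← MulAut.mul_apply, ← MulAut.mul_apply, ← map_mul, ← map_mul]
        congr 2
        exact Subtype.ext (by simp [hν, normalizerMonoidHom_coe, mul_assoc])
      · funext s
        have : ∀ k : ℕ, ν^[k] s = (S.normalizerMonoidHom (⟨w, hwS⟩ ^ k)) s := by
          intro k
          induction k with
          | zero => simp
          | succ k ih => rw [Function.iterate_succ_apply', ih, pow_succ', map_mul]; rfl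
        rw [this]
        exact Subtype.ext (by
          rw [normalizerMonoidHom_coe, SubmonoidClass.coe_pow, pow_orderOf_eq_one]; simp)
      · intro u
        obtain ⟨x, rfl⟩ : ∃ y, Abelianization.of y = u := QuotientGroup.mk_surjective u
        obtain ⟨p, hp, hpof⟩ := mul_pow_eq P ⟨w, hwP⟩ x (orderOf w)
        simp only at hp
        rw [pow_orderOf_eq_one, mul_one, h.pow_mul_eq_one hP hwP hwp hw2 rfl x.2] at hp
        rw [← hpof, show p = 1 from Subtype.ext hp.symm, map_one]
    have hmap : ∀ x, x ∈ B → w * x * w⁻¹ ∈ B := by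
      rintro x ⟨hx, ex⟩
      exact ⟨(mem_normalizer_iff.1 hwS x).1 hx, by
        have := congrFun hfix ⟨x, hx⟩
        rw [ex] at this
        exact this⟩
    exact mem_normalizer_iff.2 fun x => ⟨hmap x, fun hx => by
      obtain ⟨hx1, ex⟩ := hx
      have hxS := (mem_normalizer_iff.1 hwS x).2 hx1
      refine ⟨hxS, ?_⟩
      have := congrFun hfix ⟨x, hxS⟩
      exact this.symm.trans ex⟩

end Group

end Cfsg.Agent.Recog.OneComp
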